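import Cfsg.Agent.CentSixSeven.Single

/-!
The action of the normalizers of the elementary abelian subgroups when the odd involutions are fused.
-/

set_option autoImplicit false
set_option linter.unusedSectionVars false
set_option linter.style.haveILetI false
set_option maxRecDepth 8000
set_option maxHeartbeats 1000000

namespace CfsgLib.CentSixSeven

open Subgroup MulAction

/-- Values on the basis of an additive map of indices. -/
abbrev Q := Fin 16 × Fin 16 × Fin 16 × Fin 16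

def ev (q : Q) (k : Fin 16) : Fin 16 := lin q.1 q.2.1 q.2.2.1 q.2.2.2 k

def qcomp (p q : Q) : Q := (ev p q.1, ev p q.2.1, ev p q.2.2.1, ev p q.2.2.2)

/-- Quantify over a list rather than over all values. -/
instance (priority := 10000) decBallQ (l : List Q) (p : Q → Prop) [DecidablePred p] :
    Decidable (∀ q ∈ l, p q) := List.decidableBAll p l

instance (priority := 10000) decBexQ (l : List Q) (p : Q → Prop) [DecidablePred p] :
    Decidable (∃ q ∈ l, p q) := List.decidableBEx p l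

def qI : Q := (1, 2, 4, 8)

def qS : Q := (1, 4, 2, 8)

def six : List Q := [(1, 2, 4, 8), (2, 4, 1, 8), (4, 1, 2, 8), (1, 4, 2, 8), (2, 1, 4, 8), (4, 2, 1, 8)]

theorem xr_zero : ∀ a : Fin 16, xr a 0 = a ∧ xr 0 a = a := by decide +kernel

theorem ev_basis (q : Q) :
    ev q 1 = q.1 ∧ ev q 2 = q.2.1 ∧ ev q 4 = q.2.2.1 ∧ ev q 8 = q.2.2.2 := by
  simp [ev, lin, (xr_zero _).1, (xr_zero _).2]

theorem q_ext {p q : Q} (h : ∀ k, ev p k = ev q k) : p = q := by
  refine Prod.ext ?_ (Prod.ext ?_ (Prod.ext ?_ ?_))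
  · simpa [(ev_basis _).1] using h 1
  · simpa [(ev_basis _).2.1] using h 2
  · simpa [(ev_basis _).2.2.1] using h 4
  · simpa [(ev_basis _).2.2.2] using h 8

theorem ev_qI : ∀ k, ev qI k = k := by decide +kernel

theorem conjs_six : ∀ i, ∀ s ∈ conjs i, ∃ q ∈ six, ∀ k, s * aEl i k * s⁻¹ = aEl i (ev q k) := by
  decide +kernel

theorem six_conjs : ∀ i, ∀ q ∈ six, ∃ s ∈ conjs i, ∀ k, s * aEl i k * s⁻¹ = aEl i (ev q k) := by
  decide +kernel

theorem six_facts : ∀ q ∈ six, ev q 8 = 8 ∧ ev q 6 ∈ [3, 5, 6] ∧ ev q 7 = 7 := by decide +kernel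

theorem sig_qS : ∀ i k, ((1, sigP i) : M6) * aEl i k * (1, sigP i)⁻¹ = aEl i (ev qS k) := by decide +kernel

theorem high_rep : ∀ k : Fin 16, 8 ≤ k.val →
    ∃ q ∈ six, ev q k = 8 ∨ ev q k = 9 ∨ ev q k = 14 ∨ ev q k = 15 := by
  decide +kernel

theorem high_iff : ∀ i k, tabR (cand false false true true true) (aEl i k) = true ↔ 8 ≤ k.val := by
  decide +kernel

theorem pattern_R_bit : ∀ m ∈ tList, tabR (cand false false true true true) m = true ↔
    (m.1 = b1 ∧ m * m = 1) := by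
  decide +kernel

namespace Data

variable {G : Type*} [Group G] (D : Data G)

/-- The normalizer of `A i`. -/
def X (i : Bool) : Subgroup G := normalizer ((D.A i : Subgroup G) : Set G)

/-- `x` normalizes `A i` and acts on its indices by `q`. -/
def Act (x : G) (i : Bool) (q : Q) : Prop := D.Maps x i i (ev q)

theorem act_of_maps {x : G} {i : Bool} {f : Fin 16 → Fin 16} (h : D.Maps x i i f) :
    D.Act x i (f 1, f 2, f 4, f 8) := by
  intro k
  rw [h k, eq_lin (Maps.add D h) k]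
  rfl

theorem Act.uniq {x : G} {i : Bool} {p q : Q} (hp : D.Act x i p) (hq : D.Act x i q) : p = q :=
  q_ext fun k => aEl_inj i _ _ (D.inj ((hp k).symm.trans (hq k)))

theorem Act.mul {x y : G} {i : Bool} {p q : Q} (hp : D.Act x i p) (hq : D.Act y i q) :
    D.Act (x * y) i (qcomp p q) := by
  have h := D.act_of_maps (Maps.comp D hq hp)
  obtain ⟨e1, e2, e4, e8⟩ := ev_basis q
  simpa [Function.comp, e1, e2, e4, e8, qcomp] using h

theorem act_one (i : Bool) : D.Act 1 i qI := by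
  intro k; rw [ev_qI]; group

theorem Act.qI_right {x : G} {i : Bool} {p : Q} (h : D.Act x i p) : qcomp p qI = p :=
  Act.uniq D (by simpa using Act.mul D h (D.act_one i)) h

theorem Act.mem [Finite G] {x : G} {i : Bool} {q : Q} (h : D.Act x i q) : x ∈ D.X i := by
  refine D.mem_normalizer_map (AM i) ?_
  rintro _ ⟨k, rfl⟩
  exact ⟨_, aEl_mem i _, h k⟩

theorem exists_act {x : G} {i : Bool} (hx : x ∈ D.X i) : ∃ q, D.Act x i q := by
  have : ∀ k, ∃ l, x * D.j (aEl i k) * x⁻¹ = D.j (aEl i l) := by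
    intro k
    obtain ⟨m', ⟨l, rfl⟩, he⟩ := D.exists_of_normalizer (AM i) hx (aEl_mem i k)
    exact ⟨l, he⟩
  choose f hf using this
  exact ⟨_, D.act_of_maps hf⟩

theorem Act.inv [Finite G] {x : G} {i : Bool} {q : Q} (h : D.Act x i q) :
    ∃ q', D.Act x⁻¹ i q' ∧ qcomp q q' = qI ∧ qcomp q' q = qI := by
  obtain ⟨q', hq'⟩ := D.exists_act ((D.X i).inv_mem (Act.mem D h))
  refine ⟨q', hq', Act.uniq D ?_ (D.act_one i), Act.uniq D ?_ (D.act_one i)⟩
  · simpa using Act.mul D h hq'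
  · simpa using Act.mul D hq' h

theorem Act.t_image {x : G} {i : Bool} {q : Q} (h : D.Act x i q) :
    x * D.t * x⁻¹ = D.j (aEl i (ev q 8)) := by
  rw [← h, aEl_eight]; rfl

theorem fix_iff_eight {x : G} {i : Bool} {q : Q} (h : D.Act x i q) :
    x * D.t * x⁻¹ = D.t ↔ ev q 8 = 8 := by
  rw [Act.t_image D h]
  constructor
  · intro e
    refine aEl_inj i _ _ (D.inj (e.trans ?_))
    rw [aEl_eight]; rfl
  · intro e; rw [e, aEl_eight]; rfl

theorem mem_C_of_fix {x : G} (h : x * D.t * x⁻¹ = D.t) : x ∈ centralizer ({D.j tM} : Set G) :=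
  mem_centralizer_singleton_iff.2 (mul_inv_eq_iff_eq_mul.1 h)

/-- The stabilizer of `t` acts as six permutations. -/
theorem act_six {x : G} {i : Bool} {q : Q} (h : D.Act x i q) (h8 : ev q 8 = 8) : q ∈ six := by
  obtain ⟨s, hs, hsm⟩ := D.permA i x (D.mem_C_of_fix ((D.fix_iff_eight h).2 h8))
    (by rintro _ ⟨k, rfl⟩; exact ⟨_, aEl_mem i _, h k⟩)
  obtain ⟨r, hr, hrk⟩ := conjs_six i s hs
  have : D.Act x i r := fun k => by rw [hsm _ (aEl_mem i k), hrk]
  rwa [Act.uniq D h this]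

theorem six_real (i : Bool) {q : Q} (hq : q ∈ six) : ∃ x : G, D.Act x i q := by
  obtain ⟨s, -, hsk⟩ := six_conjs i q hq
  exact ⟨D.j s, fun k => by rw [← map_inv, ← map_mul, ← map_mul, hsk]⟩

theorem act_A {i : Bool} {a : G} (ha : a ∈ D.A i) : D.Act a i qI := by
  obtain ⟨l, rfl⟩ := D.mem_A ha
  intro k
  rw [ev_qI, mul_inv_eq_iff_eq_mul, ← map_mul, ← map_mul, aEl_xr, aEl_xr,
    show xr l k = xr k l from Fin.ext (by rw [xr_val, xr_val, Nat.xor_comm])]

theorem mem_A_of_act {x : G} {i : Bool} (h : D.Act x i qI) : x ∈ D.A i := by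
  refine D.selfA i x (D.mem_C_of_fix ((D.fix_iff_eight h).2 (ev_qI 8))) ?_
  rintro _ ⟨k, rfl⟩
  rw [h k, ev_qI]

theorem fibre [Finite G] {x y : G} {i : Bool} {q : Q} (hx : D.Act x i q) (hy : D.Act y i q) :
    x⁻¹ * y ∈ D.A i := by
  obtain ⟨q', hq', -, e⟩ := Act.inv D hx
  exact D.mem_A_of_act (e ▸ Act.mul D hq' hy)

theorem act_mul_A {x a : G} {i : Bool} {q : Q} (hx : D.Act x i q) (ha : a ∈ D.A i) :
    D.Act (x * a) i q := by
  have := Act.mul D hx (D.act_A ha)
  rwa [Act.qI_right D hx] at this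

theorem act_T {y : G} (hy : y ∈ D.T) (i : Bool) : D.Act y i qI ∨ D.Act y i qS := by
  obtain ⟨m, hm, rfl⟩ := D.T_cases hy
  have hsig : D.Act (D.j (1, sigP i)) i qS := fun k => by
    rw [← map_inv, ← map_mul, ← map_mul, sig_qS]
  rcases T_decomp i m hm with h | h
  · obtain ⟨k, -, rfl⟩ := List.mem_map.1 h
    exact Or.inl (D.act_A (D.aEl_mem_A i k))
  · obtain ⟨k, -, hk⟩ := List.mem_map.1 h
    right
    have e : m = aEl i k * ((1, sigP i) : M6) := by
      rw [hk, mul_assoc]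
      have : ∀ i, ((1, sigP i) : M6) * (1, sigP i) = 1 := by decide +kernel
      rw [this, mul_one]
    have h2 := Act.mul D (D.act_A (D.aEl_mem_A i k)) hsig
    rw [← map_mul, ← e] at h2
    have e2 : qcomp qI qS = qS := by decide +kernel
    rwa [e2] at h2

theorem sig_act' (i : Bool) : D.Act (D.j (1, sigP i)) i qS := fun k => by
  rw [← map_inv, ← map_mul, ← map_mul, sig_qS]

theorem sig_T (i : Bool) : D.j (1, sigP i) ∈ D.T := mem_map_of_mem _ (sig_mem_T i)

theorem T_le_X [Finite G] (i : Bool) : D.T ≤ D.X i := fun _ hy =>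
  (D.act_T hy i).elim (Act.mem D) (Act.mem D)

/-- Every element of the normalizer of `A i` is an element of `N` between two of the stabilizer. -/
theorem decomp [Finite G] (h : D.HasPattern false false true true true) {x : G} {i : Bool}
    (hx : x ∈ D.X i) :
    ∃ g n r p q, x = g * n * r ∧ n ∈ normalizer (D.T : Set G) ∧
      (∃ s ∈ six, D.Act g i s) ∧ D.Act n i p ∧ q ∈ six ∧ D.Act r i q := by
  obtain ⟨q0, hq0⟩ := D.exists_act hx
  have hR : D.InR (aEl i (ev q0 8)) := isConj_iff.2 ⟨x, Act.t_image D hq0⟩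
  have hT : aEl i (ev q0 8) ∈ tList := mem_tList.2 (aEl_mem_T _ _)
  have hhigh := (high_iff i (ev q0 8)).1 ((D.inR_tab h hT).1 hR)
  obtain ⟨s, hs, hm⟩ := high_rep _ hhigh
  obtain ⟨g, hg⟩ := D.six_real i hs
  have hy := Act.mul D hg hq0
  have hz : zI (ev s (ev q0 8)) = true := by rcases hm with e | e | e | e <;> rw [e] <;> rfl
  have e8 : (g * x) * D.t * (g * x)⁻¹ = D.j (aEl i (ev s (ev q0 8))) := by
    rw [Act.t_image D hy, (ev_basis (qcomp s q0)).2.2.2, (ev_basis q0).2.2.2]; rfl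
  obtain ⟨n, hn, hnX, hnt⟩ := D.adjust ((zI_iff i _).1 hz) e8 (D.X i) (D.T_le_X i) (Act.mem D hy)
  obtain ⟨p, hp⟩ := D.exists_act hnX
  obtain ⟨q, hq⟩ := D.exists_act (mul_mem (inv_mem hnX) (Act.mem D hy))
  have hfix : n⁻¹ * (g * x) * D.t * (n⁻¹ * (g * x))⁻¹ = D.t := by
    rw [show n⁻¹ * (g * x) * D.t * (n⁻¹ * (g * x))⁻¹
      = n⁻¹ * (g * x * D.t * (g * x)⁻¹) * n by group, e8, ← hnt]
    group
  obtain ⟨s', hs', -⟩ := Act.inv D hg
  have hs6 : s' ∈ six := D.act_six hs' ((D.fix_iff_eight hs').1 (by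
    have hgt := (D.fix_iff_eight hg).2 (six_facts s hs).1
    calc g⁻¹ * D.t * g⁻¹⁻¹ = g⁻¹ * (g * D.t * g⁻¹) * g := by rw [hgt]; group
      _ = D.t := by group))
  exact ⟨g⁻¹, n, n⁻¹ * (g * x), p, q, by group, hn, ⟨s', hs6, hs'⟩, hp,
    D.act_six hq ((D.fix_iff_eight hq).1 hfix), hq⟩

/-- Two elements of the normalizer of `T` with the same effect on `t`. -/
theorem coset_of_eq [Finite G] {n m : G} (hn : n ∈ normalizer (D.T : Set G))
    (hm : m ∈ normalizer (D.T : Set G)) (h : n * D.t * n⁻¹ = m * D.t * m⁻¹) : n⁻¹ * m ∈ D.T := by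
  refine D.NT_stab (mul_mem (inv_mem hn) hm) ?_
  rw [show n⁻¹ * m * D.t * (n⁻¹ * m)⁻¹ = n⁻¹ * (m * D.t * m⁻¹) * n by group, ← h]
  group

/-! ### Counting fused elements by their action -/

/-- The number of conjugates of `t` acting by `q`. -/
noncomputable def rn (i : Bool) (q : Q) : ℕ := Nat.card {y : G // IsConj D.t y ∧ D.Act y i q}

theorem card_union [Finite G] (P : G → Prop) (i : Bool) (F : List Q) (hF : F.Nodup) :
    Nat.card {y : G // P y ∧ ∃ q ∈ F, D.Act y i q}
      = (F.map (fun q => Nat.card {y : G // P y ∧ D.Act y i q})).sum := by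
  classical
  rw [← List.sum_toFinset _ hF]
  have e : {y : G // P y ∧ ∃ q ∈ F, D.Act y i q} ≃
      Σ q : ↥(F.toFinset), {y : G // P y ∧ D.Act y i q.1} :=
    { toFun := fun y => ⟨⟨y.2.2.choose, List.mem_toFinset.2 y.2.2.choose_spec.1⟩, y.1, y.2.1,
        y.2.2.choose_spec.2⟩
      invFun := fun z => ⟨z.2.1, z.2.2.1, z.1.1, List.mem_toFinset.1 z.1.2, z.2.2.2⟩
      left_inv := fun _ => rfl
      right_inv := fun ⟨⟨q, hq⟩, ⟨y, hy, ha⟩⟩ => by
        have hh : ∃ q ∈ F, D.Act y i q := ⟨q, List.mem_toFinset.1 hq, ha⟩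
        exact Sigma.subtype_ext (Subtype.ext (Act.uniq D hh.choose_spec.2 ha)) rfl }
  rw [Nat.card_congr e, Nat.card_sigma, Finset.univ_eq_attach]
  exact Finset.sum_attach F.toFinset (fun q => Nat.card {y : G // P y ∧ D.Act y i q})

theorem card_union_rn [Finite G] (i : Bool) (F : List Q) (hF : F.Nodup) :
    Nat.card {y : G // IsConj D.t y ∧ ∃ q ∈ F, D.Act y i q} = (F.map (D.rn i)).sum :=
  D.card_union _ i F hF

theorem card_fibre [Finite G] {x : G} {i : Bool} {q : Q} (hx : D.Act x i q) :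
    Nat.card {y : G // D.Act y i q} = 16 := by
  rw [← D.card_A i]
  exact Nat.card_congr
    { toFun := fun y => ⟨x⁻¹ * y.1, D.fibre hx y.2⟩
      invFun := fun a => ⟨x * a.1, D.act_mul_A hx a.2⟩
      left_inv := fun y => Subtype.ext (by simp)
      right_inv := fun a => Subtype.ext (by simp) }

theorem card_act_union [Finite G] (i : Bool) (F : List Q) (hF : F.Nodup)
    (hreal : ∀ q ∈ F, ∃ x, D.Act x i q) :
    Nat.card {y : G // ∃ q ∈ F, D.Act y i q} = 16 * F.length := by
  have h1 := D.card_union (fun _ => True) i F hF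
  rw [List.map_congr_left (g := fun _ => 16) (fun q hq => by
    obtain ⟨x, hx⟩ := hreal q hq
    rw [Nat.card_congr (Equiv.subtypeEquivRight fun y => iff_of_eq (true_and (D.Act y i q)))]
    exact D.card_fibre hx)] at h1
  rw [Nat.card_congr (Equiv.subtypeEquivRight fun y => iff_of_eq (true_and (∃ q ∈ F, D.Act y i q)))] at h1
  rw [h1, List.map_const', List.sum_replicate, smul_eq_mul, mul_comm]

theorem rn_zero [Finite G] {i : Bool} {q : Q} (h : qcomp q q ≠ qI) : D.rn i q = 0 := by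
  haveI : IsEmpty {y : G // IsConj D.t y ∧ D.Act y i q} := ⟨fun y => h (Act.uniq D
    (Act.mul D y.2.2 y.2.2) (by rw [D.inv_of_conj y.2.1]; exact D.act_one i))⟩
  exact Nat.card_of_isEmpty

/-- The count is invariant under conjugation. -/
theorem rn_conj [Finite G] {i : Bool} {g p q : Q} {x y : G} (hx : D.Act x i g) (hy : D.Act y i q)
    (h : qcomp g p = qcomp q g) : D.rn i p = D.rn i q := by
  have hto : ∀ z, D.Act z i p → D.Act (x * z * x⁻¹) i q := by
    intro z hz
    have h1 := D.fibre (h ▸ Act.mul D hx hz : D.Act (x * z) i (qcomp q g)) (Act.mul D hy hx)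
    have h2 : x * z * x⁻¹ = y * (x * ((x * z)⁻¹ * (y * x))⁻¹ * x⁻¹) := by group
    rw [h2]
    refine D.act_mul_A hy ?_
    obtain ⟨l, hl⟩ := D.mem_A (inv_mem h1)
    rw [← hl, hx]
    exact D.aEl_mem_A _ _
  have hfrom : ∀ z, D.Act z i q → D.Act (x⁻¹ * z * x) i p := by
    intro z hz
    obtain ⟨g', hg', e1, e2⟩ := Act.inv D hx
    obtain ⟨p', hp'⟩ := D.exists_act (mul_mem (mul_mem (inv_mem (Act.mem D hx)) (Act.mem D hz)) (Act.mem D hx))
    have h1 : qcomp g p' = qcomp q g := Act.uniq D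
      (by simpa [mul_assoc] using Act.mul D hx hp') (Act.mul D hz hx)
    have hinj : Function.Injective (ev g) := Maps.inj D hx
    have : p' = p := by
      rw [← h] at h1
      simp only [qcomp, Prod.mk.injEq] at h1
      exact Prod.ext (hinj h1.1) (Prod.ext (hinj h1.2.1) (Prod.ext (hinj h1.2.2.1) (hinj h1.2.2.2)))
    rwa [← this]
  refine Nat.card_congr
    { toFun := fun z => ⟨x * z.1 * x⁻¹, IsConj.trans z.2.1 (isConj_iff.2 ⟨x, rfl⟩), hto _ z.2.2⟩
      invFun := fun z => ⟨x⁻¹ * z.1 * x, IsConj.trans z.2.1 (isConj_iff.2 ⟨x⁻¹, by simp⟩), hfrom _ z.2.2⟩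
      left_inv := fun z => Subtype.ext (show x⁻¹ * (x * z.1 * x⁻¹) * x = z.1 by group)
      right_inv := fun z => Subtype.ext (show x * (x⁻¹ * z.1 * x) * x⁻¹ = z.1 by group) }

theorem rn_sig_fibre [Finite G] (h : D.HasPattern false false true true true) (i : Bool) :
    D.rn i qI = 8 ∧ D.rn i qS = 4 := by
  have hmem : ∀ y, (D.Act y i qI ∨ D.Act y i qS) → y ∈ D.T := by
    rintro y (hy | hy)
    · exact D.A_le_T i (D.mem_A_of_act hy)
    · have := mul_mem (D.sig_T i) (D.A_le_T i (D.fibre (D.sig_act' i) hy))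
      simpa using this
  have hIS : qS ≠ qI := by decide +kernel
  have key : ∀ (q : Q) (P : M6 → Bool), (q = qI ∨ q = qS) →
      (∀ m ∈ tList, D.Act (D.j m) i q ↔ P m = true) → D.rn i q =
      (tList.toFinset.filter (fun m => tabR (cand false false true true true) m = true ∧ P m = true)).card := by
    intro q P hq hP
    rw [rn, ← Fintype.card_coe, ← Nat.card_eq_fintype_card]
    refine (Nat.card_congr (Equiv.ofBijective (fun m => (⟨D.j m.1, ?_, ?_⟩ :
      {y : G // IsConj D.t y ∧ D.Act y i q})) ⟨?_, ?_⟩)).symm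
    · obtain ⟨hm, h1, -⟩ := Finset.mem_filter.1 m.2
      exact (D.inR_tab h (List.mem_toFinset.1 hm)).2 h1
    · obtain ⟨hm, -, h2⟩ := Finset.mem_filter.1 m.2
      exact (hP _ (List.mem_toFinset.1 hm)).2 h2
    · exact fun a b e => Subtype.ext (D.inj (congrArg Subtype.val e))
    · rintro ⟨y, hy, ha⟩
      obtain ⟨m, hm, rfl⟩ := D.T_cases (hmem y (by rcases hq with rfl | rfl <;> [exact Or.inl ha; exact Or.inr ha]))
      exact ⟨⟨m, Finset.mem_filter.2 ⟨List.mem_toFinset.2 hm, (D.inR_tab h hm).1 hy, (hP m hm).1 ha⟩⟩, rfl⟩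
  have hA : ∀ m ∈ tList, D.Act (D.j m) i qI ↔ decide (m ∈ aList i) = true := by
    intro m hm
    rw [decide_eq_true_iff]
    constructor
    · intro hact
      obtain ⟨k, hk⟩ := D.mem_A (D.mem_A_of_act hact)
      rw [← D.inj hk]
      exact List.mem_map.2 ⟨k, List.mem_finRange k, rfl⟩
    · intro hm
      obtain ⟨k, -, rfl⟩ := List.mem_map.1 hm
      exact D.act_A (D.aEl_mem_A i k)
  have hB : ∀ m ∈ tList, D.Act (D.j m) i qS ↔ decide (m ∉ aList i) = true := by
    intro m hm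
    rw [decide_eq_true_iff]
    constructor
    · intro hact hmA
      exact hIS (Act.uniq D hact ((hA m hm).2 (decide_eq_true hmA)))
    · intro hmA
      rcases D.act_T (mem_map_of_mem D.j (mem_tList.1 hm)) i with e | e
      · exact absurd (of_decide_eq_true ((hA m hm).1 e)) hmA
      · exact e
  have c : ∀ i, (tList.toFinset.filter (fun m => tabR (cand false false true true true) m = true ∧
        decide (m ∈ aList i) = true)).card = 8 ∧
      (tList.toFinset.filter (fun m => tabR (cand false false true true true) m = true ∧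
        decide (m ∉ aList i) = true)).card = 4 := by decide +kernel
  exact ⟨(key qI _ (Or.inl rfl) hA).trans (c i).1, (key qS _ (Or.inr rfl) hB).trans (c i).2⟩

/-- The elements of `A i` fixed by an acting element bound the count. -/
theorem rn_le_fix [Finite G] {i : Bool} {q : Q} :
    D.rn i q ≤ ((Finset.univ : Finset (Fin 16)).filter (fun k => ev q k = k)).card := by
  classical
  rcases isEmpty_or_nonempty {y : G // IsConj D.t y ∧ D.Act y i q} with he | ⟨⟨x, hxR, hx⟩⟩
  · rw [rn, Nat.card_of_isEmpty]; exact Nat.zero_le _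
  have hk : ∀ y : {y : G // IsConj D.t y ∧ D.Act y i q}, ∃ k, y.1 = x * D.j (aEl i k) ∧ ev q k = k := by
    rintro ⟨y, hyR, hy⟩
    obtain ⟨k, hk⟩ := D.mem_A (D.fibre hx hy)
    refine ⟨k, by rw [hk]; group, aEl_inj i _ _ (D.inj ?_)⟩
    rw [← hx k, hk]
    have h1 : x⁻¹ = x := inv_eq_of_mul_eq_one_right (D.inv_of_conj hxR)
    have h2 : y⁻¹ = y := inv_eq_of_mul_eq_one_right (D.inv_of_conj hyR)
    have h3 : (x⁻¹ * y)⁻¹ = x⁻¹ * y := by
      rw [← hk, ← map_inv]
      have : ∀ i k, (aEl i k)⁻¹ = aEl i k := by decide +kernel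
      rw [this]
    rw [mul_inv_rev, inv_inv, h2] at h3
    rw [← h3]
    conv_lhs => rw [show x * (y * x) * x⁻¹ = x * y by group]
    rw [h1] at h3
    rw [h3]
  choose f hf using hk
  rw [rn, ← Fintype.card_coe, ← Nat.card_eq_fintype_card]
  refine Nat.card_le_card_of_injective (fun y => ⟨f y, by simp [(hf y).2]⟩) fun a b e => Subtype.ext ?_
  rw [(hf a).1, (hf b).1, show f a = f b from congrArg Subtype.val e]

end Data

end CfsgLib.CentSixSeven
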