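import Mathlib

/-!
Counting fixed cosets of an involution; transfer and permutation sign in terms of class counts.
-/

set_option autoImplicit false
set_option linter.unusedSectionVars false
set_option linter.style.haveILetI false

namespace CfsgLib.CentSixSeven

open Subgroup MulAction

variable {G : Type*} [Group G] [Finite G]

/-- Conjugates of `x`. -/
def Cls (x : G) : Set G := {y | IsConj x y}

theorem card_conj_mem (x : G) (P : G → Prop) :
    Nat.card {g : G // P (g⁻¹ * x * g)}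
      = Nat.card (centralizer ({x} : Set G)) * Nat.card {y : G // IsConj x y ∧ P y} := by
  classical
  let f : {g : G // P (g⁻¹ * x * g)} → {y : G // IsConj x y ∧ P y} := fun g =>
    ⟨g.1⁻¹ * x * g.1, isConj_iff.2 ⟨g.1⁻¹, by simp⟩, g.2⟩
  have hfib : ∀ y, Nonempty ({g // f g = y} ≃ ↥(centralizer ({x} : Set G))) := by
    rintro ⟨y, hy, hP⟩
    obtain ⟨c, hc⟩ := isConj_iff.1 hy
    have hy' : y = c * x * c⁻¹ := hc.symm
    refine ⟨{ toFun := fun g => ⟨g.1.1 * c, ?_⟩
              invFun := fun d => ⟨⟨d.1 * c⁻¹, ?_⟩, ?_⟩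
              left_inv := fun g => by ext; simp
              right_inv := fun d => by ext; simp }⟩
    · have h : g.1.1⁻¹ * x * g.1.1 = y := congrArg Subtype.val g.2
      rw [mem_centralizer_singleton_iff]
      replace h := h.trans hy'
      calc g.1.1 * c * x = g.1.1 * (c * x * c⁻¹) * c := by group
        _ = g.1.1 * (g.1.1⁻¹ * x * g.1.1) * c := by rw [h]
        _ = x * (g.1.1 * c) := by group
    · have hd := mem_centralizer_singleton_iff.1 d.2
      have : (d.1 * c⁻¹)⁻¹ * x * (d.1 * c⁻¹) = y := by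
        rw [hy']
        calc (d.1 * c⁻¹)⁻¹ * x * (d.1 * c⁻¹) = c * d.1⁻¹ * (x * d.1) * c⁻¹ := by group
          _ = c * d.1⁻¹ * (d.1 * x) * c⁻¹ := by rw [hd]
          _ = c * x * c⁻¹ := by group
      rw [this]; exact hP
    · have hd := mem_centralizer_singleton_iff.1 d.2
      apply Subtype.ext
      show (d.1 * c⁻¹)⁻¹ * x * (d.1 * c⁻¹) = y
      rw [hy']
      calc (d.1 * c⁻¹)⁻¹ * x * (d.1 * c⁻¹) = c * d.1⁻¹ * (x * d.1) * c⁻¹ := by group
        _ = c * d.1⁻¹ * (d.1 * x) * c⁻¹ := by rw [hd]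
        _ = c * x * c⁻¹ := by group
  rw [Nat.card_congr (Equiv.sigmaFiberEquiv f).symm,
    Nat.card_congr ((Equiv.sigmaCongrRight fun y => (hfib y).some).trans (Equiv.sigmaEquivProd _ _)),
    Nat.card_prod, mul_comm]

/-- The value at the fixed coset `q` of `t`. -/
noncomputable def fixVal {H : Subgroup G} {A : Type*} [CommGroup A] (φ : H →* A) (t : G)
    (q : G ⧸ H) : A := by
  classical
  exact if h : q.out⁻¹ * t * q.out ∈ H then φ ⟨_, h⟩ else 1

theorem fix_iff (H : Subgroup G) (t g : G) :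
    t • (g : G ⧸ H) = (g : G ⧸ H) ↔ g⁻¹ * t * g ∈ H := by
  rw [MulAction.Quotient.smul_coe, smul_eq_mul, eq_comm, QuotientGroup.eq, mul_assoc]

theorem fixVal_mk {H : Subgroup G} {A : Type*} [CommGroup A] (φ : H →* A) (t g : G)
    (h : g⁻¹ * t * g ∈ H) : fixVal φ t (g : G ⧸ H) = φ ⟨_, h⟩ := by
  classical
  obtain ⟨k, hk⟩ := QuotientGroup.mk_out_eq_mul H g
  have he : (g : G ⧸ H).out⁻¹ * t * (g : G ⧸ H).out = (k : G)⁻¹ * (g⁻¹ * t * g) * k := by
    rw [hk]; group
  have hm : (g : G ⧸ H).out⁻¹ * t * (g : G ⧸ H).out ∈ H := by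
    rw [he]; exact H.mul_mem (H.mul_mem (H.inv_mem k.2) h) k.2
  rw [fixVal, dif_pos hm]
  have : (⟨_, hm⟩ : H) = k⁻¹ * ⟨_, h⟩ * k := Subtype.ext he
  rw [this, map_mul, map_mul, map_inv]
  rw [mul_comm (φ k)⁻¹, inv_mul_cancel_right]

theorem transfer_involution {H : Subgroup G} {A : Type*} [CommGroup A] (φ : H →* A) {t : G}
    (ht : t * t = 1) [Fintype (fixedBy (G ⧸ H) t)] :
    MonoidHom.transfer φ t = ∏ q : fixedBy (G ⧸ H) t, fixVal φ t q.1 := by
  classical
  haveI : Fintype (Quotient (orbitRel (zpowers t) (G ⧸ H))) := Fintype.ofFinite _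
  rw [MonoidHom.transfer_eq_prod_quotient_orbitRel_zpowers_quot φ t]
  have hsq : ∀ q : G ⧸ H, t • t • q = q := fun q => by rw [smul_smul, ht, one_smul]
  have hval : ∀ q : Quotient (orbitRel (zpowers t) (G ⧸ H)),
      φ ⟨q.out.out⁻¹ * t ^ Function.minimalPeriod (t • ·) q.out * q.out.out,
        QuotientGroup.out_conj_pow_minimalPeriod_mem H t q.out⟩
      = if t • q.out = q.out then fixVal φ t q.out else 1 := by
    intro q
    have hper : ∀ m, m = Function.minimalPeriod (t • ·) q.out →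
        ∀ (h : q.out.out⁻¹ * t ^ m * q.out.out ∈ H),
        φ ⟨_, h⟩ = if t • q.out = q.out then fixVal φ t q.out else 1 := by
      intro m hm h
      split_ifs with hf
      · have h1 : m = 1 := hm.trans (Function.minimalPeriod_eq_one_iff_isFixedPt.2 hf)
        subst h1
        have h' : q.out.out⁻¹ * t * q.out.out ∈ H := by simpa using h
        rw [fixVal, dif_pos h']
        congr 1; ext; simp
      · have h2 : m ∣ 2 := hm ▸ Function.IsPeriodicPt.minimalPeriod_dvd (by
          show (t • ·)^[2] q.out = q.out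
          simp [hsq])
        rcases (Nat.dvd_prime Nat.prime_two).1 h2 with h1 | h1
        · exact absurd (Function.minimalPeriod_eq_one_iff_isFixedPt.1 (hm ▸ h1)) hf
        · subst h1
          have : (⟨_, h⟩ : H) = 1 := Subtype.ext (by simp [sq, ht])
          rw [this, map_one]
    exact hper _ rfl _
  rw [Finset.prod_congr rfl (fun q _ => hval q), Finset.prod_ite, Finset.prod_const_one, mul_one]
  have horb : ∀ a b : G ⧸ H, t • a = a → (b ∈ MulAction.orbit (zpowers t) a) → b = a := by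
    rintro a b ha ⟨⟨g, hg⟩, rfl⟩
    obtain ⟨n, rfl⟩ := Subgroup.mem_zpowers_iff.1 hg
    show t ^ n • a = a
    exact MulAction.fixedBy_subset_fixedBy_zpow (G ⧸ H) t n ha
  refine Finset.prod_bij (fun q hq => ⟨q.out, (Finset.mem_filter.1 hq).2⟩) (fun _ _ => Finset.mem_univ _)
    (fun a _ b _ h => ?_) (fun b _ => ?_) (fun _ _ => rfl)
  · have := congrArg Subtype.val h
    calc a = Quotient.mk'' a.out := (Quotient.out_eq' a).symm
      _ = Quotient.mk'' b.out := congrArg Quotient.mk'' this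
      _ = b := Quotient.out_eq' b
  · have hb : (Quotient.mk'' b.1 : Quotient (orbitRel (zpowers t) (G ⧸ H))).out = b.1 := by
      refine horb _ _ b.2 ?_
      exact MulAction.orbitRel_apply.1 (Quotient.exact' (Quotient.out_eq' _))
    refine ⟨Quotient.mk'' b.1, Finset.mem_filter.2 ⟨Finset.mem_univ _, by rw [hb]; exact b.2⟩, ?_⟩
    exact Subtype.ext hb

/-- Number of fixed cosets with a given value. -/
theorem card_fix_val {H : Subgroup G} {A : Type*} [CommGroup A] (φ : H →* A) (t : G) (a : A) :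
    Nat.card H * Nat.card {q : fixedBy (G ⧸ H) t // fixVal φ t q.1 = a}
      = Nat.card (centralizer ({t} : Set G)) *
        Nat.card {y : G // IsConj t y ∧ ∃ h : y ∈ H, φ ⟨y, h⟩ = a} := by
  rw [← card_conj_mem t (fun y => ∃ h : y ∈ H, φ ⟨y, h⟩ = a)]
  let U : Set (G ⧸ H) := {q | t • q = q ∧ fixVal φ t q = a}
  have e1 : Nat.card {q : fixedBy (G ⧸ H) t // fixVal φ t q.1 = a} = Nat.card U :=
    Nat.card_congr
      { toFun := fun q => ⟨q.1.1, q.1.2, q.2⟩
        invFun := fun q => ⟨⟨q.1, q.2.1⟩, q.2.2⟩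
        left_inv := fun _ => rfl
        right_inv := fun _ => rfl }
  rw [e1, ← Nat.card_prod, ← Nat.card_congr (QuotientGroup.preimageMkEquivSubgroupProdSet H U)]
  refine Nat.card_congr (Equiv.subtypeEquivRight fun g => ?_)
  show (t • (g : G ⧸ H) = (g : G ⧸ H) ∧ fixVal φ t (g : G ⧸ H) = a) ↔ _
  rw [fix_iff]
  constructor
  · rintro ⟨h, hv⟩; exact ⟨h, by rw [← fixVal_mk φ t g h]; exact hv⟩
  · rintro ⟨h, hv⟩; exact ⟨h, by rw [fixVal_mk φ t g h]; exact hv⟩

/-- Number of fixed cosets. -/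
theorem card_fix (H : Subgroup G) (t : G) :
    Nat.card H * Nat.card (fixedBy (G ⧸ H) t)
      = Nat.card (centralizer ({t} : Set G)) * Nat.card {y : G // IsConj t y ∧ y ∈ H} := by
  have h := card_fix_val (1 : H →* Unit) t 1
  have e1 : Nat.card {q : fixedBy (G ⧸ H) t // fixVal (1 : H →* Unit) t q.1 = 1}
      = Nat.card (fixedBy (G ⧸ H) t) :=
    Nat.card_congr (Equiv.subtypeUnivEquiv fun _ => Subsingleton.elim _ _)
  have e2 : Nat.card {y : G // IsConj t y ∧ ∃ h : y ∈ H, (1 : H →* Unit) ⟨y, h⟩ = 1}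
      = Nat.card {y : G // IsConj t y ∧ y ∈ H} :=
    Nat.card_congr (Equiv.subtypeEquivRight fun y => by simp)
  rwa [e1, e2] at h

theorem transfer_eq_prod_pow {H : Subgroup G} {A : Type*} [CommGroup A] [Fintype A] (φ : H →* A)
    {t : G} (ht : t * t = 1) (e : A → ℕ)
    (he : ∀ a, Nat.card H * e a = Nat.card (centralizer ({t} : Set G)) *
        Nat.card {y : G // IsConj t y ∧ ∃ h : y ∈ H, φ ⟨y, h⟩ = a}) :
    MonoidHom.transfer φ t = ∏ a : A, a ^ e a := by
  classical
  haveI : Fintype (fixedBy (G ⧸ H) t) := Fintype.ofFinite _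
  rw [transfer_involution φ ht, ← Finset.prod_fiberwise Finset.univ
    (fun q : fixedBy (G ⧸ H) t => fixVal φ t q.1)]
  refine Finset.prod_congr rfl fun a _ => ?_
  rw [Finset.prod_congr rfl (fun q hq => (Finset.mem_filter.1 hq).2), Finset.prod_const]
  congr 1
  have h1 := card_fix_val φ t a
  rw [← he a] at h1
  have h2 := Nat.eq_of_mul_eq_mul_left Nat.card_pos h1
  rw [← h2, Nat.card_eq_fintype_card, Fintype.card_subtype]

/-- A nontrivial homomorphism into a finite 2-group gives a subgroup of index 2. -/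
theorem index_two_of_hom {A : Type*} [Group A] [Finite A] (hA : IsPGroup 2 A) (f : G →* A) {x : G}
    (hx : f x ≠ 1) : ∃ K : Subgroup G, K.index = 2 := by
  have hR : IsPGroup 2 f.range := hA.to_subgroup _
  haveI : Nontrivial f.range :=
    ⟨⟨⟨f x, x, rfl⟩, 1, fun h => hx (congrArg Subtype.val h)⟩⟩
  obtain ⟨n, hn⟩ := IsPGroup.iff_card.1 hR
  have hn0 : n ≠ 0 := by
    rintro rfl
    rw [pow_zero] at hn
    have h1 : 1 < Nat.card f.range := Finite.one_lt_card
    omega
  obtain ⟨m, rfl⟩ := Nat.exists_eq_succ_of_ne_zero hn0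
  haveI : Fact (Nat.Prime 2) := ⟨Nat.prime_two⟩
  obtain ⟨K, hK⟩ := Sylow.exists_subgroup_card_pow_prime 2 (G := f.range) (n := m)
    (hn ▸ pow_dvd_pow 2 (Nat.le_succ m))
  refine ⟨K.comap f.rangeRestrict, ?_⟩
  rw [Subgroup.index_comap_of_surjective _ f.rangeRestrict_surjective]
  have h := Subgroup.card_mul_index K
  rw [hK, hn, pow_succ] at h
  exact Nat.eq_of_mul_eq_mul_left (pow_pos (by norm_num) m) h

/-- The sign of an involution on the cosets. -/
theorem index_two_of_sign {H : Subgroup G} {t : G} (ht : t * t = 1) (f : ℕ)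
    (hf : Nat.card H * f
      = Nat.card (centralizer ({t} : Set G)) * Nat.card {y : G // IsConj t y ∧ y ∈ H})
    (hodd : Odd ((H.index - f) / 2)) : ∃ K : Subgroup G, K.index = 2 := by
  classical
  haveI : Fintype (G ⧸ H) := Fintype.ofFinite _
  let σ : G →* ℤˣ := Equiv.Perm.sign.comp (MulAction.toPermHom G (G ⧸ H))
  have hσ : σ t = -1 := by
    show Equiv.Perm.sign (MulAction.toPermHom G (G ⧸ H) t) = -1
    have h2 : (MulAction.toPermHom G (G ⧸ H) t) ^ 2 = 1 := by rw [← map_pow, sq, ht, map_one]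
    rw [Equiv.Perm.sign_of_pow_two_eq_one h2]
    refine Odd.neg_one_pow ?_
    have h3 : f = Nat.card (fixedBy (G ⧸ H) t) :=
      Nat.eq_of_mul_eq_mul_left Nat.card_pos (hf.trans (card_fix H t).symm)
    rw [h3, Subgroup.index_eq_card] at hodd
    convert hodd using 3
    · exact Nat.card_eq_fintype_card.symm
    · rw [Nat.card_eq_fintype_card]
      exact Fintype.card_congr (Equiv.refl _)
  refine index_two_of_hom ?_ σ (x := t) (by rw [hσ]; decide)
  intro u; exact ⟨1, by rw [pow_one, sq, Int.units_mul_self]⟩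

end CfsgLib.CentSixSeven
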