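import Mathlib

/-!
The Sylow 2-subgroup of `2 × S₆` and its two elementary abelian subgroups of order 16.
-/

set_option autoImplicit false
set_option linter.unusedSectionVars false
set_option maxRecDepth 8000

namespace CfsgLib.CentSixSeven

open Equiv

abbrev M6 := Multiplicative (ZMod 2) × Perm (Fin 6)

def b1 : Multiplicative (ZMod 2) := Multiplicative.ofAdd 1

def tM : M6 := (b1, 1)
def pa : Perm (Fin 6) := swap 4 5
def ps1 : Perm (Fin 6) := swap 0 2
def ps2 : Perm (Fin 6) := swap 1 3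
def pq : Perm (Fin 6) := swap 0 1 * swap 2 3
def pqz : Perm (Fin 6) := swap 0 3 * swap 1 2
def pz : Perm (Fin 6) := ps1 * ps2

/-- Basis of the even part of the elementary abelian subgroup with index `i`. -/
def eB : Bool → Fin 3 → Perm (Fin 6)
  | false, 0 => pa
  | false, 1 => ps1
  | false, 2 => ps2
  | true, 0 => pa * pz
  | true, 1 => pa * pq
  | true, 2 => pa * pqz

def hP (i : Bool) (x : Fin 8) : Perm (Fin 6) :=
  (if x.val % 2 = 1 then eB i 0 else 1) * (if x.val / 2 % 2 = 1 then eB i 1 else 1) *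
    (if x.val / 4 = 1 then eB i 2 else 1)

def bitM (k : Fin 16) : Multiplicative (ZMod 2) := if k.val < 8 then 1 else b1

/-- Elements of the elementary abelian subgroups of order 16. -/
def aEl (i : Bool) (k : Fin 16) : M6 := (bitM k, hP i ⟨k.val % 8, Nat.mod_lt _ (by norm_num)⟩)

/-- An element of `T` outside the elementary abelian subgroup with index `i`. -/
def sigP : Bool → Perm (Fin 6)
  | false => pq
  | true => ps1

def rhoP : Bool → Perm (Fin 6)
  | false => (swap 4 0 * swap 0 1) * (swap 5 2 * swap 2 3)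
  | true => swap 0 1 * swap 1 2

def tPerms : List (Perm (Fin 6)) :=
  (List.finRange 8).map (hP false) ++ (List.finRange 8).map (fun x => hP false x * pq)

theorem tPerms_mul : ∀ a ∈ tPerms, ∀ b ∈ tPerms, a * b ∈ tPerms := by decide +kernel
theorem tPerms_inv : ∀ a ∈ tPerms, a⁻¹ ∈ tPerms := by decide +kernel
theorem tPerms_one : (1 : Perm (Fin 6)) ∈ tPerms := by decide +kernel

/-- The Sylow 2-subgroup. -/
def TM : Subgroup M6 where
  carrier := {m | m.2 ∈ tPerms}
  one_mem' := tPerms_one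
  mul_mem' := fun {a b} ha hb => tPerms_mul _ ha _ hb
  inv_mem' := fun {a} ha => tPerms_inv _ ha

instance decMemTM : DecidablePred (· ∈ TM) := fun m => inferInstanceAs (Decidable (m.2 ∈ tPerms))

theorem mem_TM {m : M6} : m ∈ TM ↔ m.2 ∈ tPerms := Iff.rfl

def tList : List M6 := tPerms.map (fun p => ((1 : Multiplicative (ZMod 2)), p)) ++ tPerms.map (fun p => (b1, p))

theorem bit_cases : ∀ b : Multiplicative (ZMod 2), b = 1 ∨ b = b1 := by decide

theorem mem_tList {m : M6} : m ∈ tList ↔ m ∈ TM := by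
  constructor
  · intro h
    simp only [tList, List.mem_append, List.mem_map] at h
    rcases h with ⟨p, hp, rfl⟩ | ⟨p, hp, rfl⟩ <;> exact hp
  · intro h
    obtain ⟨b, p⟩ := m
    simp only [tList, List.mem_append, List.mem_map]
    rcases bit_cases b with rfl | rfl
    · exact Or.inl ⟨p, h, rfl⟩
    · exact Or.inr ⟨p, h, rfl⟩

def aList (i : Bool) : List M6 := (List.finRange 16).map (aEl i)

def zList : List M6 := [0, 1, 6, 7, 8, 9, 14, 15].map (aEl false)

theorem aEl_mul : ∀ i k l, ∃ m : Fin 16, m.val = k.val ^^^ l.val ∧ aEl i k * aEl i l = aEl i m := by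
  decide +kernel

theorem aEl_inj : ∀ i k l, aEl i k = aEl i l → k = l := by decide +kernel
theorem aEl_zero : ∀ i, aEl i 0 = 1 := by decide +kernel
theorem aEl_eight : ∀ i, aEl i 8 = tM := by decide +kernel
theorem aEl_mem_T : ∀ i k, aEl i k ∈ TM := by decide +kernel
theorem sig_mem_T : ∀ i, ((1, sigP i) : M6) ∈ TM := by decide +kernel
theorem tM_mem : tM ∈ TM := by decide +kernel
theorem tList_card : tList.Nodup ∧ tList.length = 32 := by decide +kernel

/-- The elementary abelian subgroup of order 16 with index `i`. -/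
def AM (i : Bool) : Subgroup M6 where
  carrier := {m | ∃ k, aEl i k = m}
  one_mem' := ⟨0, aEl_zero i⟩
  mul_mem' := by
    rintro a b ⟨k, rfl⟩ ⟨l, rfl⟩
    obtain ⟨m, -, hm⟩ := aEl_mul i k l
    exact ⟨m, hm.symm⟩
  inv_mem' := by
    rintro a ⟨k, rfl⟩
    have h : ∀ i k, (aEl i k)⁻¹ = aEl i k := by decide +kernel
    exact ⟨k, (h i k).symm⟩

instance decMemAM (i : Bool) : DecidablePred (· ∈ AM i) :=
  fun m => inferInstanceAs (Decidable (∃ k, aEl i k = m))

theorem aEl_mem (i : Bool) (k : Fin 16) : aEl i k ∈ AM i := ⟨k, rfl⟩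

theorem AM_le (i : Bool) : AM i ≤ TM := by rintro m ⟨k, rfl⟩; exact aEl_mem_T i k

theorem center_perms : ∀ p ∈ tPerms,
    ((∀ b ∈ tPerms, p * b = b * p) ↔ ∃ k ∈ zList, k.2 = p) := by decide +kernel

theorem zList_full : ∀ k ∈ zList, ((1 : Multiplicative (ZMod 2)), k.2) ∈ zList ∧ (b1, k.2) ∈ zList := by
  decide +kernel

theorem center_T : ∀ m ∈ tList, ((∀ b ∈ tList, m * b = b * m) ↔ m ∈ zList) := by
  intro m hm
  have hp : m.2 ∈ tPerms := mem_tList.1 hm
  constructor
  · intro h
    obtain ⟨k, hk, hkm⟩ := (center_perms _ hp).1 (fun b hb =>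
      congrArg Prod.snd (h (1, b) (mem_tList.2 hb)))
    have h2 := zList_full k hk
    rw [hkm] at h2
    rcases bit_cases m.1 with h1 | h1
    · have := h2.1; rwa [← h1] at this
    · have := h2.2; rwa [← h1] at this
  · intro h b hb
    exact Prod.ext (mul_comm _ _) ((center_perms _ hp).2 ⟨m, h, rfl⟩ _ (mem_tList.1 hb))

theorem comm_perms : ∀ a ∈ tPerms, ∀ b ∈ tPerms, a * b = b * a ∨ a * b = pz * (b * a) := by
  decide +kernel

theorem z_eq : aEl false 6 = (1, pz) := by decide +kernel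

theorem comm_T : ∀ a ∈ tList, ∀ b ∈ tList,
    a * b * a⁻¹ * b⁻¹ = 1 ∨ a * b * a⁻¹ * b⁻¹ = aEl false 6 := by
  intro a ha b hb
  rw [z_eq]
  rcases comm_perms _ (mem_tList.1 ha) _ (mem_tList.1 hb) with h | h
  · left
    refine Prod.ext (by simp [mul_comm a.1 b.1]) ?_
    show a.2 * b.2 * a.2⁻¹ * b.2⁻¹ = 1
    rw [h]; group
  · right
    refine Prod.ext (by simp [mul_comm a.1 b.1]) ?_
    show a.2 * b.2 * a.2⁻¹ * b.2⁻¹ = pz
    rw [h]; group

theorem sq_T : ∀ a ∈ tList, a * a = 1 ∨ a * a = aEl false 6 := by decide +kernel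

theorem comm_witness :
    ((1, pq) : M6) ∈ TM ∧ ((1, ps1) : M6) ∈ TM ∧
      ((1, pq) : M6) * (1, ps1) * (1, pq)⁻¹ * (1, ps1)⁻¹ = aEl false 6 := by decide +kernel

/-- Every involution of `T` lies in one of the two elementary abelian subgroups. -/
theorem invol_mem : ∀ a ∈ tList, a * a = 1 → a ∈ aList false ∨ a ∈ aList true := by decide +kernel

/-- A non-central element of `A i` has centralizer `A i` in `T`. -/
theorem cent_noncentral : ∀ i, ∀ a ∈ aList i, a ∉ zList →
    ∀ b ∈ tList, a * b = b * a → b ∈ aList i := by decide +kernel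

theorem aList_ne : ∃ k, aEl false k ∉ aList true := ⟨2, by decide +kernel⟩

theorem z_in_both : ∀ m ∈ zList, m ∈ aList false ∧ m ∈ aList true := by decide +kernel

/-- The value of the weight of an index. -/
def wt (k : Fin 16) : ℕ := k.val % 2 + k.val / 2 % 2 + k.val / 4 % 2

def cls (m : M6) : Multiplicative (ZMod 2) × ℕ := (m.1, m.2.support.card)

def conjs (i : Bool) : List M6 :=
  [1, (1, rhoP i), (1, rhoP i * rhoP i), (1, sigP i), (1, rhoP i * sigP i), (1, rhoP i * rhoP i * sigP i)]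

/-- Every involution of `T` is `t` or is conjugate to an involution of the centre. -/
theorem class_cover : ∀ a ∈ tList, a * a = 1 →
    ∃ g ∈ conjs false ++ conjs true, g * a * g⁻¹ ∈ zList ∧ cls (g * a * g⁻¹) = cls a := by
  decide +kernel

theorem cls_inj : ∀ a ∈ zList, ∀ b ∈ zList, cls a = cls b → a = b := by decide +kernel

/-- The action of `σ` and `ρ` on the indices. -/
theorem sig_act : ∀ i (k : Fin 16), ∃ l : Fin 16,
    l.val = (k.val / 8) * 8 + k.val % 2 + (k.val / 2 % 2) * 4 + (k.val / 4 % 2) * 2 ∧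
      ((1, sigP i) : M6) * aEl i k * (1, sigP i)⁻¹ = aEl i l := by decide +kernel

theorem rho_act : ∀ i (k : Fin 16), ∃ l : Fin 16,
    l.val = (k.val / 8) * 8 + (k.val % 2) * 2 + (k.val / 2 % 2) * 4 + (k.val / 4 % 2) * 1 ∧
      ((1, rhoP i) : M6) * aEl i k * (1, rhoP i)⁻¹ = aEl i l := by decide +kernel

theorem frames : aEl true 6 = aEl false 6 ∧ aEl true 7 = aEl false 1 ∧ aEl true 1 = aEl false 7 := by
  decide +kernel

/-- `T` is generated by `A i` and `σ i`. -/
theorem T_decomp : ∀ i, ∀ a ∈ tList, a ∈ aList i ∨ a * ((1, sigP i) : M6) ∈ aList i := by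
  decide +kernel

end CfsgLib.CentSixSeven
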