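import Cfsg.Agent.CentSixSeven.Count
import Cfsg.Agent.CentSixSeven.Model

/-!
A group with an involution whose centralizer has the Sylow structure of `2 × S₆`: basic facts.
-/

set_option autoImplicit false
set_option linter.unusedSectionVars false
set_option linter.style.haveILetI false

namespace CfsgLib.CentSixSeven

open Subgroup MulAction

/-- The hypotheses on the centralizer of `t`. -/
structure Data (G : Type*) [Group G] where
  j : M6 →* G
  inj : Function.Injective j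
  c : ℕ
  c_odd : Odd c
  card : Nat.card (centralizer ({j tM} : Set G)) = 32 * c
  selfT : ∀ x ∈ centralizer ({j tM} : Set G),
    (∀ m ∈ TM, ∃ m' ∈ TM, x * j m * x⁻¹ = j m') → x ∈ TM.map j
  selfA : ∀ i, ∀ x ∈ centralizer ({j tM} : Set G),
    (∀ m ∈ AM i, x * j m * x⁻¹ = j m) → x ∈ (AM i).map j
  permA : ∀ i, ∀ x ∈ centralizer ({j tM} : Set G),
    (∀ m ∈ AM i, ∃ m' ∈ AM i, x * j m * x⁻¹ = j m') →
      ∃ s ∈ conjs i, ∀ m ∈ AM i, x * j m * x⁻¹ = j (s * m * s⁻¹)
  cls_conj : ∀ x ∈ centralizer ({j tM} : Set G), ∀ m ∈ TM, ∀ m' ∈ TM,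
    m * m = 1 → x * j m * x⁻¹ = j m' → cls m = cls m'

namespace Data

variable {G : Type*} [Group G] (D : Data G)

def t : G := D.j tM

def T : Subgroup G := TM.map D.j

def A (i : Bool) : Subgroup G := (AM i).map D.j

/-- `m` is mapped to a conjugate of `t`. -/
def InR (m : M6) : Prop := IsConj D.t (D.j m)

theorem tM_central (m : M6) : tM * m = m * tM := Prod.ext (mul_comm _ _) (by simp [tM])

theorem j_mem_C (m : M6) : D.j m ∈ centralizer ({D.t} : Set G) := by
  rw [mem_centralizer_singleton_iff]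
  show D.j m * D.j tM = D.j tM * D.j m
  rw [← map_mul, ← map_mul, tM_central]

theorem T_le_C : D.T ≤ centralizer ({D.t} : Set G) := by
  rintro x ⟨m, -, rfl⟩; exact D.j_mem_C m

theorem tt : D.t * D.t = 1 := by
  show D.j tM * D.j tM = 1
  rw [← map_mul]
  have : tM * tM = 1 := by decide
  rw [this, map_one]

theorem t_ne : D.t ≠ 1 := by
  intro h
  have h1 : tM = 1 := D.inj (h.trans D.j.map_one.symm)
  exact absurd h1 (by decide)

theorem t_mem : D.t ∈ D.T := ⟨tM, tM_mem, rfl⟩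

/-- `T` as a finset of model elements. -/
def Tf : Finset M6 := tList.toFinset

theorem mem_Tf {m : M6} : m ∈ Tf ↔ m ∈ TM := by rw [Tf, List.mem_toFinset, mem_tList]

theorem card_TM : Nat.card TM = 32 := by
  have h : Nat.card TM = Tf.card := by
    rw [Nat.subtype_card Tf (fun _ => mem_Tf)]
  rw [h, Tf, List.toFinset_card_of_nodup tList_card.1, tList_card.2]

theorem card_T : Nat.card D.T = 32 := by
  rw [T, card_map_of_injective D.inj, card_TM]

theorem card_A (i : Bool) : Nat.card (D.A i) = 16 := by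
  rw [A, card_map_of_injective D.inj]
  have e : Fin 16 ≃ ↥(AM i) :=
    Equiv.ofBijective (fun k => ⟨aEl i k, aEl_mem i k⟩)
      ⟨fun a b h => aEl_inj i a b (congrArg Subtype.val h), fun ⟨m, k, hk⟩ => ⟨k, Subtype.ext hk⟩⟩
  rw [← Nat.card_congr e, Nat.card_fin]

theorem inv_of_conj {y : G} (h : IsConj D.t y) : y * y = 1 := by
  obtain ⟨g, rfl⟩ := isConj_iff.1 h
  rw [show g * D.t * g⁻¹ * (g * D.t * g⁻¹) = g * (D.t * D.t) * g⁻¹ by group, D.tt]; group

theorem ne_one_of_conj {y : G} (h : IsConj D.t y) : y ≠ 1 := by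
  rintro rfl
  exact D.t_ne (isConj_one_left.1 h)

theorem sq_of_inR {m : M6} (h : D.InR m) : m * m = 1 := by
  refine D.inj ?_
  rw [map_mul, map_one]; exact D.inv_of_conj h

/-- Membership in the normalizer of a subgroup of the model. -/
theorem mem_normalizer_map [Finite G] (S : Subgroup M6) {x : G}
    (h : ∀ m ∈ S, ∃ m' ∈ S, x * D.j m * x⁻¹ = D.j m') :
    x ∈ normalizer ((S.map D.j : Subgroup G) : Set G) := by
  refine mem_normalizer_fintype ?_
  rintro _ ⟨m, hm, rfl⟩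
  obtain ⟨m', hm', he⟩ := h m hm
  exact ⟨m', hm', he.symm⟩

theorem exists_of_normalizer (S : Subgroup M6) {x : G}
    (h : x ∈ normalizer ((S.map D.j : Subgroup G) : Set G)) {m : M6} (hm : m ∈ S) :
    ∃ m' ∈ S, x * D.j m * x⁻¹ = D.j m' := by
  obtain ⟨m', hm', he⟩ := (mem_normalizer_iff.1 h (D.j m)).1 (mem_map_of_mem _ hm)
  exact ⟨m', hm', he.symm⟩

theorem NT_stab [Finite G] {x : G} (hx : x ∈ normalizer (D.T : Set G))
    (hxt : x * D.t * x⁻¹ = D.t) : x ∈ D.T := by
  refine D.selfT x ?_ (fun m hm => D.exists_of_normalizer TM hx hm)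
  rw [mem_centralizer_singleton_iff]
  exact mul_inv_eq_iff_eq_mul.1 hxt

/-- Two subgroups of order 32 of a group of order `32 * odd` are conjugate in it. -/
theorem conj_of_card32 [Finite G] {X P Q : Subgroup G} {k : ℕ} (hk : Odd k)
    (hX : Nat.card X ∣ 32 * k) (hP : P ≤ X) (hQ : Q ≤ X) (cP : Nat.card P = 32) (cQ : Nat.card Q = 32) :
    ∃ x ∈ X, ∀ g, g ∈ P ↔ x * g * x⁻¹ ∈ Q := by
  haveI : Fact (Nat.Prime 2) := ⟨Nat.prime_two⟩
  have hfac : (Nat.card X).factorization 2 = 5 := by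
    apply le_antisymm
    · have hk2 : ¬ 2 ∣ k := by obtain ⟨l, rfl⟩ := hk; omega
      have h := (Nat.factorization_le_iff_dvd Nat.card_pos.ne' (by obtain ⟨l, rfl⟩ := hk; omega)).2 hX 2
      rw [Nat.factorization_mul (by norm_num) (by obtain ⟨l, rfl⟩ := hk; omega)] at h
      simp only [Finsupp.add_apply, Nat.factorization_eq_zero_of_not_dvd hk2, add_zero] at h
      rwa [show (32 : ℕ) = 2 ^ 5 by norm_num, Nat.Prime.factorization_pow Nat.prime_two,
        Finsupp.single_eq_same] at h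
    · have hd : 2 ^ 5 ∣ Nat.card X := by
        rw [show (2 : ℕ) ^ 5 = 32 by norm_num, ← cP]; exact card_dvd_of_le hP
      exact (Nat.Prime.pow_dvd_iff_le_factorization Nat.prime_two Nat.card_pos.ne').1 hd
  have hcard : ∀ R : Subgroup G, R ≤ X → Nat.card R = 32 →
      Nat.card (R.subgroupOf X) = 2 ^ (Nat.card X).factorization 2 := by
    intro R hR cR
    rw [hfac, Nat.card_congr (subgroupOfEquivOfLe hR).toEquiv, cR]; norm_num
  obtain ⟨x, hx⟩ := MulAction.exists_smul_eq ↥X (Sylow.ofCard (P.subgroupOf X) (hcard P hP cP))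
    (Sylow.ofCard (Q.subgroupOf X) (hcard Q hQ cQ))
  refine ⟨x.1, x.2, fun g => ?_⟩
  have hset : ∀ y : X, y ∈ P.subgroupOf X ↔ x * y * x⁻¹ ∈ Q.subgroupOf X := by
    intro y
    have h' := congrArg (fun R : Sylow 2 ↥X => (R : Subgroup ↥X)) hx
    simp only [Sylow.coe_subgroup_smul, Sylow.coe_ofCard] at h'
    rw [← h', Subgroup.mem_pointwise_smul_iff_inv_smul_mem]
    simp [mul_assoc]
  constructor
  · intro hg
    exact mem_subgroupOf.1 ((hset ⟨g, hP hg⟩).1 (mem_subgroupOf.2 hg))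
  · intro hg
    have hgX : g ∈ X := by
      have := X.mul_mem (X.mul_mem (X.inv_mem x.2) (hQ hg)) x.2
      simpa [mul_assoc] using this
    exact mem_subgroupOf.1 ((hset ⟨g, hgX⟩).2 (mem_subgroupOf.2 hg))

theorem card_centralizer_conj {u : G} (h : IsConj D.t u) :
    Nat.card (centralizer ({u} : Set G)) = 32 * D.c := by
  obtain ⟨g, rfl⟩ := isConj_iff.1 h
  rw [← D.card]
  refine Nat.card_congr
    { toFun := fun y => ⟨g⁻¹ * y.1 * g, ?_⟩
      invFun := fun y => ⟨g * y.1 * g⁻¹, ?_⟩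
      left_inv := fun y => by ext; simp [mul_assoc]
      right_inv := fun y => by ext; simp [mul_assoc] }
  · have hy := mem_centralizer_singleton_iff.1 y.2
    rw [mem_centralizer_singleton_iff]
    calc g⁻¹ * y.1 * g * D.j tM = g⁻¹ * (y.1 * (g * D.t * g⁻¹)) * g := by simp only [Data.t]; group
      _ = g⁻¹ * ((g * D.t * g⁻¹) * y.1) * g := by rw [hy]
      _ = D.j tM * (g⁻¹ * y.1 * g) := by simp only [Data.t]; group
  · have hy := mem_centralizer_singleton_iff.1 y.2
    rw [mem_centralizer_singleton_iff]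
    calc g * y.1 * g⁻¹ * (g * D.t * g⁻¹) = g * (y.1 * D.j tM) * g⁻¹ := by simp only [Data.t]; group
      _ = g * (D.j tM * y.1) * g⁻¹ := by rw [hy]
      _ = g * D.t * g⁻¹ * (g * y.1 * g⁻¹) := by simp only [Data.t]; group

/-- A 2-subgroup centralizing a conjugate of `t` has order dividing 32. -/
theorem dvd32_of_le_centralizer [Finite G] {u : G} (h : IsConj D.t u) {P : Subgroup G}
    (hP : P ≤ centralizer ({u} : Set G)) {k : ℕ} (hk : Nat.card P = 2 ^ k) : k ≤ 5 := by
  have h1 : 2 ^ k ∣ 2 ^ 5 * D.c := by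
    have := card_dvd_of_le hP
    rwa [hk, D.card_centralizer_conj h, show (32 : ℕ) = 2 ^ 5 by norm_num] at this
  have h2 : Nat.Coprime (2 ^ k) D.c := (Nat.coprime_two_left.2 D.c_odd).pow_left _
  exact (Nat.pow_dvd_pow_iff_le_right (by norm_num)).1 (h2.dvd_of_dvd_mul_right h1)

theorem T_cases {x : G} (hx : x ∈ D.T) : ∃ m ∈ tList, D.j m = x := by
  obtain ⟨m, hm, rfl⟩ := hx; exact ⟨m, mem_tList.2 hm, rfl⟩

theorem mem_A {i : Bool} {x : G} (hx : x ∈ D.A i) : ∃ k, D.j (aEl i k) = x := by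
  obtain ⟨m, ⟨k, rfl⟩, rfl⟩ := hx; exact ⟨k, rfl⟩

theorem aEl_mem_A (i : Bool) (k : Fin 16) : D.j (aEl i k) ∈ D.A i := mem_map_of_mem _ (aEl_mem i k)

theorem A_le_T (i : Bool) : D.A i ≤ D.T := map_mono (AM_le i)

/-- An element of the normalizer of `T` permutes the centre. -/
theorem conj_zList {x : G} (hx : x ∈ normalizer (D.T : Set G)) {m : M6} (hm : m ∈ zList) :
    ∃ m' ∈ zList, x * D.j m * x⁻¹ = D.j m' := by
  have hmT : m ∈ TM := AM_le false (by
    obtain ⟨h, -⟩ := z_in_both m hm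
    obtain ⟨k, -, hk⟩ := List.mem_map.1 h
    exact ⟨k, hk⟩)
  obtain ⟨m', hm', he⟩ := D.exists_of_normalizer TM hx hmT
  refine ⟨m', ?_, he⟩
  refine (center_T m' (mem_tList.2 hm')).1 fun b hb => ?_
  obtain ⟨b', hb', heb⟩ := D.exists_of_normalizer TM (Subgroup.inv_mem _ hx) (mem_tList.1 hb)
  have hc := (center_T m (mem_tList.2 hmT)).2 hm b' (mem_tList.2 hb')
  refine D.inj ?_
  rw [map_mul, map_mul, ← he]
  have hb2 : D.j b = x * D.j b' * x⁻¹ := by rw [← heb]; group
  rw [hb2]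
  have hc' : D.j m * D.j b' = D.j b' * D.j m := by rw [← map_mul, ← map_mul, hc]
  calc x * D.j m * x⁻¹ * (x * D.j b' * x⁻¹) = x * (D.j m * D.j b') * x⁻¹ := by group
    _ = x * (D.j b' * D.j m) * x⁻¹ := by rw [hc']
    _ = x * D.j b' * x⁻¹ * (x * D.j m * x⁻¹) := by group

/-- The normalizer of `T` fixes the commutator. -/
theorem fix_z {x : G} (hx : x ∈ normalizer (D.T : Set G)) :
    x * D.j (aEl false 6) * x⁻¹ = D.j (aEl false 6) := by
  obtain ⟨hq, hs, he⟩ := comm_witness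
  obtain ⟨a, ha, hea⟩ := D.exists_of_normalizer TM hx hq
  obtain ⟨b, hb, heb⟩ := D.exists_of_normalizer TM hx hs
  have h : x * D.j (aEl false 6) * x⁻¹ = D.j (a * b * a⁻¹ * b⁻¹) := by
    rw [← he]
    simp only [map_mul, map_inv]
    rw [← hea, ← heb]; group
  rcases comm_T a (mem_tList.2 ha) b (mem_tList.2 hb) with h1 | h1
  · rw [h1, map_one, conj_eq_one_iff] at h
    exact absurd (D.inj (h.trans D.j.map_one.symm)) (by decide +kernel)
  · rwa [h1] at h

/-- `z` is not conjugate to `t`. -/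
theorem z_not_inR [Finite G] : ¬ D.InR (aEl false 6) := by
  intro h
  obtain ⟨g, hg⟩ := isConj_iff.1 h
  set u := D.j (aEl false 6) with hu
  have hP : D.T.map (MulAut.conj g).toMonoidHom ≤ centralizer ({u} : Set G) := by
    rintro _ ⟨y, hy, rfl⟩
    have hy' := mem_centralizer_singleton_iff.1 (D.T_le_C hy)
    rw [mem_centralizer_singleton_iff]
    show g * y * g⁻¹ * u = u * (g * y * g⁻¹)
    rw [← hg, show g * y * g⁻¹ * (g * D.t * g⁻¹) = g * (y * D.t) * g⁻¹ by group, hy']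
    group
  have hQ : D.T ≤ centralizer ({u} : Set G) := by
    intro y hy
    obtain ⟨m, hm, rfl⟩ := D.T_cases hy
    rw [mem_centralizer_singleton_iff, hu, ← map_mul, ← map_mul]
    have hc := (center_T (aEl false 6) (mem_tList.2 (aEl_mem_T _ _))).2 (by decide +kernel) m hm
    rw [hc]
  obtain ⟨x, hx, hxPQ⟩ := conj_of_card32 (X := centralizer ({u} : Set G)) D.c_odd
    (by rw [D.card_centralizer_conj h]) hP hQ
    (by rw [card_map_of_injective (MulAut.conj g).injective, D.card_T]) D.card_T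
  have hn : x * g ∈ normalizer (D.T : Set G) := by
    rw [mem_normalizer_iff]
    intro y
    rw [show x * g * y * (x * g)⁻¹ = x * (g * y * g⁻¹) * x⁻¹ by group, ← hxPQ]
    exact ⟨fun hy => ⟨y, hy, rfl⟩, fun ⟨z, hz, he⟩ => (MulAut.conj g).injective he ▸ hz⟩
  have h1 := D.fix_z hn
  rw [show x * g * u * (x * g)⁻¹ = x * (g * u * g⁻¹) * x⁻¹ by group] at h1
  have hxu : x * u * x⁻¹ = u := mul_inv_eq_iff_eq_mul.2 (mem_centralizer_singleton_iff.1 hx)
  have h2 : g * u * g⁻¹ = g * D.t * g⁻¹ := by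
    rw [hg]
    exact mul_left_cancel (mul_right_cancel (h1.trans hxu.symm))
  have h3 : u = D.t := mul_left_cancel (mul_right_cancel h2)
  exact absurd (D.inj h3) (by decide +kernel)

theorem map_conj_eq {g : G} {y : G} (P : Subgroup G) :
    g * y * g⁻¹ ∈ P.map (MulAut.conj g).toMonoidHom ↔ y ∈ P :=
  ⟨fun ⟨_, hz, he⟩ => (MulAut.conj g).injective he ▸ hz, fun hy => ⟨y, hy, rfl⟩⟩

/-- The normalizer of `T` is transitive on the conjugates of `t` in the centre, and
any element moving `t` there can be adjusted inside an overgroup `X` of `T`. -/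
theorem adjust [Finite G] {m : M6} (hm : m ∈ zList) {g : G} (hg : g * D.t * g⁻¹ = D.j m)
    (X : Subgroup G) (hTX : D.T ≤ X) (hgX : g ∈ X) :
    ∃ n ∈ normalizer (D.T : Set G), n ∈ X ∧ n * D.t * n⁻¹ = D.j m := by
  set u := D.j m with hu
  have hR : IsConj D.t u := isConj_iff.2 ⟨g, hg⟩
  have hmT : m ∈ TM := AM_le false (by
    obtain ⟨h, -⟩ := z_in_both m hm
    obtain ⟨k, -, hk⟩ := List.mem_map.1 h
    exact ⟨k, hk⟩)
  have hP : D.T.map (MulAut.conj g).toMonoidHom ≤ centralizer ({u} : Set G) ⊓ X := by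
    rintro _ ⟨y, hy, rfl⟩
    refine ⟨mem_centralizer_singleton_iff.2 ?_, X.mul_mem (X.mul_mem hgX (hTX hy)) (X.inv_mem hgX)⟩
    show g * y * g⁻¹ * u = u * (g * y * g⁻¹)
    rw [← hg, show g * y * g⁻¹ * (g * D.t * g⁻¹) = g * (y * D.t) * g⁻¹ by group,
      mem_centralizer_singleton_iff.1 (D.T_le_C hy)]
    group
  have hQ : D.T ≤ centralizer ({u} : Set G) ⊓ X := by
    intro y hy
    refine ⟨mem_centralizer_singleton_iff.2 ?_, hTX hy⟩
    obtain ⟨b, hb, rfl⟩ := D.T_cases hy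
    rw [hu, ← map_mul, ← map_mul,
      (center_T m (mem_tList.2 hmT)).2 hm b hb]
  obtain ⟨x, hx, hxPQ⟩ := conj_of_card32 (X := centralizer ({u} : Set G) ⊓ X) D.c_odd
    ((card_dvd_of_le inf_le_left).trans (by rw [D.card_centralizer_conj hR])) hP hQ
    (by rw [card_map_of_injective (MulAut.conj g).injective, D.card_T]) D.card_T
  refine ⟨x * g, ?_, X.mul_mem hx.2 hgX, ?_⟩
  · rw [mem_normalizer_iff]
    intro y
    rw [show x * g * y * (x * g)⁻¹ = x * (g * y * g⁻¹) * x⁻¹ by group, ← hxPQ, map_conj_eq]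
  · rw [show x * g * D.t * (x * g)⁻¹ = x * (g * D.t * g⁻¹) * x⁻¹ by group, hg]
    exact mul_inv_eq_iff_eq_mul.2 (mem_centralizer_singleton_iff.1 hx.1)

theorem exists_mover [Finite G] {m : M6} (hm : m ∈ zList) (h : D.InR m) :
    ∃ n ∈ normalizer (D.T : Set G), n * D.t * n⁻¹ = D.j m := by
  obtain ⟨g, hg⟩ := isConj_iff.1 h
  obtain ⟨n, hn, -, hnt⟩ := D.adjust hm hg ⊤ le_top (mem_top g)
  exact ⟨n, hn, hnt⟩

open scoped Classical in
/-- The conjugates of `t` in the centre of `T`. -/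
noncomputable def zR : Finset M6 := zList.toFinset.filter (fun m => D.InR m)

open scoped Classical in
theorem card_normalizer [Finite G] :
    Nat.card (normalizer (D.T : Set G)) = 32 * D.zR.card := by
  have hmem : ∀ n : normalizer (D.T : Set G), ∃ m ∈ D.zR, n.1 * D.t * n.1⁻¹ = D.j m := by
    intro n
    obtain ⟨m, hm, he⟩ := D.conj_zList n.2 (m := tM) (by decide +kernel)
    exact ⟨m, Finset.mem_filter.2 ⟨List.mem_toFinset.2 hm, isConj_iff.2 ⟨n.1, he⟩⟩, he⟩
  choose f hf hfe using hmem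
  let F : normalizer (D.T : Set G) → D.zR := fun n => ⟨f n, hf n⟩
  have hfib : ∀ m, Nonempty ({n // F n = m} ≃ D.T) := by
    rintro ⟨m, hm⟩
    obtain ⟨hmz, hmR⟩ := Finset.mem_filter.1 hm
    obtain ⟨n0, hn0, hn0t⟩ := D.exists_mover (List.mem_toFinset.1 hmz) hmR
    refine ⟨{ toFun := fun n => ⟨n0⁻¹ * n.1.1, ?_⟩
              invFun := fun y => ⟨⟨n0 * y.1, mul_mem hn0 (le_normalizer y.2)⟩, ?_⟩
              left_inv := fun n => by ext; simp
              right_inv := fun y => by ext; simp }⟩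
    · refine D.NT_stab (mul_mem (Subgroup.inv_mem _ hn0) n.1.2) ?_
      have h1 := hfe n.1
      have h2 : f n.1 = m := congrArg Subtype.val n.2
      rw [h2, ← hn0t] at h1
      rw [show n0⁻¹ * n.1.1 * D.t * (n0⁻¹ * n.1.1)⁻¹ = n0⁻¹ * (n.1.1 * D.t * n.1.1⁻¹) * n0 by group, h1]
      group
    · apply Subtype.ext
      refine D.inj ?_
      show D.j (f _) = D.j m
      rw [← hfe, ← hn0t]
      have hy : y.1 * D.t * y.1⁻¹ = D.t :=
        mul_inv_eq_iff_eq_mul.2 (mem_centralizer_singleton_iff.1 (D.T_le_C y.2))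
      show n0 * y.1 * D.t * (n0 * y.1)⁻¹ = _
      rw [show n0 * y.1 * D.t * (n0 * y.1)⁻¹ = n0 * (y.1 * D.t * y.1⁻¹) * n0⁻¹ by group, hy]
  rw [Nat.card_congr (Equiv.sigmaFiberEquiv F).symm,
    Nat.card_congr ((Equiv.sigmaCongrRight fun m => (hfib m).some).trans (Equiv.sigmaEquivProd _ _)),
    Nat.card_prod, D.card_T, Nat.card_eq_fintype_card, Fintype.card_coe, mul_comm]

end Data

end CfsgLib.CentSixSeven
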