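import Cfsg.Agent.CentSixSeven.DoubleFour

/-!
Counting in the case where the normalizer of `T` centralizes `a`: two characters and a sign.
-/

set_option autoImplicit false
set_option linter.unusedSectionVars false
set_option linter.style.haveILetI false
set_option maxRecDepth 8000
set_option maxHeartbeats 2000000

namespace CfsgLib.CentSixSeven

open Subgroup MulAction

/-- The number of points moved by an involution is even. -/
theorem moved_even {G α : Type*} [Group G] [MulAction G α] [Finite α] {t : G} (ht : t * t = 1) :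
    Nat.card α % 2 = Nat.card (fixedBy α t) % 2 := by
  classical
  haveI : Fintype α := Fintype.ofFinite α
  have h2 : (MulAction.toPermHom G α t) ^ 2 = 1 := by rw [← map_pow, sq, ht, map_one]
  have h := Equiv.Perm.two_dvd_card_support h2
  set σ := MulAction.toPermHom G α t
  have e : Nat.card (fixedBy α t) = σ.supportᶜ.card := by
    rw [← Fintype.card_coe, ← Nat.card_eq_fintype_card]
    exact Nat.card_congr (Equiv.subtypeEquivRight fun a => by simp [σ, fixedBy])
  rw [e, Finset.card_compl, Nat.card_eq_fintype_card]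
  have := σ.support.card_le_univ
  omega

theorem bit_ne : ∀ b : Bool, ((if b then b1 else 1) = b1 ↔ b = true) := by decide

theorem bit_xor : ∀ a b : Bool, (if xor a b then b1 else 1) = (if a then b1 else 1) * (if b then b1 else 1) := by
  decide

namespace Data

variable {G : Type*} [Group G] (D : Data G)

/-- The value of a class. -/
noncomputable def val (i P : Bool) (c : Fin 7) : ℕ := if c = 6 then 0 else D.rn i (kRep P c)

theorem rn_eq_val [Finite G] {i P : Bool} (hI : D.Img i P) {q : Q} (hq : q ∈ kImg P) :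
    D.rn i q = D.val i P (kCls P q) := by
  unfold val
  split_ifs with hc
  · exact D.rn_zero (kCls_six P q hq hc)
  · obtain ⟨g, hg, he⟩ := kCls_conj P q hq hc
    obtain ⟨x, hx⟩ := hI.real g hg
    obtain ⟨y, hy⟩ := hI.real q hq
    exact (D.rn_conj hx hy he).symm

theorem sum_val [Finite G] {i P : Bool} (hI : D.Img i P) {F : List Q} (hF : ∀ q ∈ F, q ∈ kImg P) :
    (F.map (D.rn i)).sum = ((F.map (kCls P)).map (D.val i P)).sum := by
  rw [List.map_map]
  exact congrArg List.sum (List.map_congr_left fun q hq => D.rn_eq_val hI (hF q hq))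

theorem card_X [Finite G] {i P : Bool} (hI : D.Img i P) : Nat.card (D.X i) = 768 := by
  have h := D.card_act_union i (kImg P) (kImg_nodup P).1 hI.real
  rw [(kImg_nodup P).2] at h
  refine Eq.trans ?_ h
  exact Nat.card_congr (Equiv.subtypeEquivRight fun x =>
    ⟨hI.mem x, fun ⟨_, _, hq⟩ => Act.mem D hq⟩)

theorem card_inR_X [Finite G] {i P : Bool} (hI : D.Img i P) :
    Nat.card {y : G // IsConj D.t y ∧ y ∈ D.X i} = ((kImg P).map (D.rn i)).sum := by
  rw [← D.card_union_rn i _ (kImg_nodup P).1]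
  exact Nat.card_congr (Equiv.subtypeEquivRight fun y =>
    and_congr_right fun _ => ⟨hI.mem y, fun ⟨_, _, hq⟩ => Act.mem D hq⟩)

theorem w8_N [Finite G] {i P : Bool} (hI : D.Img i P) {y : G} :
    y ∈ normalizer (D.T : Set G) ↔ ∃ q ∈ w8 P, D.Act y i q := by
  refine ⟨hI.w8_mem y, ?_⟩
  rintro ⟨q, hq, hy⟩
  obtain ⟨w, hw, hqw⟩ := List.mem_flatMap.1 hq
  obtain ⟨n, hn, hnw⟩ := hI.w0_real w hw
  simp only [List.mem_cons, List.not_mem_nil, or_false] at hqw
  have key : ∀ n, n ∈ normalizer (D.T : Set G) → D.Act n i q → y ∈ normalizer (D.T : Set G) := by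
    intro n hn hnq
    have := mul_mem hn (le_normalizer (D.A_le_T i (D.fibre hnq hy)))
    simpa using this
  rcases hqw with rfl | rfl
  · exact key n hn hnw
  · exact key _ (mul_mem hn (le_normalizer (D.sig_T i))) (Act.mul D hnw (D.sig_act' i))

theorem card_inR_N [Finite G] {i P : Bool} (hI : D.Img i P) :
    Nat.card {y : G // IsConj D.t y ∧ y ∈ normalizer (D.T : Set G)} = ((w8 P).map (D.rn i)).sum := by
  rw [← D.card_union_rn i _ (w8_facts P).1]
  exact Nat.card_congr (Equiv.subtypeEquivRight fun y => and_congr_right fun _ => D.w8_N hI)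

/-- The fused elements of a coset of `T`. -/
theorem card_coset [Finite G] {i : Bool} {n : G} {p : Q} (hp : D.Act n i p) (hne : qcomp p qS ≠ p) :
    Nat.card {y : G // IsConj D.t y ∧ n⁻¹ * y ∈ D.T} = D.rn i p + D.rn i (qcomp p qS) := by
  have h := D.card_union_rn i [p, qcomp p qS] (by simp [hne.symm])
  simp only [List.map_cons, List.map_nil, List.sum_cons, List.sum_nil, add_zero] at h
  rw [← h]
  refine Nat.card_congr (Equiv.subtypeEquivRight fun y => and_congr_right fun _ => ?_)
  simp only [List.mem_cons, List.not_mem_nil, or_false, exists_eq_or_imp, exists_eq_left]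
  constructor
  · intro hy
    rcases D.act_T hy i with e | e
    · left; simpa [Act.qI_right D hp] using Act.mul D hp e
    · right; simpa using Act.mul D hp e
  · rintro (hy | hy)
    · exact D.A_le_T i (D.fibre hp hy)
    · have := mul_mem (D.sig_T i) (D.A_le_T i (D.fibre (Act.mul D hp (D.sig_act' i)) hy))
      simpa [mul_assoc] using this

theorem val_zero_four [Finite G] (h : D.HasPattern false false true true true) {i P : Bool}
    (hI : D.Img i P) : D.val i P 0 = 8 ∧ D.val i P 4 = 4 ∧ D.val i P 6 = 0 := by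
  obtain ⟨h0, h4, hI0, hI4⟩ := kCls_special P
  refine ⟨?_, ?_, if_pos rfl⟩
  · rw [← h0, ← D.rn_eq_val hI hI0, (D.rn_sig_fibre h i).1]
  · rw [← h4, ← D.rn_eq_val hI hI4, (D.rn_sig_fibre h i).2]

theorem val_glide [Finite G] {i P : Bool} : 4 ∣ D.val i P 5 ∧ D.val i P 5 ≤ 4 := by
  have e : D.val i P 5 = D.rn i (kRep P 5) := if_neg (by decide)
  rw [e]
  refine ⟨dvd_card_invariant (D.A i) _ ?_ ?_, (D.rn_le_fix).trans_eq (rep_fix P).1⟩
  · rintro a ha y ⟨hR, hy⟩
    refine ⟨IsConj.trans hR (isConj_iff.2 ⟨a, rfl⟩), ?_⟩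
    rw [show a * y * a⁻¹ = y * (y⁻¹ * a * y * a⁻¹) by group]
    refine D.act_mul_A hy (mul_mem ?_ (inv_mem ha))
    have hm := (mem_normalizer_iff.1 (inv_mem (Act.mem D hy)) a).1 ha
    simpa using hm
  · rintro y ⟨hR, hy⟩
    have hc : Nat.card ↥(D.A i ⊓ centralizer ({y} : Set G)) = 4 := by
      rw [← (rep_fix P).1, ← Fintype.card_coe, ← Nat.card_eq_fintype_card]
      refine (Nat.card_congr (Equiv.ofBijective (fun k => (⟨D.j (aEl i k.1), D.aEl_mem_A i _,
        mem_centralizer_singleton_iff.2 ?_⟩ : ↥(D.A i ⊓ centralizer ({y} : Set G)))) ⟨?_, ?_⟩)).symm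
      · exact (mul_inv_eq_iff_eq_mul.1 ((hy k.1).trans (by rw [(Finset.mem_filter.1 k.2).2]))).symm
      · exact fun a b e => Subtype.ext (aEl_inj i _ _ (D.inj (congrArg Subtype.val e)))
      · rintro ⟨a, ha, hay⟩
        obtain ⟨k, rfl⟩ := D.mem_A ha
        refine ⟨⟨k, Finset.mem_filter.2 ⟨Finset.mem_univ _, aEl_inj i _ _ (D.inj ?_)⟩⟩, rfl⟩
        rw [← hy k]
        exact mul_inv_eq_iff_eq_mul.2 (mem_centralizer_singleton_iff.1 hay).symm
    rw [hc, D.card_A]

/-- The elements acting by permutations commuting with a representative. -/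
def centSub [Finite G] {i P : Bool} (hI : D.Img i P) {c : Fin 7} (hc : c ∈ [(1 : Fin 7), 2]) : Subgroup G where
  carrier := {x | ∃ q ∈ c16 P c, D.Act x i q}
  one_mem' := ⟨qI, (c16_facts P c hc).2.2.1, D.act_one i⟩
  mul_mem' := by
    rintro a b ⟨p, hp, ha⟩ ⟨q, hq, hb⟩
    exact ⟨_, (c16_facts P c hc).2.2.2.1 p hp q hq, Act.mul D ha hb⟩
  inv_mem' := by
    rintro a ⟨p, hp, ha⟩
    obtain ⟨q, hq, e, -⟩ := Act.inv D ha
    obtain ⟨q', hq', hact⟩ := hI.mem _ (inv_mem (Act.mem D ha))
    have := Act.uniq D hq hact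
    subst this
    exact ⟨q, (c16_facts P c hc).2.2.2.2.1 p hp q hq' e, hq⟩

theorem val_dvd_eight [Finite G] {i P : Bool} (hI : D.Img i P) :
    8 ∣ D.val i P 1 ∧ 8 ∣ D.val i P 2 ∧ 8 ∣ D.val i P 3 := by
  haveI : Fact (Nat.Prime 2) := ⟨Nat.prime_two⟩
  have key : ∀ (c : Fin 7) (hc : c ∈ [(1 : Fin 7), 2]) (q : Q), q ∈ kImg P →
      (∀ g ∈ c16 P c, qcomp g q = qcomp q g) → 8 ∣ D.rn i q := by
    intro c hc q hq hcom
    obtain ⟨hnd, hlen, -⟩ := c16_facts P c hc
    have hcard : Nat.card (D.centSub hI hc) = 256 :=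
      (D.card_act_union i (c16 P c) hnd (fun g hg => hI.real g (List.mem_filter.1 hg).1)).trans
        (by rw [hlen])
    refine dvd_card_invariant (D.centSub hI hc) _ ?_ ?_
    · rintro x ⟨g, hg, hx⟩ y ⟨hR, hy⟩
      refine ⟨IsConj.trans hR (isConj_iff.2 ⟨x, rfl⟩), ?_⟩
      have h1 := D.fibre (hcom g hg ▸ Act.mul D hx hy : D.Act (x * y) i (qcomp q g)) (Act.mul D hy hx)
      obtain ⟨l, hl⟩ := D.mem_A (inv_mem h1)
      rw [show x * y * x⁻¹ = y * (x * ((x * y)⁻¹ * (y * x))⁻¹ * x⁻¹) by group, ← hl, hx]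
      exact D.act_mul_A hy (D.aEl_mem_A _ _)
    · rintro y ⟨hR, hy⟩
      obtain ⟨k, -, hk⟩ := (Nat.dvd_prime_pow Nat.prime_two).1
        (show Nat.card ↥(D.centSub hI hc ⊓ centralizer ({y} : Set G)) ∣ 2 ^ 8 by
          rw [show (2 : ℕ) ^ 8 = 256 by norm_num, ← hcard]; exact card_dvd_of_le inf_le_left)
      have h5 := D.dvd32_of_le_centralizer hR inf_le_right hk
      rw [hk, hcard, show (8 : ℕ) = 2 ^ 3 by norm_num, show (256 : ℕ) = 2 ^ 8 by norm_num, ← pow_add]
      exact pow_dvd_pow 2 (by omega)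
  have e : ∀ c : Fin 7, c ≠ 6 → D.val i P c = D.rn i (kRep P c) := fun c hc => if_neg hc
  rw [e 1 (by decide), e 2 (by decide), e 3 (by decide)]
  exact ⟨key 1 (by decide) _ (kRep_mem P 1).1 fun g hg => ((c16_facts P 1 (by decide)).2.2.2.2.2 g hg).1,
    key 2 (by decide) _ (kRep_mem P 2).1 fun g hg => ((c16_facts P 2 (by decide)).2.2.2.2.2 g hg).1,
    key 1 (by decide) _ (kRep_mem P 3).1 fun g hg => ((c16_facts P 1 (by decide)).2.2.2.2.2 g hg).2⟩

/-- The transfer to a character of the normalizer of `A i`. -/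
theorem char_test [Finite G] {i P : Bool} (hI : D.Img i P) (b : Bool) :
    (∃ K : Subgroup G, K.index = 2) ∨
      ((((kImg P).filter (kPsi P b)).map (kCls P)).map (D.val i P)).sum % 16 ≠ 8 := by
  classical
  by_cases h8 : ((((kImg P).filter (kPsi P b)).map (kCls P)).map (D.val i P)).sum % 16 = 8
  swap; · exact Or.inr h8
  left
  have hex : ∀ x : D.X i, ∃ q ∈ kImg P, D.Act x.1 i q := fun x => hI.mem x x.2
  choose f hf hfa using hex
  let φ : D.X i →* Multiplicative (ZMod 2) :=
    MonoidHom.mk' (fun x => if kPsi P b (f x) then b1 else 1) fun x y => by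
      have e : f (x * y) = qcomp (f x) (f y) :=
        Act.uniq D (hfa (x * y)) (Act.mul D (hfa x) (hfa y))
      show (if kPsi P b (f (x * y)) then b1 else 1) = _
      rw [e, kPsi_mul P b _ (hf x) _ (hf y), bit_xor]
  let e : Multiplicative (ZMod 2) → ℕ := fun a =>
    Nat.card {q : fixedBy (G ⧸ D.X i) D.t // fixVal φ D.t q.1 = a}
  have he := fun a => card_fix_val φ D.t a
  have htr := transfer_eq_prod_pow φ D.tt e he
  have hcnt : Nat.card {y : G // IsConj D.t y ∧ ∃ h : y ∈ D.X i, φ ⟨y, h⟩ = b1}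
      = (((kImg P).filter (kPsi P b)).map (D.rn i)).sum := by
    rw [← D.card_union_rn i _ ((kImg_nodup P).1.filter _)]
    refine Nat.card_congr (Equiv.subtypeEquivRight fun y => and_congr_right fun _ => ?_)
    constructor
    · rintro ⟨hy, hv⟩
      exact ⟨f ⟨y, hy⟩, List.mem_filter.2 ⟨hf _, (bit_ne _).1 hv⟩, hfa ⟨y, hy⟩⟩
    · rintro ⟨q, hq, hy⟩
      refine ⟨Act.mem D hy, (bit_ne _).2 ?_⟩
      rw [Act.uniq D (hfa ⟨y, Act.mem D hy⟩) hy]
      exact (List.mem_filter.1 hq).2
  rw [D.sum_val hI (fun q hq => (List.mem_filter.1 hq).1)] at hcnt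
  have h1 := he b1
  rw [hcnt, D.card_X hI, show Nat.card (centralizer ({D.t} : Set G)) = 32 * D.c from D.card] at h1
  refine index_two_of_hom ?_ (MonoidHom.transfer φ) (x := D.t) ?_
  · intro a; refine ⟨1, ?_⟩
    rcases bit_cases a with rfl | rfl <;> decide
  · rw [htr, show (Finset.univ : Finset (Multiplicative (ZMod 2))) = {1, b1} by decide,
      Finset.prod_insert (by decide), Finset.prod_singleton, one_pow, one_mul]
    have hodd : Odd (e b1) := by
      have h3 : (3 * e b1) * 8 = D.c * ((((kImg P).filter (kPsi P b)).map (kCls P)).map (D.val i P)).sum := by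
        show 3 * Nat.card _ * 8 = _
        apply Nat.eq_of_mul_eq_mul_left (show 0 < 32 by norm_num)
        rw [← mul_assoc 32 D.c, ← h1]; ring
      obtain ⟨l, hl⟩ : ∃ l, ((((kImg P).filter (kPsi P b)).map (kCls P)).map (D.val i P)).sum = 8 * (2 * l + 1) :=
        ⟨((((kImg P).filter (kPsi P b)).map (kCls P)).map (D.val i P)).sum / 16, by omega⟩
      rw [hl, show D.c * (8 * (2 * l + 1)) = D.c * (2 * l + 1) * 8 by ring] at h3
      have h4 : Odd (3 * e b1) := by
        rw [Nat.eq_of_mul_eq_mul_right (by norm_num) h3]; exact D.c_odd.mul ⟨l, rfl⟩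
      exact (Nat.odd_mul.1 h4).2
    obtain ⟨l, hl⟩ := hodd
    rw [hl, pow_succ, pow_mul, show b1 ^ 2 = (1 : Multiplicative (ZMod 2)) by decide, one_pow, one_mul]
    decide

/-- The numerical data of one frame. -/
theorem frame_data [Finite G] (h : D.HasPattern false false true true true) {i P : Bool} (hI : D.Img i P) :
    (∃ K : Subgroup G, K.index = 2) ∨
    (8 ∣ D.val i P 1 ∧ 8 ∣ D.val i P 2 ∧ 8 ∣ D.val i P 3 ∧ D.val i P 5 = 4 ∧
      (3 * D.val i P 1 + D.val i P 3) % 16 = 8 ∧
      Nat.card {y : G // IsConj D.t y ∧ y ∈ D.X i}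
        = 56 + 3 * (D.val i P 1 + D.val i P 2) + D.val i P 3 ∧
      Nat.card {y : G // IsConj D.t y ∧ y ∈ normalizer (D.T : Set G)}
        = 24 + D.val i P 1 + D.val i P 2 + D.val i P 3 ∧
      (P = true → D.val i P 1 = 0 ∧ D.val i P 2 = 0)) := by
  obtain ⟨v0, v4, v6⟩ := D.val_zero_four h hI
  obtain ⟨d5, l5⟩ := D.val_glide (i := i) (P := P)
  obtain ⟨d1, d2, d3⟩ := D.val_dvd_eight hI
  rcases D.char_test hI false with h' | hs
  · exact Or.inl h'
  rw [((count_sgn P).map (D.val i P)).sum_eq] at hs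
  simp only [List.map_append, List.map_replicate, List.sum_append, List.sum_replicate, smul_eq_mul, v4,
    v6] at hs
  have v5 : D.val i P 5 = 4 := by omega
  rcases D.char_test hI true with h' | hp
  · exact Or.inl h'
  rw [((count_par P).map (D.val i P)).sum_eq] at hp
  simp only [List.map_append, List.map_replicate, List.sum_append, List.sum_replicate, smul_eq_mul,
    List.map_cons, List.map_nil, List.sum_cons, List.sum_nil, add_zero, v5, v6] at hp
  refine Or.inr ⟨d1, d2, d3, v5, by omega, ?_, ?_, ?_⟩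
  · rw [D.card_inR_X hI, D.sum_val hI (fun q hq => hq), ((count_all P).map (D.val i P)).sum_eq]
    simp only [List.map_append, List.map_replicate, List.sum_append, List.sum_replicate, smul_eq_mul,
      List.map_cons, List.map_nil, List.sum_cons, List.sum_nil, add_zero, v0, v4, v5, v6]
    omega
  · rw [D.card_inR_N hI, D.sum_val hI (w8_facts P).2.1, ((w8_facts P).2.2.map (D.val i P)).sum_eq]
    simp only [List.map_cons, List.map_nil, List.sum_cons, List.sum_nil, v0, v4, v5]
    omega
  · intro hP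
    obtain ⟨f1, f2⟩ := (rep_fix P).2 hP
    have e : ∀ c : Fin 7, c ≠ 6 → (Finset.univ.filter fun k => ev (kRep P c) k = k).card = 4 →
        D.val i P c ≤ 4 := by
      intro c hc hf
      rw [show D.val i P c = D.rn i (kRep P c) from if_neg hc, ← hf]
      exact D.rn_le_fix
    have := e 1 (by decide) f1
    have := e 2 (by decide) f2
    omega

/-- The class of `ta` compares the two frames. -/
theorem compare [Finite G] (h : D.HasPattern false false true true true) {P P' : Bool}
    (hI : D.Img false P) (hJ : D.Img true P') (h5 : D.val false P 5 = 4) (h5' : D.val true P' 5 = 4) :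
    D.val true P' 3 = if P then D.val false P 2 else D.val false P 1 := by
  obtain ⟨q, hq, hq9, hv⟩ : ∃ q ∈ w0 P, q.2.2.2 = 9 ∧
      D.rn false q + D.rn false (qcomp q qS) = 4 + if P then D.val false P 2 else D.val false P 1 := by
    obtain ⟨f1, f2, g1, g2, -⟩ := pair_nine
    have hw : ∀ w ∈ w0 P, w ∈ kImg P ∧ qcomp w qS ∈ kImg P := fun w hw =>
      ⟨(w8_facts P).2.1 _ (List.mem_flatMap.2 ⟨w, hw, List.mem_cons_self⟩),
        (w8_facts P).2.1 _ (List.mem_flatMap.2 ⟨w, hw, List.mem_cons_of_mem _ List.mem_cons_self⟩)⟩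
    cases P
    · refine ⟨(1, 2, 4, 9), List.mem_cons_of_mem _ List.mem_cons_self, rfl, ?_⟩
      obtain ⟨a, b⟩ := hw (1, 2, 4, 9) (List.mem_cons_of_mem _ List.mem_cons_self)
      rw [D.rn_eq_val hI a, D.rn_eq_val hI b, f1, f2, h5, add_comm]
      rfl
    · refine ⟨(1, 3, 5, 9), List.mem_cons_of_mem _ List.mem_cons_self, rfl, ?_⟩
      obtain ⟨a, b⟩ := hw (1, 3, 5, 9) (List.mem_cons_of_mem _ List.mem_cons_self)
      rw [D.rn_eq_val hI a, D.rn_eq_val hI b, g1, g2, (D.val_zero_four h hI).2.1]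
      rfl
  obtain ⟨n, hn, hna⟩ := hI.w0_real q hq
  obtain ⟨m, hm, hma⟩ := hJ.w0_real (1, 2, 4, 15) (by cases P' <;> decide +kernel)
  have e15 : aEl true 15 = aEl false 9 := by decide +kernel
  have hnm : n⁻¹ * m ∈ D.T := D.coset_of_eq hn hm (by
    rw [Act.t_image D hna, Act.t_image D hma, (ev_basis q).2.2.2, hq9, (ev_basis _).2.2.2]
    exact congrArg D.j e15.symm)
  have hc : Nat.card {y : G // IsConj D.t y ∧ n⁻¹ * y ∈ D.T}
      = Nat.card {y : G // IsConj D.t y ∧ m⁻¹ * y ∈ D.T} := by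
    refine Nat.card_congr (Equiv.subtypeEquivRight fun y => and_congr_right fun _ => ?_)
    rw [show n⁻¹ * y = n⁻¹ * m * (m⁻¹ * y) by group, Subgroup.mul_mem_cancel_left _ hnm]
  have hne : ∀ P, ∀ w ∈ w0 P, qcomp w qS ≠ w := by decide +kernel
  have h15 : ((1, 2, 4, 15) : Q) ∈ w0 P' := by cases P' <;> decide +kernel
  rw [D.card_coset hna (hne P q hq), hv, D.card_coset hma (hne P' _ h15)] at hc
  obtain ⟨-, -, -, -, f⟩ := pair_nine
  rw [D.rn_eq_val hJ ((w8_facts P').2.1 _ (List.mem_flatMap.2 ⟨_, h15, List.mem_cons_self⟩)),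
    D.rn_eq_val hJ ((w8_facts P').2.1 _ (List.mem_flatMap.2
      ⟨_, h15, List.mem_cons_of_mem _ List.mem_cons_self⟩)),
    (f P').1, (f P').2, h5'] at hc
  omega

/-- The normalizer of `T` centralizes `a`. -/
theorem four_case [Finite G] (h : D.HasPattern false false true true true) (hE : D.FixA) :
    ∃ K : Subgroup G, K.index = 2 := by
  obtain ⟨P, hI⟩ := D.exists_img h hE false
  obtain ⟨P', hJ⟩ := D.exists_img h hE true
  rcases D.frame_data h hI with h' | ⟨d1, d2, d3, h5, hT, hR, hN, hz⟩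
  · exact h'
  rcases D.frame_data h hJ with h' | ⟨d1', d2', d3', h5', -, hR', hN', -⟩
  · exact h'
  have hc := D.compare h hI hJ h5 h5'
  rw [hN] at hN'
  have hP : (D.val false P 3 + D.val true P' 3) % 16 = 8 := by
    cases P
    · simp only [Bool.false_eq_true, if_false] at hc; omega
    · simp only [if_true] at hc; obtain ⟨z1, z2⟩ := hz rfl; omega
  set f0 := Nat.card (fixedBy (G ⧸ D.X false) D.t) with hf0
  set f1 := Nat.card (fixedBy (G ⧸ D.X true) D.t) with hf1
  have c0 := card_fix (D.X false) D.t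
  have c1 := card_fix (D.X true) D.t
  rw [D.card_X hI, show Nat.card (centralizer ({D.t} : Set G)) = 32 * D.c from D.card, hR, ← hf0] at c0
  rw [D.card_X hJ, show Nat.card (centralizer ({D.t} : Set G)) = 32 * D.c from D.card, hR', ← hf1] at c1
  have hidx : (D.X false).index = (D.X true).index := by
    have a0 := card_mul_index (D.X false)
    have a1 := card_mul_index (D.X true)
    rw [D.card_X hI] at a0
    rw [D.card_X hJ] at a1
    omega
  have e0 := moved_even (α := G ⧸ D.X false) D.tt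
  have e1 := moved_even (α := G ⧸ D.X true) D.tt
  have l0 : f0 ≤ (D.X false).index := by rw [index_eq_card]; exact Finite.card_subtype_le _
  have l1 : f1 ≤ (D.X true).index := by rw [index_eq_card]; exact Finite.card_subtype_le _
  rw [← index_eq_card, ← hf0] at e0
  rw [← index_eq_card, ← hf1] at e1
  suffices hs : Odd (((D.X false).index - f0) / 2) ∨ Odd (((D.X true).index - f1) / 2) by
    rcases hs with hs | hs
    · exact index_two_of_sign D.tt f0 (card_fix _ _) hs
    · exact index_two_of_sign D.tt f1 (card_fix _ _) hs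
  simp only [Nat.odd_iff]
  obtain ⟨a, ha⟩ := d3
  obtain ⟨a', ha'⟩ := d3'
  obtain ⟨x, hx⟩ := d1
  obtain ⟨y, hy⟩ := d2
  obtain ⟨w, hw⟩ := D.c_odd
  have m0 : 3 * f0 + 2 * (2 * w * a + a) = (7 + 3 * (x + y + a)) * (2 * w + 1) := by
    rw [← hw]
    have : 24 * f0 + 16 * (D.c * a) = 8 * ((7 + 3 * (x + y + a)) * D.c) := by
      have : 768 * f0 = 32 * D.c * (56 + 3 * (8 * x + 8 * y) + 8 * a) := by rw [← hx, ← hy, ← ha]; exact c0
      linarith
    rw [show 2 * (2 * w * a + a) = 2 * (D.c * a) by rw [hw]; ring]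
    omega
  have m1 : 3 * f1 + 2 * (2 * w * a' + a') = (7 + 3 * (x + y + a)) * (2 * w + 1) := by
    rw [← hw]
    have hsum : 3 * (D.val true P' 1 + D.val true P' 2) + 3 * (8 * a') = 3 * (8 * (x + y + a)) := by
      omega
    have h2 : 56 + 3 * (D.val true P' 1 + D.val true P' 2) + D.val true P' 3 + 16 * a'
        = 56 + 24 * (x + y + a) := by omega
    have : 768 * f1 + 512 * (D.c * a') = 256 * ((7 + 3 * (x + y + a)) * D.c) := by
      calc 768 * f1 + 512 * (D.c * a')
          = 32 * D.c * (56 + 3 * (D.val true P' 1 + D.val true P' 2) + D.val true P' 3) + 32 * D.c * (16 * a') := by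
            rw [← c1]; ring
        _ = 32 * D.c * (56 + 24 * (x + y + a)) := by rw [← h2]; ring
        _ = _ := by ring
    rw [show 2 * (2 * w * a' + a') = 2 * (D.c * a') by rw [hw]; ring]
    omega
  rw [mul_assoc] at m0 m1
  omega

end Data

end CfsgLib.CentSixSeven
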