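import Cfsg.Agent.CentSixSeven.DoubleFour

/-!
The case where an element of the normalizer of `T` moves `a`.
-/

set_option autoImplicit false
set_option linter.unusedSectionVars false
set_option linter.style.haveILetI false
set_option maxRecDepth 8000
set_option maxHeartbeats 2000000

namespace CfsgLib.CentSixSeven

open Subgroup MulAction

theorem plain_choice : ∀ w ∈ [(2 : Fin 16), 3, 4, 5], w = 3 ∨ w = 5 ∨
    ((1, w, xr w 6, 14) : Q) = (1, 2, 4, 14) ∨ qcomp (1, w, xr w 6, 14) qS = (1, 2, 4, 14) := by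
  decide +kernel

theorem slide : ∃ s ∈ six, ∃ r ∈ six,
    qcomp (qcomp s (qcomp (1, 2, 4, 14) r)) qS
      = qcomp (qcomp (1, 2, 4, 14) qS) (qcomp s (qcomp (1, 2, 4, 14) r)) := by decide +kernel

theorem fix_plain : (Finset.univ.filter fun k => ev ((1, 2, 4, 14) : Q) k = k).card = 8 ∧
    (∀ k, ev ((1, 2, 4, 14) : Q) k = k → k.val < 8) ∧
    qcomp ((1, 2, 4, 14) : Q) qS ≠ (1, 2, 4, 14) := by decide +kernel

theorem a_values : ∀ m ∈ zList, m ∉ cand false false true true true → m ≠ 1 → m ≠ aEl false 6 →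
    m = aEl false 1 ∨ m = aEl false 7 := by decide +kernel

theorem t_values : ∀ m ∈ zList, m ∈ cand false false true true true →
    m = aEl false 8 ∨ m = aEl false 9 ∨ m = aEl false 14 ∨ m = aEl false 15 := by decide +kernel

theorem xr_vals : xr (1 : Fin 16) 6 = 7 ∧ xr (8 : Fin 16) 1 = 9 ∧ xr (8 : Fin 16) 7 = 15 ∧
    xr (8 : Fin 16) 6 = 14 ∧ xr (9 : Fin 16) 6 = 15 ∧ xr (9 : Fin 16) 7 = 14 ∧ xr (7 : Fin 16) 6 = 1 ∧
    xr (15 : Fin 16) 1 = 14 ∧ xr (15 : Fin 16) 6 = 9 ∧ xr (14 : Fin 16) 6 = 8 := by decide +kernel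

theorem high_mul : ∀ b k, k.val < 8 → tM * aEl b k = aEl b (xr 8 k) ∧ 8 ≤ (xr 8 k).val := by
  decide +kernel

theorem zList_card : zList.toFinset.card = 8 ∧ tM ∈ zList.toFinset := by decide +kernel

namespace Data

variable {G : Type*} [Group G] (D : Data G)

/-- Conjugation on indices is additive. -/
theorem img_xr {x : G} {i b : Bool} {k k' l l' : Fin 16}
    (hk : x * D.j (aEl i k) * x⁻¹ = D.j (aEl b k')) (hl : x * D.j (aEl i l) * x⁻¹ = D.j (aEl b l')) :
    x * D.j (aEl i (xr k l)) * x⁻¹ = D.j (aEl b (xr k' l')) := by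
  rw [← aEl_xr, ← aEl_xr, map_mul, map_mul, ← hk, ← hl]; group

theorem image_a [Finite G] (h : D.HasPattern false false true true true) {n : G}
    (hn : n ∈ normalizer (D.T : Set G)) :
    n * D.j (aEl false 1) * n⁻¹ = D.j (aEl false 1) ∨ n * D.j (aEl false 1) * n⁻¹ = D.j (aEl false 7) := by
  obtain ⟨m, hm, he⟩ := D.conj_zList hn (m := aEl false 1) (by decide +kernel)
  have hc : IsConj (D.j (aEl false 1)) (D.j m) := isConj_iff.2 ⟨n, he⟩
  have h1 : m ∉ cand false false true true true := by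
    intro hm'
    exact absurd (h.1.1 (IsConj.trans ((D.inR_zList h hm).2 hm') hc.symm)) (by decide)
  have h2 : m ≠ 1 := by
    rintro rfl
    rw [map_one, conj_eq_one_iff] at he
    exact absurd (D.inj (he.trans D.j.map_one.symm)) (by decide +kernel)
  have h3 : m ≠ aEl false 6 := by
    rintro rfl
    have := mul_left_cancel (mul_right_cancel (he.trans (D.fix_z hn).symm))
    exact absurd (D.inj this) (by decide +kernel)
  rcases a_values m hm h1 h2 h3 with rfl | rfl
  · exact Or.inl he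
  · exact Or.inr he

theorem image_t [Finite G] (h : D.HasPattern false false true true true) {n : G}
    (hn : n ∈ normalizer (D.T : Set G)) :
    ∃ k : Fin 16, (k = 8 ∨ k = 9 ∨ k = 14 ∨ k = 15) ∧
      n * D.j (aEl false 8) * n⁻¹ = D.j (aEl false k) := by
  obtain ⟨m, hm, he⟩ := D.conj_zList hn (m := tM) (by decide +kernel)
  have hR : D.InR m := isConj_iff.2 ⟨n, he⟩
  rw [← aEl_eight false] at he
  rcases t_values m hm ((D.inR_zList h hm).1 hR) with rfl | rfl | rfl | rfl
  · exact ⟨8, Or.inl rfl, he⟩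
  · exact ⟨9, Or.inr (Or.inl rfl), he⟩
  · exact ⟨14, Or.inr (Or.inr (Or.inl rfl)), he⟩
  · exact ⟨15, Or.inr (Or.inr (Or.inr rfl)), he⟩

theorem t_form {n : G} {i : Bool} {k : Fin 16} (he : n * D.j (aEl i 8) * n⁻¹ = D.j (aEl i k)) :
    n * D.t * n⁻¹ = D.j (aEl i k) := by
  rw [← he, aEl_eight]; rfl

/-- A generator. -/
theorem exists_cycle [Finite G] (h : D.HasPattern false false true true true) (hE : ¬ D.FixA) :
    ∃ n ∈ normalizer (D.T : Set G), n * D.j (aEl false 1) * n⁻¹ = D.j (aEl false 7) ∧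
      ∃ k : Fin 16, (k = 9 ∨ k = 15) ∧ n * D.j (aEl false 8) * n⁻¹ = D.j (aEl false k) := by
  have hex : ∀ k : Fin 16, zI k = true → 8 ≤ k.val → ∃ n ∈ normalizer (D.T : Set G),
      n * D.j (aEl false 8) * n⁻¹ = D.j (aEl false k) := by
    intro k hk hk8
    obtain ⟨n, hn, hnt⟩ := D.exists_mover ((zI_iff false k).1 hk)
      ((D.inR_tab h (mem_tList.2 (aEl_mem_T false k))).2 ((high_iff false k).2 hk8))
    exact ⟨n, hn, by rw [aEl_eight]; exact hnt⟩
  obtain ⟨na, hna, eA⟩ := hex 9 rfl (by decide)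
  obtain ⟨nz, hnz, eZ⟩ := hex 14 rfl (by decide)
  obtain ⟨v7, v9, v15, v14, v96, -⟩ := xr_vals
  rcases D.image_a h hna with hA | hA
  swap; · exact ⟨na, hna, hA, 9, Or.inl rfl, eA⟩
  rcases D.image_a h hnz with hZ | hZ
  · exfalso
    refine hE fun m hm => ?_
    obtain ⟨k, hk, ek⟩ := D.image_t h hm
    obtain ⟨r, hr, er, ra⟩ : ∃ r ∈ normalizer (D.T : Set G),
        r * D.j (aEl false 8) * r⁻¹ = D.j (aEl false k) ∧
        r * D.j (aEl false 1) * r⁻¹ = D.j (aEl false 1) := by
      rcases hk with rfl | rfl | rfl | rfl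
      · exact ⟨1, one_mem _, by group, by group⟩
      · exact ⟨na, hna, eA, hA⟩
      · exact ⟨nz, hnz, eZ, hZ⟩
      · refine ⟨na * nz, mul_mem hna hnz, ?_, ?_⟩
        · have e := D.img_xr eA (D.fix_z hna)
          rw [v14, v96] at e
          rw [← e, ← eZ]; group
        · calc na * nz * D.j (aEl false 1) * (na * nz)⁻¹
              = na * (nz * D.j (aEl false 1) * nz⁻¹) * na⁻¹ := by group
            _ = D.j (aEl false 1) := by rw [hZ, hA]
    have hτ := D.coset_of_eq hr hm ((D.t_form er).trans (D.t_form ek).symm)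
    calc m * D.j (aEl false 1) * m⁻¹
        = r * (r⁻¹ * m * D.j (aEl false 1) * (r⁻¹ * m)⁻¹) * r⁻¹ := by group
      _ = D.j (aEl false 1) := by rw [D.commute_z (by decide +kernel) hτ, ra]
  · refine ⟨na * nz, mul_mem hna hnz, ?_, 15, Or.inr rfl, ?_⟩
    · have e := D.img_xr hA (D.fix_z hna)
      rw [v7] at e
      calc na * nz * D.j (aEl false 1) * (na * nz)⁻¹
          = na * (nz * D.j (aEl false 1) * nz⁻¹) * na⁻¹ := by group
        _ = D.j (aEl false 7) := by rw [hZ, e]
    · have e := D.img_xr eA (D.fix_z hna)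
      rw [v14, v96] at e
      rw [← e, ← eZ]; group

theorem second_index [Finite G] (h : D.HasPattern false false true true true) {n : G} {p : Q}
    (hn : n ∈ normalizer (D.T : Set G)) (hp : D.Act n false p) {a : Fin 16}
    (ha : n * D.j (aEl false 1) * n⁻¹ = D.j (aEl false a)) (haa : a = 1 ∨ a = 7) :
    p = (a, p.2.1, xr p.2.1 6, p.2.2.2) ∧ p.2.1 ∈ [(2 : Fin 16), 3, 4, 5] := by
  obtain ⟨e1, e2, e4, e8⟩ := ev_basis p
  have h1 : ev p 1 = a := aEl_inj false _ _ (D.inj ((hp 1).symm.trans ha))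
  have h6 : ev p 6 = 6 := Maps.six D hn hp
  have hform := D.lin_form hn hp
  have h4 : ev p 4 = xr (ev p 2) 6 := by
    rw [congrFun hform 4]
    simp [lin, (xr_zero _).1, (xr_zero _).2]
  have h7 : ev p 7 = xr a 6 := by
    have := Maps.add D hp 1 6
    rw [h1, h6, show xr (1 : Fin 16) 6 = 7 from xr_vals.1] at this
    exact this
  refine ⟨Prod.ext (e1.symm.trans h1) (Prod.ext rfl (Prod.ext ?_ rfl)), ?_⟩
  · exact (e4.symm.trans h4).trans (by rw [e2])
  rw [← e2]
  have hinj := Maps.inj D hp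
  have hlow : (ev p 2).val < 8 := by
    by_contra hc
    have hT : ∀ k, aEl false k ∈ tList := fun k => mem_tList.2 (aEl_mem_T _ _)
    have := (high_iff false 2).1 ((D.inR_tab h (hT 2)).1 ((Maps.inR D hp 2).2
      ((D.inR_tab h (hT _)).2 ((high_iff false _).2 (by omega)))))
    exact absurd this (by decide)
  have h0 : ev p 0 = 0 := by simp [ev, lin, (xr_zero _).1]
  have n0 : ev p 2 ≠ 0 := fun e => absurd (hinj (e.trans h0.symm)) (by decide)
  have n6 : ev p 2 ≠ 6 := fun e => absurd (hinj (e.trans h6.symm)) (by decide)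
  have na : ev p 2 ≠ a := fun e => absurd (hinj (e.trans h1.symm)) (by decide)
  have na6 : ev p 2 ≠ xr a 6 := fun e => absurd (hinj (e.trans h7.symm)) (by decide)
  have key : ∀ w a : Fin 16, w.val < 8 → (a = 1 ∨ a = 7) → w ≠ 0 → w ≠ 6 → w ≠ a → w ≠ xr a 6 →
      w ∈ [(2 : Fin 16), 3, 4, 5] := by decide +kernel
  exact key _ _ hlow haa n0 n6 na na6

theorem swaps [Finite G] (h : D.HasPattern false false true true true) {n : G}
    (hn : n ∈ normalizer (D.T : Set G)) (ha : n * D.j (aEl false 1) * n⁻¹ = D.j (aEl false 7))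
    {k : Fin 16} (hk : k = 9 ∨ k = 15) (ht : n * D.j (aEl false 8) * n⁻¹ = D.j (aEl false k)) :
    n ∉ D.X false := by
  intro hX
  obtain ⟨p, hp⟩ := D.exists_act hX
  obtain ⟨hshape, hw⟩ := D.second_index h hn hp ha (Or.inr rfl)
  have h8 : p.2.2.2 = k := by
    rw [← (ev_basis p).2.2.2]
    exact aEl_inj false _ _ (D.inj ((hp 8).symm.trans ht))
  rw [h8] at hshape
  have hk' : k ∈ [(9 : Fin 16), 15] := by rcases hk with rfl | rfl <;> simp
  obtain ⟨r, hr⟩ := D.six_real false (q := (2, 4, 1, 8)) (by decide +kernel)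
  rw [hshape] at hp
  rcases no_cycle _ hw k hk' with ⟨e, he⟩ | ⟨e, he⟩
  · exact he (D.act_six (Act.mul D hp (Act.mul D hr (Act.mul D hp (Act.mul D hp hp)))) e)
  · exact he (D.act_six (Act.mul D hp (Act.mul D hp (Act.mul D hp (Act.mul D hr hp)))) e)

/-- The square of a generator acts as a translation or a translation times `σ`. -/
theorem exists_translation [Finite G] (h : D.HasPattern false false true true true) (hE : ¬ D.FixA) :
    ∃ n u, n ∈ normalizer (D.T : Set G) ∧ u ∈ normalizer (D.T : Set G) ∧ (n * n)⁻¹ * u ∈ D.T ∧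
      D.Act u false (1, 2, 4, 14) ∧
      ∃ k : Fin 16, (k = 9 ∨ k = 15) ∧ n * D.j (aEl false 8) * n⁻¹ = D.j (aEl false k) ∧
        n * u * D.j (aEl false 8) * (n * u)⁻¹ = D.j (aEl false (xr k 6)) := by
  obtain ⟨n, hn, ha, k, hk, ht⟩ := D.exists_cycle h hE
  have hsw := D.swaps h hn ha hk ht
  obtain ⟨b, f, hf⟩ := D.exists_maps hn false
  have hb : b = true := by
    rcases Bool.eq_false_or_eq_true b with hb | hb
    · exact hb
    · subst hb; exact absurd (Act.mem D (D.act_of_maps hf)) hsw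
  subst hb
  obtain ⟨b, g, hg⟩ := D.exists_maps hn true
  have hb : b = false := by
    rcases Bool.eq_false_or_eq_true b with hb | hb
    · subst hb
      exfalso
      obtain ⟨q, hq, -, -⟩ := Act.inv D (D.act_of_maps hg)
      have h1 := Maps.comp D hf hq
      rw [inv_mul_cancel] at h1
      exact absurd (Maps.frame_unique D (fun k => by simp : D.Maps 1 false false id) h1) (by decide)
    · exact hb
  subst hb
  have hu : D.Maps (n * n) false false (g ∘ f) := Maps.comp D hf hg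
  have hu' := D.act_of_maps hu
  have huN : n * n ∈ normalizer (D.T : Set G) := mul_mem hn hn
  obtain ⟨v7, v9, v15, v14, v96, v97, v76, v151, v156, v146⟩ := xr_vals
  have ua : n * n * D.j (aEl false 1) * (n * n)⁻¹ = D.j (aEl false 1) := by
    have e := D.img_xr ha (D.fix_z hn)
    rw [v7, v76] at e
    rw [show n * n * D.j (aEl false 1) * (n * n)⁻¹ = n * (n * D.j (aEl false 1) * n⁻¹) * n⁻¹ by group, ha, e]
  have ut : n * n * D.j (aEl false 8) * (n * n)⁻¹ = D.j (aEl false 14) := by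
    have e7 := D.img_xr ha (D.fix_z hn)
    rw [v7, v76] at e7
    rcases hk with rfl | rfl
    · have e := D.img_xr ht ha
      rw [v9, v97] at e
      rw [← e, ← ht]; group
    · have e := D.img_xr ht e7
      rw [v15, v151] at e
      rw [← e, ← ht]; group
  obtain ⟨hshape, hw⟩ := D.second_index h huN hu' ua (Or.inl rfl)
  set p : Q := ((g ∘ f) 1, (g ∘ f) 2, (g ∘ f) 4, (g ∘ f) 8)
  have h8 : p.2.2.2 = 14 := by
    rw [← (ev_basis p).2.2.2]
    exact aEl_inj false _ _ (D.inj ((hu' 8).symm.trans ut))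
  rw [h8] at hshape
  rw [hshape] at hu'
  -- the elements of the normalizer of `A false` in that of `T`
  have hN0 : ∀ m ∈ normalizer (D.T : Set G), m ∈ D.X false →
      m * D.j (aEl false 8) * m⁻¹ = D.j (aEl false 8) ∨
        m * D.j (aEl false 8) * m⁻¹ = D.j (aEl false 14) := by
    intro m hm hmX
    obtain ⟨l, hl, el⟩ := D.image_t h hm
    rcases hl with rfl | rfl | rfl | rfl
    · exact Or.inl el
    rotate_left
    · exact Or.inr el
    all_goals
      exfalso
      obtain ⟨r, hr, er, hrX⟩ : ∃ r ∈ normalizer (D.T : Set G),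
          r * D.t * r⁻¹ = m * D.t * m⁻¹ ∧ r ∉ D.X false := by
        have e2 := D.img_xr ht (D.fix_z hn)
        rw [v14] at e2
        have hnu : n * (n * n) ∉ D.X false := fun hc => hsw (by
          have h3 := mul_mem hc (inv_mem (Act.mem D hu'))
          rwa [mul_inv_cancel_right] at h3)
        rcases hk with rfl | rfl
        · rw [v96] at e2
          first
            | exact ⟨n, hn, (D.t_form ht).trans (D.t_form el).symm, hsw⟩
            | exact ⟨n * (n * n), mul_mem hn huN, (D.t_form (show n * (n * n) * D.j (aEl false 8) * (n * (n * n))⁻¹ = D.j (aEl false _) by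
                rw [← e2, ← ut]; group)).trans (D.t_form el).symm, hnu⟩
        · rw [v156] at e2
          first
            | exact ⟨n, hn, (D.t_form ht).trans (D.t_form el).symm, hsw⟩
            | exact ⟨n * (n * n), mul_mem hn huN, (D.t_form (show n * (n * n) * D.j (aEl false 8) * (n * (n * n))⁻¹ = D.j (aEl false _) by
                rw [← e2, ← ut]; group)).trans (D.t_form el).symm, hnu⟩
      have hτ := D.T_le_X false (D.coset_of_eq hr hm er)
      exact hrX (by simpa [mul_assoc] using mul_mem hmX (inv_mem hτ))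
  have hgood : ¬ (p.2.1 = 3 ∨ p.2.1 = 5) := by
    intro hbad
    have hmem : p.2.1 ∈ [(3 : Fin 16), 5] := by rcases hbad with e | e <;> simp [e]
    obtain ⟨s, hs, hall⟩ := no_alpha _ hmem
    obtain ⟨x, hx⟩ := D.six_real false hs
    have hy := Act.mul D hu' (Act.mul D hx hu')
    obtain ⟨g', m, r', p0, q', he, hm, ⟨s', hs', hg'⟩, hp0, hq', hr'⟩ := D.decomp h (Act.mem D hy)
    obtain ⟨s'', hs'', -⟩ := Act.inv D hg'
    have hg'6 : s'' ∈ six := D.act_six hs'' ((D.fix_iff_eight hs'').1 (by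
      have hgt := (D.fix_iff_eight hg').2 (six_facts s' hs').1
      calc g'⁻¹ * D.t * g'⁻¹⁻¹ = g'⁻¹ * (g' * D.t * g'⁻¹) * g' := by rw [hgt]; group
        _ = D.t := by group))
    refine hall s'' hg'6 ?_
    have hrt := (D.fix_iff_eight hr').2 (six_facts q' hq').1
    have e : g'⁻¹ * D.j (aEl false (ev (qcomp (1, p.2.1, xr p.2.1 6, 14) (qcomp s (1, p.2.1, xr p.2.1 6, 14))) 8)) * g'⁻¹⁻¹
        = m * D.t * m⁻¹ := by
      rw [← Act.t_image D hy, he,
        show g'⁻¹ * (g' * m * r' * D.t * (g' * m * r')⁻¹) * g'⁻¹⁻¹ = m * (r' * D.t * r'⁻¹) * m⁻¹ by group, hrt]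
    rw [hs'' _] at e
    rcases hN0 m hm (Act.mem D hp0) with e' | e' <;> rw [D.t_form e'] at e <;>
      rw [aEl_inj false _ _ (D.inj e)] <;> simp
  rcases plain_choice _ hw with e | e | e | e
  · exact absurd (Or.inl e) hgood
  · exact absurd (Or.inr e) hgood
  · refine ⟨n, n * n, hn, huN, by simp [D.T.one_mem], e ▸ hu', k, hk, ht, ?_⟩
    have e2 := D.img_xr ht (D.fix_z hn)
    rw [v14] at e2
    rw [← e2, ← ut]; group
  · refine ⟨n, n * n * D.j (1, sigP false), hn, mul_mem huN (le_normalizer (D.sig_T false)),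
      by rw [inv_mul_cancel_left]; exact D.sig_T false, e ▸ Act.mul D hu' (D.sig_act' false), k, hk, ht, ?_⟩
    have e2 := D.img_xr ht (D.fix_z hn)
    rw [v14] at e2
    have hs : D.j (1, sigP false) * D.j (aEl false 8) * (D.j (1, sigP false))⁻¹ = D.j (aEl false 8) := by
      rw [D.sig_act' false 8]; rfl
    calc n * (n * n * D.j (1, sigP false)) * D.j (aEl false 8) * (n * (n * n * D.j (1, sigP false)))⁻¹
        = n * (n * n * (D.j (1, sigP false) * D.j (aEl false 8) * (D.j (1, sigP false))⁻¹) * (n * n)⁻¹) * n⁻¹ := by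
          group
      _ = _ := by rw [hs, ut, e2]

/-- A 2-subgroup centralizing `t` is conjugate into `T` in the centralizer. -/
theorem conj_into_T [Finite G] {H : Subgroup G} (hH : H ≤ centralizer ({D.t} : Set G)) (h2 : IsPGroup 2 H) :
    ∃ c ∈ centralizer ({D.t} : Set G), ∀ x ∈ H, c * x * c⁻¹ ∈ D.T := by
  haveI : Fact (Nat.Prime 2) := ⟨Nat.prime_two⟩
  set C := centralizer ({D.t} : Set G)
  obtain ⟨S, hS⟩ := (IsPGroup.of_equiv h2 (subgroupOfEquivOfLe hH).symm).exists_le_sylow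
  have hfac : (Nat.card C).factorization 2 = 5 := by
    have hc2 : ¬ 2 ∣ D.c := by obtain ⟨l, hl⟩ := D.c_odd; omega
    rw [show Nat.card C = 32 * D.c from D.card, Nat.factorization_mul (by norm_num) D.c_pos.ne',
      Finsupp.add_apply, Nat.factorization_eq_zero_of_not_dvd hc2, add_zero,
      show (32 : ℕ) = 2 ^ 5 by norm_num, Nat.Prime.factorization_pow Nat.prime_two, Finsupp.single_eq_same]
  obtain ⟨c, hc⟩ := MulAction.exists_smul_eq ↥C S (Sylow.ofCard (D.T.subgroupOf C) (by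
    rw [hfac, Nat.card_congr (subgroupOfEquivOfLe D.T_le_C).toEquiv, D.card_T]; norm_num))
  refine ⟨c.1, c.2, fun x hx => ?_⟩
  have h' := congrArg (fun R : Sylow 2 ↥C => (R : Subgroup ↥C)) hc
  simp only [Sylow.coe_subgroup_smul, Sylow.coe_ofCard] at h'
  have hm : c * ⟨x, hH hx⟩ * c⁻¹ ∈ D.T.subgroupOf C := by
    rw [← h', Subgroup.mem_pointwise_smul_iff_inv_smul_mem]
    simpa [mul_assoc] using hS (mem_subgroupOf.2 hx : (⟨x, hH hx⟩ : C) ∈ H.subgroupOf C)
  exact hm

/-- A fused element acting as a translation is one of eight. -/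
theorem rn_plain [Finite G] (h : D.HasPattern false false true true true) :
    D.rn false (1, 2, 4, 14) = 0 ∨ D.rn false (1, 2, 4, 14) = 8 := by
  classical
  set q6 : Q := (1, 2, 4, 14)
  obtain ⟨fc, flow, -⟩ := fix_plain
  rcases isEmpty_or_nonempty {y : G // IsConj D.t y ∧ D.Act y false q6} with he | ⟨⟨x, hxR, hx⟩⟩
  · exact Or.inl Nat.card_of_isEmpty
  right
  refine le_antisymm (D.rn_le_fix.trans_eq fc) ?_
  obtain ⟨g, hg⟩ := isConj_iff.1 hxR
  let H : Subgroup G := D.A false ⊓ centralizer ({x} : Set G)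
  have hH : H.map (MulAut.conj g⁻¹).toMonoidHom ≤ centralizer ({D.t} : Set G) := by
    rintro _ ⟨a, ha, rfl⟩
    rw [mem_centralizer_singleton_iff]
    show g⁻¹ * a * g⁻¹⁻¹ * D.t = D.t * (g⁻¹ * a * g⁻¹⁻¹)
    have hax := mem_centralizer_singleton_iff.1 ha.2
    calc g⁻¹ * a * g⁻¹⁻¹ * D.t = g⁻¹ * (a * (g * D.t * g⁻¹)) * g := by group
      _ = g⁻¹ * ((g * D.t * g⁻¹) * a) * g := by rw [hg, hax]
      _ = D.t * (g⁻¹ * a * g⁻¹⁻¹) := by group
  obtain ⟨c, hc, hcT⟩ := D.conj_into_T hH (IsPGroup.map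
    ((IsPGroup.of_card (n := 4) (by rw [D.card_A]; norm_num : Nat.card (D.A false) = 2 ^ 4)).to_le inf_le_left) _)
  have hfixH : ∀ k, ev q6 k = k → D.j (aEl false k) ∈ H := fun k hk =>
    ⟨D.aEl_mem_A _ _, mem_centralizer_singleton_iff.2
      (mul_inv_eq_iff_eq_mul.1 ((hx k).trans (by rw [hk]))).symm⟩
  have hm : ∀ k : {k : Fin 16 // ev q6 k = k}, ∃ m ∈ tList,
      c * g⁻¹ * D.j (aEl false k.1) * (c * g⁻¹)⁻¹ = D.j m := by
    intro k
    obtain ⟨m, hm, he⟩ := D.T_cases (hcT _ (mem_map_of_mem (MulAut.conj g⁻¹).toMonoidHom (hfixH k.1 k.2)))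
    refine ⟨m, hm, ?_⟩
    rw [he]
    show c * g⁻¹ * D.j (aEl false k.1) * (c * g⁻¹)⁻¹ = c * (g⁻¹ * D.j (aEl false k.1) * g⁻¹⁻¹) * c⁻¹
    group
  choose m hmT hme using hm
  have minj : Function.Injective m := fun a b e => Subtype.ext (aEl_inj false _ _ (D.inj (by
    have := (hme a).trans ((congrArg D.j e).trans (hme b).symm)
    exact mul_left_cancel (mul_right_cancel this))))
  have hnotR : ∀ k, ¬ D.InR (m k) := fun k hR => by
    have h1 : D.InR (aEl false k.1) := IsConj.trans hR (isConj_iff.2 ⟨_, hme k⟩).symm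
    have h2 := (high_iff false k.1).1 ((D.inR_tab h (mem_tList.2 (aEl_mem_T _ _))).1 h1)
    have := flow k.1 k.2
    omega
  obtain ⟨k0, hk0⟩ : ∃ k0, m k0 ∉ zList := by
    by_contra hc
    push Not at hc
    have hsub : Finset.univ.image m ⊆ zList.toFinset.erase tM := by
      intro y hy
      obtain ⟨k, -, rfl⟩ := Finset.mem_image.1 hy
      exact Finset.mem_erase.2 ⟨fun e => hnotR k (by rw [e]; exact IsConj.refl _), List.mem_toFinset.2 (hc k)⟩
    have := Finset.card_le_card hsub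
    rw [Finset.card_image_of_injective _ minj, Finset.card_erase_of_mem zList_card.2, zList_card.1,
      Finset.card_univ, Fintype.card_subtype, fc] at this
    omega
  have hsq : m k0 * m k0 = 1 := by
    refine D.inj ?_
    rw [map_mul, map_one, ← hme,
      show ∀ a y : G, a * y * a⁻¹ * (a * y * a⁻¹) = a * (y * y) * a⁻¹ from fun a y => by group,
      ← map_mul, aEl_xr, show ∀ k : Fin 16, xr k k = 0 by decide +kernel, aEl_zero, map_one]
    group
  obtain ⟨b, hb⟩ : ∃ b, m k0 ∈ aList b :=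
    (invol_mem _ (hmT k0) hsq).elim (fun h => ⟨_, h⟩) (fun h => ⟨_, h⟩)
  have hall : ∀ k : {k : Fin 16 // ev q6 k = k}, IsConj D.t (x * D.j (aEl false k.1)) := by
    intro k
    have hcomm : m k0 * m k = m k * m k0 := by
      refine D.inj ?_
      rw [map_mul, map_mul, ← hme, ← hme,
        show ∀ a y z : G, a * y * a⁻¹ * (a * z * a⁻¹) = a * (y * z) * a⁻¹ from fun a y z => by group,
        show ∀ a y z : G, a * y * a⁻¹ * (a * z * a⁻¹) = a * (y * z) * a⁻¹ from fun a y z => by group,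
        ← map_mul, ← map_mul, aEl_xr, aEl_xr]
      rw [show xr k0.1 k.1 = xr k.1 k0.1 from Fin.ext (by rw [xr_val, xr_val, Nat.xor_comm])]
    obtain ⟨l, -, hl⟩ := List.mem_map.1 (cent_noncentral b _ hb hk0 _ (hmT k) hcomm)
    have hl8 : l.val < 8 := by
      by_contra hc8
      exact hnotR k (hl ▸ (D.inR_tab h (mem_tList.2 (aEl_mem_T _ _))).2 ((high_iff b l).2 (by omega)))
    obtain ⟨e, he8⟩ := high_mul b l hl8
    have hR := (D.inR_tab h (mem_tList.2 (aEl_mem_T _ _))).2 ((high_iff b _).2 he8)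
    rw [← e, hl] at hR
    refine IsConj.trans hR (isConj_iff.2 ⟨(c * g⁻¹)⁻¹, ?_⟩)
    rw [map_mul, ← hme]
    have hct : c * D.t * c⁻¹ = D.t := mul_inv_eq_iff_eq_mul.2 (mem_centralizer_singleton_iff.1 hc)
    show (c * g⁻¹)⁻¹ * (D.t * _) * (c * g⁻¹)⁻¹⁻¹ = _
    calc (c * g⁻¹)⁻¹ * (D.t * (c * g⁻¹ * D.j (aEl false k.1) * (c * g⁻¹)⁻¹)) * (c * g⁻¹)⁻¹⁻¹
        = (c * g⁻¹)⁻¹ * (c * D.t * c⁻¹ * (c * g⁻¹ * D.j (aEl false k.1) * (c * g⁻¹)⁻¹)) * (c * g⁻¹)⁻¹⁻¹ := by
          rw [hct]
      _ = g * D.t * g⁻¹ * D.j (aEl false k.1) := by group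
      _ = x * D.j (aEl false k.1) := by rw [hg]
  rw [rn, ← fc, ← Fintype.card_subtype, ← Nat.card_eq_fintype_card]
  refine Nat.card_le_card_of_injective
    (fun k => ⟨x * D.j (aEl false k.1), hall k, D.act_mul_A hx (D.aEl_mem_A _ _)⟩) fun a b e => ?_
  exact Subtype.ext (aEl_inj false _ _ (D.inj (mul_left_cancel (congrArg Subtype.val e))))

/-- An element of the normalizer of `T` moves `a`. -/
theorem cyclic_case [Finite G] (h : D.HasPattern false false true true true) (hE : ¬ D.FixA) :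
    ∃ K : Subgroup G, K.index = 2 := by
  classical
  haveI : Fact (Nat.Prime 2) := ⟨Nat.prime_two⟩
  obtain ⟨n, u, hn, hu, hnu, hact, k, hk, ht, ht'⟩ := D.exists_translation h hE
  have cN : Nat.card (normalizer (D.T : Set G)) = 128 := by
    rw [D.card_N_of_pattern h]
    have : (cand false false true true true).toFinset.card = 4 := by decide +kernel
    rw [this]
  let N : Subgroup G := normalizer (D.T : Set G)
  let T' : Subgroup N := D.T.subgroupOf N
  haveI : T'.Normal := (normal_subgroupOf_iff_le_normalizer le_normalizer).2 le_rfl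
  have hQ : Nat.card (N ⧸ T') = 2 ^ 2 := by
    have h1 := Subgroup.card_eq_card_quotient_mul_card_subgroup T'
    rw [show Nat.card N = 128 from cN,
      show Nat.card T' = 32 by rw [Nat.card_congr (subgroupOfEquivOfLe le_normalizer).toEquiv, D.card_T]] at h1
    omega
  letI : CommGroup (N ⧸ T') := IsPGroup.commGroupOfCardEqPrimeSq hQ
  haveI : Fintype (N ⧸ T') := Fintype.ofFinite _
  let φ : N →* N ⧸ T' := QuotientGroup.mk' T'
  let τ : N ⧸ T' := φ ⟨u, hu⟩
  let η : N ⧸ T' := φ ⟨n, hn⟩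
  have heq : ∀ (a b : N), a.1⁻¹ * b.1 ∈ D.T → φ a = φ b := fun a b hab => QuotientGroup.eq.2 hab
  have hker : ∀ (y : G) (hy : y ∈ N), φ ⟨y, hy⟩ = 1 ↔ y ∈ D.T := fun y hy => QuotientGroup.eq_one_iff _
  have hu8 : ev ((1, 2, 4, 14) : Q) 8 = 14 := by decide +kernel
  have hτ : τ ≠ 1 := by
    intro hc
    have := (hker u hu).1 hc
    have e := Act.t_image D hact
    rw [mul_inv_eq_iff_eq_mul.2 (mem_centralizer_singleton_iff.1 (D.T_le_C this)), hu8] at e
    exact absurd (D.inj ((D.t_eq_aEl).symm.trans e)) (by decide +kernel)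
  have hηη : η * η = τ := heq (⟨n, hn⟩ * ⟨n, hn⟩) ⟨u, hu⟩ hnu
  have hττ : τ * τ = 1 := by
    have e : φ (⟨u, hu⟩ * ⟨u, hu⟩) = 1 := by
      refine (hker (u * u) (mul_mem hu hu)).2 (D.NT_stab (mul_mem hu hu) ?_)
      have h2 := Act.mul D hact hact
      refine (D.fix_iff_eight h2).2 ?_
      decide +kernel
    exact e
  have hval : ∀ y, y * y = 1 → ∀ hy : y ∈ N, φ ⟨y, hy⟩ = 1 ∨ φ ⟨y, hy⟩ = τ := by
    intro y hyy hy
    have hsq : φ ⟨y, hy⟩ * φ ⟨y, hy⟩ = 1 := by
      rw [← map_mul, show (⟨y, hy⟩ : N) * ⟨y, hy⟩ = 1 from Subtype.ext hyy, map_one]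
    obtain ⟨l, hl, el⟩ := D.image_t h hy
    obtain ⟨-, -, -, -, v96, -, -, -, v156, -⟩ := xr_vals
    have hcases : φ ⟨y, hy⟩ = 1 ∨ φ ⟨y, hy⟩ = τ ∨ φ ⟨y, hy⟩ = η ∨ φ ⟨y, hy⟩ = η * τ := by
      have key : ∀ (r : G) (hr : r ∈ N), r * D.t * r⁻¹ = y * D.t * y⁻¹ → φ ⟨y, hy⟩ = φ ⟨r, hr⟩ :=
        fun r hr e => (heq ⟨r, hr⟩ ⟨y, hy⟩ (D.coset_of_eq hr hy e)).symm
      rcases hl with rfl | rfl | rfl | rfl
      · left
        rw [key 1 (one_mem _) (by rw [D.t_form el, D.t_eq_aEl]; group)]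
        exact map_one φ
      rotate_left
      · right; left
        exact key u hu (by rw [D.t_form el, Act.t_image D hact, hu8])
      all_goals
        rcases hk with rfl | rfl
        · rw [v96] at ht'
          first
            | exact Or.inr (Or.inr (Or.inl (key n hn ((D.t_form ht).trans (D.t_form el).symm))))
            | exact Or.inr (Or.inr (Or.inr ((key (n * u) (mul_mem hn hu) ((D.t_form ht').trans (D.t_form el).symm)).trans
                (map_mul φ ⟨n, hn⟩ ⟨u, hu⟩))))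
        · rw [v156] at ht'
          first
            | exact Or.inr (Or.inr (Or.inl (key n hn ((D.t_form ht).trans (D.t_form el).symm))))
            | exact Or.inr (Or.inr (Or.inr ((key (n * u) (mul_mem hn hu) ((D.t_form ht').trans (D.t_form el).symm)).trans
                (map_mul φ ⟨n, hn⟩ ⟨u, hu⟩))))
    rcases hcases with e | e | e | e
    · exact Or.inl e
    · exact Or.inr e
    · rw [e, hηη] at hsq; exact absurd hsq hτ
    · rw [e, mul_mul_mul_comm, hηη, hττ, mul_one] at hsq; exact absurd hsq hτ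
  -- the count in the coset of `u`
  obtain ⟨s, hs, r, hr, hsr⟩ := slide
  obtain ⟨xs, hxs⟩ := D.six_real false hs
  obtain ⟨xr', hxr⟩ := D.six_real false hr
  have h4 : D.rn false (qcomp (1, 2, 4, 14) qS) = 4 := by
    rw [← (D.rn_sig_fibre h false).2]
    exact (D.rn_conj (Act.mul D hxs (Act.mul D hact hxr)) (Act.mul D hact (D.sig_act' false)) hsr).symm
  have hcnt : Nat.card {y : G // IsConj D.t y ∧ ∃ hy : y ∈ N, φ ⟨y, hy⟩ = τ}
      = D.rn false (1, 2, 4, 14) + 4 := by
    have hc : Nat.card {y : G // IsConj D.t y ∧ u⁻¹ * y ∈ D.T} = D.rn false (1, 2, 4, 14) + 4 := by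
      have h2 := D.card_union_rn false [(1, 2, 4, 14), qcomp (1, 2, 4, 14) qS]
        (by simp [fix_plain.2.2.symm])
      simp only [List.map_cons, List.map_nil, List.sum_cons, List.sum_nil, add_zero, h4] at h2
      rw [← h2]
      refine Nat.card_congr (Equiv.subtypeEquivRight fun y => and_congr_right fun _ => ?_)
      simp only [List.mem_cons, List.not_mem_nil, or_false, exists_eq_or_imp, exists_eq_left]
      constructor
      · intro hy
        rcases D.act_T hy false with e | e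
        · left; simpa [Act.qI_right D hact] using Act.mul D hact e
        · right; simpa using Act.mul D hact e
      · rintro (hy | hy)
        · exact D.A_le_T false (D.fibre hact hy)
        · have := mul_mem (D.sig_T false) (D.A_le_T false (D.fibre (Act.mul D hact (D.sig_act' false)) hy))
          simpa [mul_assoc] using this
    rw [← hc]
    refine Nat.card_congr (Equiv.subtypeEquivRight fun y => and_congr_right fun _ => ?_)
    constructor
    · rintro ⟨hy, e⟩
      have e' : ((⟨u, hu⟩ : N) : N ⧸ T') = ((⟨y, hy⟩ : N) : N ⧸ T') := e.symm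
      have e2 := QuotientGroup.eq.1 e'
      exact mem_subgroupOf.1 e2
    · intro hy
      have hyN : y ∈ N := by simpa using mul_mem hu (le_normalizer hy)
      exact ⟨hyN, (heq ⟨u, hu⟩ ⟨y, hyN⟩ hy).symm⟩
  let e : N ⧸ T' → ℕ := fun a => Nat.card {q : fixedBy (G ⧸ N) D.t // fixVal φ D.t q.1 = a}
  have he := fun a => card_fix_val φ D.t a
  have htr := transfer_eq_prod_pow φ D.tt e he
  refine index_two_of_hom (IsPGroup.of_card hQ) (MonoidHom.transfer φ) (x := D.t) ?_
  rw [htr, Finset.prod_eq_single τ]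
  · have hodd : Odd (e τ) := by
      have h1 := he τ
      rw [hcnt, show Nat.card N = 128 from cN,
        show Nat.card (centralizer ({D.t} : Set G)) = 32 * D.c from D.card] at h1
      obtain ⟨w, hw⟩ := D.c_odd
      show Odd (Nat.card _)
      rw [Nat.odd_iff]
      rcases D.rn_plain h with e0 | e0 <;> rw [e0, hw] at h1 <;> omega
    obtain ⟨l, hl⟩ := hodd
    rw [hl, pow_succ, pow_mul, show τ ^ 2 = 1 by rw [sq, hττ], one_pow, one_mul]
    exact hτ
  · intro a _ ha
    rcases Nat.eq_zero_or_pos (Nat.card {y : G // IsConj D.t y ∧ ∃ hy : y ∈ N, φ ⟨y, hy⟩ = a}) with h0 | h0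
    · have h1 := he a
      rw [h0, mul_zero] at h1
      have h2 : e a = 0 := (mul_eq_zero.1 h1).resolve_left Nat.card_pos.ne'
      rw [h2, pow_zero]
    · haveI := (Nat.card_pos_iff.1 h0).1
      obtain ⟨⟨y, hyR, hy, hv⟩⟩ := ‹Nonempty {y : G // IsConj D.t y ∧ ∃ hy : y ∈ N, φ ⟨y, hy⟩ = a}›
      rcases hval y (D.inv_of_conj hyR) hy with e1 | e1
      · rw [← hv, e1, one_pow]
      · exact absurd (hv ▸ e1) ha
  · intro hc; exact absurd (Finset.mem_univ _) hc

end Data

end CfsgLib.CentSixSeven
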