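import Cfsg.Agent.CentSixSeven.DoubleTables

/-!
The case where the normalizer of `T` centralizes the involution `a`.
-/

set_option autoImplicit false
set_option linter.unusedSectionVars false
set_option linter.style.haveILetI false
set_option maxRecDepth 8000
set_option maxHeartbeats 2000000

namespace CfsgLib.CentSixSeven

open Subgroup MulAction

theorem frame_swap : ∀ i, aEl (!i) 1 = aEl i 7 ∧ aEl i 1 = aEl (!i) 7 := by decide +kernel

theorem rho_one : ∀ i, ((1, rhoP i) : M6) * aEl i 1 * (1, rhoP i)⁻¹ ≠ aEl i 1 := by decide +kernel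

theorem rho_maps : ∀ i k, ∃ l, ((1, rhoP i) : M6) * aEl i k * (1, rhoP i)⁻¹ = aEl i l := by
  decide +kernel

theorem second_choice : ∀ a : Fin 16, a ∈ [(4 : Fin 16), 5] →
    xr a 6 ∈ [(2 : Fin 16), 3] ∧ xr (xr a 6) 6 = a := by decide +kernel

theorem second_value : ∀ a : Fin 16, a.val < 8 → a ≠ 0 → a ≠ 1 → a ≠ 6 → a ≠ 7 →
    a ∈ [(2 : Fin 16), 3] ∨ a ∈ [(4 : Fin 16), 5] := by decide +kernel

set_option synthInstance.maxSize 20000 in
theorem first_facts : ∀ w ∈ [(2 : Fin 16), 3],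
    qcomp (1, w, xr w 6, 9) (1, w, xr w 6, 14) = (1, 2, 4, 15) ∧
    ∃ P : Bool, (1, w, xr w 6, 9) ∈ w0 P ∧ (1, w, xr w 6, 14) ∈ w0 P ∧ w0 P = [(1, 2, 4, 8),
      (1, w, xr w 6, 9), (1, w, xr w 6, 14), (1, 2, 4, 15)] := by decide +kernel

namespace Data

variable {G : Type*} [Group G] (D : Data G)

/-- Every element of the normalizer of `T` centralizes `a`. -/
def FixA : Prop := ∀ n ∈ normalizer (D.T : Set G), n * D.j (aEl false 1) * n⁻¹ = D.j (aEl false 1)

theorem fixA_both (hE : D.FixA) {n : G} (hn : n ∈ normalizer (D.T : Set G)) (i : Bool) :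
    n * D.j (aEl i 1) * n⁻¹ = D.j (aEl i 1) ∧ n * D.j (aEl i 7) * n⁻¹ = D.j (aEl i 7) := by
  have h7 : n * D.j (aEl false 7) * n⁻¹ = D.j (aEl false 7) := by
    rw [show aEl false 7 = aEl false 1 * aEl false 6 by decide +kernel, map_mul,
      show n * (D.j (aEl false 1) * D.j (aEl false 6)) * n⁻¹
        = n * D.j (aEl false 1) * n⁻¹ * (n * D.j (aEl false 6) * n⁻¹) by group, hE n hn, D.fix_z hn]
  cases i
  · exact ⟨hE n hn, h7⟩
  · rw [show aEl true 1 = aEl false 7 from (frame_swap false).1,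
      show aEl true 7 = aEl false 1 from ((frame_swap false).2).symm]
    exact ⟨h7, hE n hn⟩

theorem fix_seven [Finite G] (h : D.HasPattern false false true true true) (hE : D.FixA) {x : G}
    {i : Bool} (hx : x ∈ D.X i) : x * D.j (aEl i 7) * x⁻¹ = D.j (aEl i 7) := by
  obtain ⟨g, n, r, p, q, rfl, hn, ⟨s, hs, hgs⟩, -, hq, hr⟩ := D.decomp h hx
  have e1 : r * D.j (aEl i 7) * r⁻¹ = D.j (aEl i 7) := by rw [hr 7, (six_facts q hq).2.2]
  have e2 : g * D.j (aEl i 7) * g⁻¹ = D.j (aEl i 7) := by rw [hgs 7, (six_facts s hs).2.2]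
  calc g * n * r * D.j (aEl i 7) * (g * n * r)⁻¹
      = g * (n * (r * D.j (aEl i 7) * r⁻¹) * n⁻¹) * g⁻¹ := by group
    _ = D.j (aEl i 7) := by rw [e1, (D.fixA_both hE hn i).2, e2]

theorem no_swap [Finite G] (h : D.HasPattern false false true true true) (hE : D.FixA) {n : G}
    (hn : n ∈ normalizer (D.T : Set G)) (i : Bool) : n ∈ D.X i := by
  obtain ⟨b, f, hf⟩ := D.exists_maps hn i
  by_cases hb : b = i
  · subst hb; exact Act.mem D (D.act_of_maps hf)
  exfalso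
  have hb' : b = !i := by cases b <;> cases i <;> simp_all
  subst hb'
  have hy : n⁻¹ * D.j (1, rhoP (!i)) * n ∈ D.X i := by
    refine D.mem_normalizer_map (AM i) ?_
    rintro _ ⟨k, rfl⟩
    obtain ⟨l, hl⟩ := rho_maps (!i) (f k)
    obtain ⟨k', rfl⟩ := Finite.injective_iff_surjective.1 (Maps.inj D hf) l
    refine ⟨aEl i k', aEl_mem i k', ?_⟩
    calc n⁻¹ * D.j (1, rhoP (!i)) * n * D.j (aEl i k) * (n⁻¹ * D.j (1, rhoP (!i)) * n)⁻¹
        = n⁻¹ * (D.j (1, rhoP (!i)) * (n * D.j (aEl i k) * n⁻¹) * (D.j (1, rhoP (!i)))⁻¹) * n := by group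
      _ = n⁻¹ * (n * D.j (aEl i k') * n⁻¹) * n := by
        rw [hf k, ← map_inv, ← map_mul, ← map_mul, hl, ← hf k']
      _ = D.j (aEl i k') := by group
  have h1 := D.fix_seven h hE hy
  have h7 := (D.fixA_both hE hn i).2
  refine rho_one (!i) (D.inj ?_)
  rw [(frame_swap i).1, map_mul, map_mul, map_inv]
  calc D.j (1, rhoP (!i)) * D.j (aEl i 7) * (D.j (1, rhoP (!i)))⁻¹
      = n * (n⁻¹ * D.j (1, rhoP (!i)) * n * (n⁻¹ * D.j (aEl i 7) * n)
          * (n⁻¹ * D.j (1, rhoP (!i)) * n)⁻¹) * n⁻¹ := by group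
    _ = n * (n⁻¹ * D.j (1, rhoP (!i)) * n * D.j (aEl i 7)
          * (n⁻¹ * D.j (1, rhoP (!i)) * n)⁻¹) * n⁻¹ := by
        have e : n⁻¹ * D.j (aEl i 7) * n = D.j (aEl i 7) := by
          calc n⁻¹ * D.j (aEl i 7) * n = n⁻¹ * (n * D.j (aEl i 7) * n⁻¹) * n := by rw [h7]
            _ = D.j (aEl i 7) := by group
        rw [e]
    _ = D.j (aEl i 7) := by rw [h1, h7]

theorem act_shape [Finite G] (h : D.HasPattern false false true true true) (hE : D.FixA) {n : G}
    (hn : n ∈ normalizer (D.T : Set G)) {i : Bool} {p : Q} (hp : D.Act n i p) :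
    p = (1, p.2.1, xr p.2.1 6, p.2.2.2) ∧
      (p.2.1 ∈ [(2 : Fin 16), 3] ∨ p.2.1 ∈ [(4 : Fin 16), 5]) := by
  obtain ⟨e1, e2, e4, e8⟩ := ev_basis p
  have h1 : ev p 1 = 1 := aEl_inj i _ _ (D.inj ((hp 1).symm.trans (D.fixA_both hE hn i).1))
  have h7 : ev p 7 = 7 := aEl_inj i _ _ (D.inj ((hp 7).symm.trans (D.fixA_both hE hn i).2))
  have h6 : ev p 6 = 6 := Maps.six D hn hp
  have hform := D.lin_form hn hp
  have h4 : ev p 4 = xr (ev p 2) 6 := by
    have := congrFun hform 4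
    rw [this]
    simp [lin, (xr_zero _).1, (xr_zero _).2]
  refine ⟨?_, ?_⟩
  · rw [← e2, ← e8]
    exact Prod.ext (e1.symm.trans h1) (Prod.ext e2.symm (Prod.ext (e4.symm.trans h4) e8.symm))
  rw [← e2]
  have hinj := Maps.inj D hp
  refine second_value _ ?_ ?_ ?_ ?_ ?_
  · by_contra hc
    have hT : ∀ k, aEl i k ∈ tList := fun k => mem_tList.2 (aEl_mem_T _ _)
    have := (high_iff i 2).1 ((D.inR_tab h (hT 2)).1 ((Maps.inR D hp 2).2
      ((D.inR_tab h (hT _)).2 ((high_iff i _).2 (by omega)))))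
    exact absurd this (by decide)
  · intro e
    have h0 : ev p 0 = 0 := by simp [ev, lin, (xr_zero _).1]
    exact absurd (hinj (e.trans h0.symm)) (by decide)
  · intro e; exact absurd (hinj (e.trans h1.symm)) (by decide)
  · intro e; exact absurd (hinj (e.trans h6.symm)) (by decide)
  · intro e; exact absurd (hinj (e.trans h7.symm)) (by decide)

/-- A mover to the index `k` with normalized action. -/
theorem exists_rep [Finite G] (h : D.HasPattern false false true true true) (hE : D.FixA) (i : Bool)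
    {k : Fin 16} (hk : zI k = true) (hk8 : 8 ≤ k.val) :
    ∃ n ∈ normalizer (D.T : Set G), ∃ w ∈ [(2 : Fin 16), 3], D.Act n i (1, w, xr w 6, k) := by
  obtain ⟨n, hn, hnt⟩ := D.exists_mover ((zI_iff i k).1 hk)
    ((D.inR_tab h (mem_tList.2 (aEl_mem_T i k))).2 ((high_iff i k).2 hk8))
  obtain ⟨p, hp⟩ := D.exists_act (D.no_swap h hE hn i)
  obtain ⟨hshape, hw⟩ := D.act_shape h hE hn hp
  have h8 : p.2.2.2 = k := by
    rw [← (ev_basis p).2.2.2]
    exact aEl_inj i _ _ (D.inj ((Act.t_image D hp).symm.trans hnt))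
  rw [h8] at hshape
  rcases hw with hw | hw
  · exact ⟨n, hn, _, hw, hshape ▸ hp⟩
  · obtain ⟨hw', hw2⟩ := second_choice _ hw
    refine ⟨n * D.j (1, sigP i), mul_mem hn (le_normalizer (D.sig_T i)), _, hw', ?_⟩
    have h2 := Act.mul D hp (D.sig_act' i)
    have e : qcomp p qS = (1, xr p.2.1 6, xr (xr p.2.1 6) 6, k) := by
      obtain ⟨e1, e2, e4, e8⟩ := ev_basis p
      rw [hw2]
      show (ev p 1, ev p 4, ev p 2, ev p 8) = _
      rw [e1, e4, e2, e8, h8, hshape]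
    rwa [e] at h2

/-- The image of the normalizer of `A i` is one of the two lists. -/
structure Img [Finite G] (i : Bool) (P : Bool) : Prop where
  w0_real : ∀ w ∈ w0 P, ∃ n ∈ normalizer (D.T : Set G), D.Act n i w
  w8_mem : ∀ n ∈ normalizer (D.T : Set G), ∃ q ∈ w8 P, D.Act n i q
  mem : ∀ x ∈ D.X i, ∃ q ∈ kImg P, D.Act x i q
  real : ∀ q ∈ kImg P, ∃ x, D.Act x i q

theorem exists_img [Finite G] (h : D.HasPattern false false true true true) (hE : D.FixA) (i : Bool) :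
    ∃ P, D.Img i P := by
  obtain ⟨na, hna, wa, hwa, hA⟩ := D.exists_rep h hE i (k := 9) rfl (by decide)
  obtain ⟨nz, hnz, wz, hwz, hZ⟩ := D.exists_rep h hE i (k := 14) rfl (by decide)
  have hw : wa = wz := by
    by_contra hne
    obtain ⟨h8, hbad⟩ := same_shape wa hwa wz hwz hne
    obtain ⟨r, hr⟩ := D.six_real i (q := (2, 4, 1, 8)) (by decide +kernel)
    exact hbad (D.act_six (Act.mul D hZ (Act.mul D hA (Act.mul D hr (Act.mul D hZ hA)))) h8)
  subst hw
  obtain ⟨hprod, P, -, -, hP⟩ := first_facts wa hwa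
  refine ⟨P, ?_⟩
  have hN := hprod ▸ Act.mul D hA hZ
  have hreal : ∀ w ∈ w0 P, ∃ n ∈ normalizer (D.T : Set G), D.Act n i w := by
    intro w hw
    rw [hP] at hw
    simp only [List.mem_cons, List.not_mem_nil, or_false] at hw
    rcases hw with rfl | rfl | rfl | rfl
    · exact ⟨1, one_mem _, D.act_one i⟩
    · exact ⟨na, hna, hA⟩
    · exact ⟨nz, hnz, hZ⟩
    · exact ⟨na * nz, mul_mem hna hnz, hN⟩
  have hw8 : ∀ n ∈ normalizer (D.T : Set G), ∃ w ∈ w0 P, ∃ e ∈ [qI, qS], D.Act n i (qcomp w e) := by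
    intro n hn
    obtain ⟨p, hp⟩ := D.exists_act (D.no_swap h hE hn i)
    have hz : zI (ev p 8) = true := Maps.zI D hn hp rfl
    have hh : 8 ≤ (ev p 8).val := (high_iff i _).1 ((D.inR_tab h (mem_tList.2 (aEl_mem_T _ _))).1
      (isConj_iff.2 ⟨n, Act.t_image D hp⟩))
    have hk : ∀ k : Fin 16, zI k = true → 8 ≤ k.val → k = 8 ∨ k = 9 ∨ k = 14 ∨ k = 15 := by decide +kernel
    obtain ⟨w, hw, hwk⟩ : ∃ w ∈ w0 P, w.2.2.2 = ev p 8 := by
      rw [hP]
      rcases hk _ hz hh with e | e | e | e <;> rw [e]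
      · exact ⟨_, List.mem_cons_self, rfl⟩
      · exact ⟨_, List.mem_cons_of_mem _ List.mem_cons_self, rfl⟩
      · exact ⟨_, List.mem_cons_of_mem _ (List.mem_cons_of_mem _ List.mem_cons_self), rfl⟩
      · exact ⟨_, List.mem_cons_of_mem _ (List.mem_cons_of_mem _ (List.mem_cons_of_mem _ List.mem_cons_self)), rfl⟩
    obtain ⟨m, hm, hmw⟩ := hreal w hw
    have hτ := D.coset_of_eq hm hn (by
      rw [Act.t_image D hmw, Act.t_image D hp, (ev_basis w).2.2.2, hwk])
    refine ⟨w, hw, ?_⟩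
    rcases D.act_T hτ i with e | e
    · exact ⟨qI, List.mem_cons_self, by simpa using Act.mul D hmw e⟩
    · exact ⟨qS, List.mem_cons_of_mem _ List.mem_cons_self, by simpa using Act.mul D hmw e⟩
  refine ⟨hreal, ?_, ?_, ?_⟩
  · intro n hn
    obtain ⟨w, hw, e, he, hact⟩ := hw8 n hn
    refine ⟨_, List.mem_flatMap.2 ⟨w, hw, ?_⟩, hact⟩
    obtain ⟨m, -, hm⟩ := hreal w hw
    simp only [List.mem_cons, List.not_mem_nil, or_false] at he ⊢
    rcases he with rfl | rfl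
    · exact Or.inl (Act.qI_right D hm)
    · exact Or.inr rfl
  · intro x hx
    obtain ⟨g, n, r, p, q, rfl, hn, ⟨s, hs, hg⟩, hp, hq, hr⟩ := D.decomp h hx
    obtain ⟨w, hw, e, he, hact⟩ := hw8 n hn
    exact ⟨_, kImg_mem P s hs w hw e he q hq, Act.mul D (Act.mul D hg hact) hr⟩
  · intro q hq
    obtain ⟨s, hs, w, hw, r, hr, rfl⟩ := kImg_gen P q hq
    obtain ⟨g, hg⟩ := D.six_real i hs
    obtain ⟨m, -, hm⟩ := hreal w hw
    obtain ⟨g', hg'⟩ := D.six_real i hr
    exact ⟨_, Act.mul D (Act.mul D hg hm) hg'⟩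

end Data

end CfsgLib.CentSixSeven
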