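import Cfsg.Agent.CentSixSeven.Act

/-!
The two possible images of the normalizer of an elementary abelian subgroup, with classes and characters.
-/

set_option autoImplicit false
set_option maxRecDepth 8000
set_option maxHeartbeats 1000000
set_option linter.style.longLine false

namespace CfsgLib.CentSixSeven

/-- The image, for each of the two types. -/
def kImg : Bool → List Q
  | false => [
    (1, 2, 4, 8), (1, 2, 4, 9), (1, 2, 4, 10), (1, 2, 4, 11), (1, 2, 4, 12),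
    (1, 2, 4, 13), (1, 2, 4, 14), (1, 2, 4, 15), (1, 4, 2, 8), (1, 4, 2, 9),
    (1, 4, 2, 10), (1, 4, 2, 11), (1, 4, 2, 12), (1, 4, 2, 13), (1, 4, 2, 14),
    (1, 4, 2, 15), (2, 1, 4, 8), (2, 1, 4, 9), (2, 1, 4, 10), (2, 1, 4, 11),
    (2, 1, 4, 12), (2, 1, 4, 13), (2, 1, 4, 14), (2, 1, 4, 15), (2, 4, 1, 8),
    (2, 4, 1, 9), (2, 4, 1, 10), (2, 4, 1, 11), (2, 4, 1, 12), (2, 4, 1, 13),
    (2, 4, 1, 14), (2, 4, 1, 15), (4, 1, 2, 8), (4, 1, 2, 9), (4, 1, 2, 10),
    (4, 1, 2, 11), (4, 1, 2, 12), (4, 1, 2, 13), (4, 1, 2, 14), (4, 1, 2, 15),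
    (4, 2, 1, 8), (4, 2, 1, 9), (4, 2, 1, 10), (4, 2, 1, 11), (4, 2, 1, 12),
    (4, 2, 1, 13), (4, 2, 1, 14), (4, 2, 1, 15)]
  | true => [
    (1, 2, 4, 8), (1, 2, 4, 15), (1, 3, 5, 9), (1, 3, 5, 14), (1, 4, 2, 8),
    (1, 4, 2, 15), (1, 5, 3, 9), (1, 5, 3, 14), (2, 1, 4, 8), (2, 1, 4, 15),
    (2, 3, 6, 10), (2, 3, 6, 13), (2, 4, 1, 8), (2, 4, 1, 15), (2, 6, 3, 10),
    (2, 6, 3, 13), (3, 1, 5, 9), (3, 1, 5, 14), (3, 2, 6, 10), (3, 2, 6, 13),
    (3, 5, 1, 9), (3, 5, 1, 14), (3, 6, 2, 10), (3, 6, 2, 13), (4, 1, 2, 8),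
    (4, 1, 2, 15), (4, 2, 1, 8), (4, 2, 1, 15), (4, 5, 6, 11), (4, 5, 6, 12),
    (4, 6, 5, 11), (4, 6, 5, 12), (5, 1, 3, 9), (5, 1, 3, 14), (5, 3, 1, 9),
    (5, 3, 1, 14), (5, 4, 6, 11), (5, 4, 6, 12), (5, 6, 4, 11), (5, 6, 4, 12),
    (6, 2, 3, 10), (6, 2, 3, 13), (6, 3, 2, 10), (6, 3, 2, 13), (6, 4, 5, 11),
    (6, 4, 5, 12), (6, 5, 4, 11), (6, 5, 4, 12)]

def qKey (q : Q) : ℕ := (q.1.val + 16 * q.2.1.val + 256 * q.2.2.2.val) % 293

def clsMask : Bool → ℕ × ℕ × ℕ
  | false => (0x400000001200000000000000000080010000000000000001000000090002000002000000,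
      0x206028000003014000091808000040c040000044028000122014000018008000004020000,
      0x20602800010301400008180a000040c05000020602800010301400008c00a000206028000)
  | true => (0x10002000000000000000000000000000020900000200001000000090002000000000000,
      0x85448043040014001818000000000088800000020000020280000180080a0000622000,
      0x18544800b0c00040018180000000000888010000220000302800008c00a08020062a200)

/-- The class: `0` trivial, `1` to `5` involutions, `6` the others. -/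
def kCls (P : Bool) (q : Q) : Fin 7 :=
  Fin.ofNat 7 ((if (clsMask P).1.testBit (qKey q) then 1 else 0) +
    (if (clsMask P).2.1.testBit (qKey q) then 2 else 0) + (if (clsMask P).2.2.testBit (qKey q) then 4 else 0))

/-- The two characters. -/
def kPsi : Bool → Bool → Q → Bool
  | false, false, q => Nat.testBit 0x2020080001010040000808020000404010000202008000101004000084002000202008000 (qKey q)
  | false, true, q => Nat.testBit 0x246028000120014000001800000048005000000000000000300000009000a000006000000 (qKey q)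
  | true, false, q => Nat.testBit 0x10440800a08000400100800000000008080100000200001020000084002080200208200 (qKey q)
  | true, true, q => Nat.testBit 0x180028003000000000018000000000088a090000220000302800009000a000000000000 (qKey q)

/-- Class representatives. -/
def kRep : Bool → Fin 7 → Q
  | false, 0 => (1, 2, 4, 8)
  | false, 1 => (1, 2, 4, 9)
  | false, 2 => (1, 2, 4, 11)
  | false, 3 => (1, 2, 4, 15)
  | false, 4 => (1, 4, 2, 8)
  | false, 5 => (1, 4, 2, 9)
  | false, 6 => (1, 4, 2, 10)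
  | true, 0 => (1, 2, 4, 8)
  | true, 1 => (1, 5, 3, 14)
  | true, 2 => (1, 5, 3, 9)
  | true, 3 => (1, 2, 4, 15)
  | true, 4 => (1, 3, 5, 9)
  | true, 5 => (1, 3, 5, 14)
  | true, 6 => (2, 3, 6, 10)

/-- Coset representatives of `T` in its normalizer. -/
def w0 : Bool → List Q
  | false => [(1, 2, 4, 8), (1, 2, 4, 9), (1, 2, 4, 14), (1, 2, 4, 15)]
  | true => [(1, 2, 4, 8), (1, 3, 5, 9), (1, 3, 5, 14), (1, 2, 4, 15)]

def w8 (P : Bool) : List Q := (w0 P).flatMap fun w => [w, qcomp w qS]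

def c16 (P : Bool) (c : Fin 7) : List Q :=
  (kImg P).filter fun q => decide (qcomp q (kRep P c) = qcomp (kRep P c) q)

theorem kImg_nodup : ∀ P, (kImg P).Nodup ∧ (kImg P).length = 48 := by decide +kernel

theorem kImg_mem : ∀ P, ∀ s ∈ six, ∀ w ∈ w0 P, ∀ e ∈ [qI, qS], ∀ r ∈ six,
    qcomp (qcomp s (qcomp w e)) r ∈ kImg P := by decide +kernel

theorem kImg_gen : ∀ P, ∀ q ∈ kImg P, ∃ s ∈ six, ∃ w ∈ w0 P, ∃ r ∈ six, qcomp (qcomp s w) r = q := by
  decide +kernel

theorem kPsi_mul : ∀ P b, ∀ p ∈ kImg P, ∀ q ∈ kImg P,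
    kPsi P b (qcomp p q) = xor (kPsi P b p) (kPsi P b q) := by decide +kernel

theorem kCls_six : ∀ P, ∀ q ∈ kImg P, kCls P q = 6 → qcomp q q ≠ qI := by decide +kernel

theorem kCls_conj : ∀ P, ∀ q ∈ kImg P, kCls P q ≠ 6 →
    ∃ g ∈ kImg P, qcomp g (kRep P (kCls P q)) = qcomp q g := by decide +kernel

theorem kRep_mem : ∀ P c, kRep P c ∈ kImg P ∧ kCls P (kRep P c) = c := by decide +kernel

theorem kCls_special : ∀ P, kCls P qI = 0 ∧ kCls P qS = 4 ∧ qI ∈ kImg P ∧ qS ∈ kImg P := by decide +kernel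

theorem count_all : ∀ P, List.Perm ((kImg P).map (kCls P))
    ([0, 3] ++ List.replicate 3 1 ++ List.replicate 3 2 ++ List.replicate 6 4 ++ List.replicate 6 5 ++
      List.replicate 28 6) := by decide +kernel

theorem count_sgn : ∀ P, List.Perm (((kImg P).filter (kPsi P false)).map (kCls P))
    (List.replicate 6 4 ++ List.replicate 6 5 ++ List.replicate 12 6) := by decide +kernel

theorem count_par : ∀ P, List.Perm (((kImg P).filter (kPsi P true)).map (kCls P))
    ([3] ++ List.replicate 3 1 ++ List.replicate 6 5 ++ List.replicate 14 6) := by decide +kernel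

theorem w8_facts : ∀ P, (w8 P).Nodup ∧ (∀ q ∈ w8 P, q ∈ kImg P) ∧
    List.Perm ((w8 P).map (kCls P)) [0, 4, 1, 5, 2, 4, 3, 5] := by decide +kernel

theorem pair_nine : kCls false (1, 2, 4, 9) = 1 ∧ kCls false (qcomp (1, 2, 4, 9) qS) = 5 ∧
    kCls true (1, 3, 5, 9) = 4 ∧ kCls true (qcomp (1, 3, 5, 9) qS) = 2 ∧
    ∀ P, kCls P (1, 2, 4, 15) = 3 ∧ kCls P (qcomp (1, 2, 4, 15) qS) = 5 := by decide +kernel

theorem rep_fix : ∀ P,
    (Finset.univ.filter fun k => ev (kRep P 5) k = k).card = 4 ∧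
    (P = true → (Finset.univ.filter fun k => ev (kRep P 1) k = k).card = 4 ∧
      (Finset.univ.filter fun k => ev (kRep P 2) k = k).card = 4) := by decide +kernel

set_option synthInstance.maxSize 20000 in
theorem c16_facts : ∀ P, ∀ c ∈ [(1 : Fin 7), 2], (c16 P c).Nodup ∧ (c16 P c).length = 16 ∧ qI ∈ c16 P c ∧
    (∀ p ∈ c16 P c, ∀ q ∈ c16 P c, qcomp p q ∈ c16 P c) ∧
    (∀ p ∈ c16 P c, ∀ q ∈ kImg P, qcomp p q = qI → q ∈ c16 P c) ∧
    ∀ g ∈ c16 P c, qcomp g (kRep P c) = qcomp (kRep P c) g ∧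
      qcomp g (kRep P 3) = qcomp (kRep P 3) g := by decide +kernel

/-- The shapes of the representatives must agree. -/
theorem same_shape : ∀ wa ∈ [(2 : Fin 16), 3], ∀ wz ∈ [(2 : Fin 16), 3], wa ≠ wz →
    let a : Q := (1, wa, xr wa 6, 9)
    let z : Q := (1, wz, xr wz 6, 14)
    let w := qcomp z (qcomp a (qcomp (2, 4, 1, 8) (qcomp z a)))
    ev w 8 = 8 ∧ w ∉ six := by decide +kernel

/-- An element cycling the fused central elements does not normalize an elementary subgroup. -/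
theorem no_cycle : ∀ w ∈ [(2 : Fin 16), 3, 4, 5], ∀ a8 ∈ [(9 : Fin 16), 15],
    let n : Q := (7, w, xr w 6, a8)
    let r : Q := (2, 4, 1, 8)
    let u := qcomp n (qcomp r (qcomp n (qcomp n n)))
    let v := qcomp n (qcomp n (qcomp n (qcomp r n)))
    (ev u 8 = 8 ∧ u ∉ six) ∨ (ev v 8 = 8 ∧ v ∉ six) := by decide +kernel

/-- A map moving `t` to `tz` acts linearly as `1` or `σ` if the other classes are avoided. -/
theorem no_alpha : ∀ w ∈ [(3 : Fin 16), 5],
    let p : Q := (1, w, xr w 6, 14)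
    ∃ s ∈ six, ∀ r ∈ six, ev r (ev (qcomp p (qcomp s p)) 8) ∉ [(8 : Fin 16), 14] := by decide +kernel

end CfsgLib.CentSixSeven
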