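import Cfsg.Agent.CentSixSeven.Model

/-!
Finite checks in the symmetric groups of degree 6 and 7.
-/

set_option autoImplicit false
set_option linter.unusedSectionVars false
set_option maxRecDepth 100000
set_option maxHeartbeats 4000000

namespace CfsgLib.CentSixSeven

open Equiv

def hList (i : Bool) : List (Perm (Fin 6)) := (List.finRange 8).map (hP i)

def conjPerms (i : Bool) : List (Perm (Fin 6)) :=
  [1, rhoP i, rhoP i * rhoP i, sigP i, rhoP i * sigP i, rhoP i * rhoP i * sigP i]

theorem selfT6 : ∀ g : Perm (Fin 6), g * pa * g⁻¹ ∈ tPerms → g * ps1 * g⁻¹ ∈ tPerms →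
    g * pq * g⁻¹ ∈ tPerms → g ∈ tPerms := by decide +kernel

set_option synthInstance.maxSize 20000 in
theorem selfA6 : ∀ (i : Bool) (g : Perm (Fin 6)), g * eB i 0 * g⁻¹ = eB i 0 → g * eB i 1 * g⁻¹ = eB i 1 →
    g * eB i 2 * g⁻¹ = eB i 2 → g ∈ hList i := by decide +kernel

theorem permA6 : ∀ (i : Bool) (g : Perm (Fin 6)), g * eB i 0 * g⁻¹ ∈ hList i → g * eB i 1 * g⁻¹ ∈ hList i →
    g * eB i 2 * g⁻¹ ∈ hList i →
      ∃ s ∈ conjPerms i, g * eB i 0 * g⁻¹ = s * eB i 0 * s⁻¹ ∧ g * eB i 1 * g⁻¹ = s * eB i 1 * s⁻¹ ∧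
        g * eB i 2 * g⁻¹ = s * eB i 2 * s⁻¹ := by decide +kernel

theorem gens_mem : pa ∈ tPerms ∧ ps1 ∈ tPerms ∧ pq ∈ tPerms ∧
    (∀ i, ∀ p ∈ hList i, p ∈ tPerms) ∧ ∀ i (k : Fin 3), eB i k ∈ hList i := by decide +kernel

theorem conjs_eq (i : Bool) : conjs i = (conjPerms i).map fun p => ((1 : Multiplicative (ZMod 2)), p) := rfl

/-- Adding a fixed point. -/
def ext7 : Perm (Fin 6) →* Perm (Fin 7) where
  toFun p := finSuccEquivLast.symm.permCongr p.optionCongr
  map_one' := by
    ext x
    simp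
  map_mul' p q := by
    ext x
    refine Fin.lastCases ?_ (fun y => ?_) x <;> simp

theorem ext7_cast (p : Perm (Fin 6)) (x : Fin 6) : ext7 p x.castSucc = (p x).castSucc := by
  simp [ext7]

theorem ext7_last (p : Perm (Fin 6)) : ext7 p (Fin.last 6) = Fin.last 6 := by
  simp [ext7, -Fin.reduceLast]

theorem ext7_inj : Function.Injective ext7 := by
  intro p q h
  ext x
  have := congrArg (fun r : Perm (Fin 7) => r x.castSucc) h
  simp only [ext7_cast] at this
  exact congrArg Fin.val (Fin.castSucc_injective _ this)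

theorem ext7_support (p : Perm (Fin 6)) : (ext7 p).support.card = p.support.card := by
  have : (ext7 p).support = p.support.map ⟨Fin.castSucc, Fin.castSucc_injective _⟩ := by
    ext x
    refine Fin.lastCases ?_ (fun y => ?_) x
    · simp [ext7_last, -Fin.reduceLast]
    · simp [ext7_cast]
  rw [this, Finset.card_map]

theorem exists_ext7 {g : Perm (Fin 7)} (h : g (Fin.last 6) = Fin.last 6) : ∃ p, ext7 p = g := by
  let o : Perm (Option (Fin 6)) := finSuccEquivLast.permCongr g
  have ho : o none = none := by simp [o, h, -Fin.reduceLast]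
  refine ⟨Equiv.removeNone o, ?_⟩
  have hoc : (Equiv.removeNone o).optionCongr = o := by
    refine Equiv.ext fun z => ?_
    cases z with
    | none => simp [ho]
    | some y =>
      have hs : ∃ y', o (some y) = some y' := by
        cases e : o (some y) with
        | none => exact absurd (o.injective (e.trans ho.symm)) (by simp)
        | some y' => exact ⟨y', rfl⟩
      simp [Equiv.removeNone_some _ hs, ho]
  ext x
  simp [ext7, hoc, o]

/-- Conjugation into a family all of whose members fix the last point, with no other common fixed point. -/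
theorem fix_last {g : Perm (Fin 7)} {l : List (Perm (Fin 6))}
    (hl : ∀ y : Fin 6, ∃ p ∈ l, p y ≠ y) (h : ∀ p ∈ l, ∃ q, g * ext7 p * g⁻¹ = ext7 q) :
    g (Fin.last 6) = Fin.last 6 := by
  by_contra hne
  have hg : ∀ x, g (g⁻¹ x) = x := fun x => g.apply_symm_apply x
  have hg' : ∀ x, g⁻¹ (g x) = x := fun x => g.symm_apply_apply x
  obtain ⟨y, hy⟩ : ∃ y : Fin 6, y.castSucc = g⁻¹ (Fin.last 6) := by
    refine Fin.exists_castSucc_eq.2 ?_
    intro e
    exact hne (by conv_lhs => rw [← e]
                  exact hg _)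
  obtain ⟨p, hp, hpy⟩ := hl y
  obtain ⟨q, hq⟩ := h p hp
  apply hpy
  have := congrArg (fun r : Perm (Fin 7) => g⁻¹ (r (Fin.last 6))) hq
  simp only [ext7_last, Perm.mul_apply, hg'] at this
  rw [← hy, ext7_cast] at this
  exact Fin.castSucc_injective _ this

theorem moved_T : ∀ y : Fin 6, ∃ p ∈ tPerms, p y ≠ y := by decide +kernel

theorem moved_A : ∀ (i : Bool) (y : Fin 6), ∃ p ∈ hList i, p y ≠ y := by decide +kernel

end CfsgLib.CentSixSeven
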