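import Cfsg.Agent.CentSixSeven.Main
import Cfsg.Agent.CentSixSeven.Perms

/-!
Centralizers isomorphic to `2 × S₆` and `2 × S₇`.
-/

set_option autoImplicit false
set_option linter.unusedSectionVars false
set_option linter.style.haveILetI false
set_option maxRecDepth 8000
set_option maxHeartbeats 1000000

namespace CfsgLib.CentSixSeven

open Subgroup Equiv

theorem center_perm {α : Type*} [Fintype α] [DecidableEq α] (h3 : 3 ≤ Fintype.card α) {z : Perm α}
    (hz : ∀ g, g * z = z * g) : z = 1 := by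
  ext x
  show z x = x
  by_contra hne
  obtain ⟨y, hy1, hy2⟩ : ∃ y, y ≠ x ∧ y ≠ z x := by
    by_contra hc
    push Not at hc
    have hsub : (Finset.univ : Finset α) ⊆ {x, z x} := by
      intro y _
      simp only [Finset.mem_insert, Finset.mem_singleton]
      by_cases hy : y = x
      · exact Or.inl hy
      · exact Or.inr (hc y hy)
    have := (Finset.card_le_card hsub).trans Finset.card_le_two
    rw [Finset.card_univ] at this
    omega
  have h := congrArg (fun p : Perm α => p x) (hz (swap (z x) y))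
  simp only [Perm.mul_apply, swap_apply_left] at h
  rw [swap_apply_of_ne_of_ne (Ne.symm hne) (Ne.symm hy1)] at h
  exact hy2 h

theorem conj_triple {P : Type*} [Group P] (g s : P) (a b c : P)
    (ha : g * a * g⁻¹ = s * a * s⁻¹) (hb : g * b * g⁻¹ = s * b * s⁻¹) (hc : g * c * g⁻¹ = s * c * s⁻¹) :
    g * (a * b * c) * g⁻¹ = s * (a * b * c) * s⁻¹ := by
  calc g * (a * b * c) * g⁻¹ = g * a * g⁻¹ * (g * b * g⁻¹) * (g * c * g⁻¹) := by group
    _ = s * (a * b * c) * s⁻¹ := by rw [ha, hb, hc]; group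

theorem hP_conj (i : Bool) (x : Fin 8) (g s : Perm (Fin 6))
    (h : ∀ k : Fin 3, g * eB i k * g⁻¹ = s * eB i k * s⁻¹) : g * hP i x * g⁻¹ = s * hP i x * s⁻¹ := by
  have hb : ∀ (p : Prop) [Decidable p] (k : Fin 3),
      g * (if p then eB i k else 1) * g⁻¹ = s * (if p then eB i k else 1) * s⁻¹ := by
    intro p _ k
    split_ifs
    · exact h k
    · simp
  exact conj_triple g s _ _ _ (hb _ _) (hb _ _) (hb _ _)

theorem tPerms_low {p : Perm (Fin 6)} (hp : p ∈ tPerms) : ((1 : Multiplicative (ZMod 2)), p) ∈ TM := hp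

theorem hList_mem {i : Bool} {p : Perm (Fin 6)} :
    p ∈ hList i ↔ ∃ k : Fin 8, hP i k = p := by
  simp [hList]

theorem AM_iff {i : Bool} {m : M6} : m ∈ AM i ↔ m.2 ∈ hList i := by
  constructor
  · rintro ⟨k, rfl⟩
    exact hList_mem.2 ⟨_, rfl⟩
  · intro h
    obtain ⟨k, hk⟩ := hList_mem.1 h
    have hbit : ∀ b : Multiplicative (ZMod 2), ∀ k : Fin 8, ∃ l : Fin 16,
        bitM l = b ∧ l.val % 8 = k.val := by decide +kernel
    obtain ⟨l, hl, hlk⟩ := hbit m.1 k
    refine ⟨l, Prod.ext hl ?_⟩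
    show hP i ⟨l.val % 8, _⟩ = m.2
    rw [show (⟨l.val % 8, Nat.mod_lt _ (by norm_num)⟩ : Fin 8) = k from Fin.ext hlk, hk]

/-- Data from an isomorphism with a product with a group resembling a symmetric group. -/
theorem exists_index_two_of_iso {G P : Type*} [Group G] [Finite G] [Group P] {t : G} (ht : t ≠ 1)
    (e : ↥(centralizer ({t} : Set G)) ≃* Multiplicative (ZMod 2) × P)
    (ι : Perm (Fin 6) →* P) (hι : Function.Injective ι)
    (hcen : ∀ z : P, (∀ g, g * z = z * g) → z = 1)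
    (c : ℕ) (hc : Odd c) (hcard : Nat.card P = 16 * c)
    (hT : ∀ g : P, (∀ p ∈ tPerms, ∃ q, g * ι p * g⁻¹ = ι q) → ∃ g', ι g' = g)
    (hA : ∀ i, ∀ g : P, (∀ p ∈ hList i, ∃ q, g * ι p * g⁻¹ = ι q) → ∃ g', ι g' = g)
    (hcls : ∀ (g : P) (p q : Perm (Fin 6)), g * ι p * g⁻¹ = ι q → p.support.card = q.support.card) :
    ∃ K : Subgroup G, K.index = 2 := by
  set C := centralizer ({t} : Set G)
  let emb : M6 →* G := C.subtype.comp (e.symm.toMonoidHom.comp
    (MonoidHom.prodMap (MonoidHom.id (Multiplicative (ZMod 2))) ι))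
  have htC : t ∈ C := mem_centralizer_singleton_iff.2 rfl
  have het : e ⟨t, htC⟩ = (b1, 1) := by
    have hz : (e ⟨t, htC⟩).2 = 1 := hcen _ fun g => by
      have h1 : e.symm (1, g) * ⟨t, htC⟩ = ⟨t, htC⟩ * e.symm (1, g) :=
        Subtype.ext (mem_centralizer_singleton_iff.1 (e.symm (1, g)).2)
      have h2 := congrArg e h1
      rw [map_mul, map_mul, MulEquiv.apply_symm_apply] at h2
      exact congrArg Prod.snd h2
    rcases bit_cases (e ⟨t, htC⟩).1 with h1 | h1
    · refine absurd ?_ ht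
      have : e ⟨t, htC⟩ = 1 := Prod.ext h1 hz
      exact congrArg Subtype.val (e.map_eq_one_iff.1 this)
    · exact Prod.ext h1 hz
  have htM : emb tM = t := by
    show (e.symm (b1, ι 1) : G) = t
    rw [map_one ι, ← het, MulEquiv.symm_apply_apply]
  -- translate conjugation in `G`
  have hconj : ∀ x (hx : x ∈ C) (m m' : M6), x * emb m * x⁻¹ = emb m' ↔
      m.1 = m'.1 ∧ (e ⟨x, hx⟩).2 * ι m.2 * (e ⟨x, hx⟩).2⁻¹ = ι m'.2 := by
    intro x hx m m'
    have h0 : x * emb m * x⁻¹ = emb m' ↔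
        (⟨x, hx⟩ : C) * e.symm (m.1, ι m.2) * (⟨x, hx⟩ : C)⁻¹ = e.symm (m'.1, ι m'.2) := by
      rw [Subtype.ext_iff]; rfl
    rw [h0, ← e.injective.eq_iff, map_mul, map_mul, map_inv, MulEquiv.apply_symm_apply,
      MulEquiv.apply_symm_apply, Prod.ext_iff]
    simp only [Prod.fst_mul, Prod.snd_mul, Prod.fst_inv, Prod.snd_inv, mul_inv_cancel_comm]
  have hback : ∀ x (hx : x ∈ C) (p : Perm (Fin 6)), (e ⟨x, hx⟩).2 = ι p → x = emb ((e ⟨x, hx⟩).1, p) := by
    intro x hx p hp
    show x = (e.symm ((e ⟨x, hx⟩).1, ι p) : G)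
    rw [← hp, MulEquiv.symm_apply_apply]
  have hC : centralizer ({emb tM} : Set G) = C := by rw [htM]
  let D : Data G :=
    { j := emb
      inj := fun a b h => by
        have h1 : ((a.1, ι a.2) : Multiplicative (ZMod 2) × P) = (b.1, ι b.2) :=
          e.symm.injective (Subtype.ext h)
        exact Prod.ext (congrArg Prod.fst h1 : _) (hι (congrArg Prod.snd h1 : _))
      c := c
      c_odd := hc
      card := by
        rw [hC, Nat.card_congr e.toEquiv, Nat.card_prod, hcard, show Nat.card (Multiplicative (ZMod 2)) = 2 by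
          rw [Nat.card_congr Multiplicative.toAdd, Nat.card_zmod]]
        ring
      selfT := by
        intro x hx h
        rw [hC] at hx
        have hp : ∀ p ∈ tPerms, ∃ q ∈ tPerms, (e ⟨x, hx⟩).2 * ι p * (e ⟨x, hx⟩).2⁻¹ = ι q := fun p hp => by
          obtain ⟨m', hm', he⟩ := h _ (tPerms_low hp)
          exact ⟨m'.2, hm', ((hconj x hx _ _).1 he).2⟩
        obtain ⟨g, hg⟩ := hT _ fun p hp' => (hp p hp').imp fun q hq => hq.2
        have hg' : ∀ p ∈ tPerms, g * p * g⁻¹ ∈ tPerms := fun p hp' => by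
          obtain ⟨q, hq, he⟩ := hp p hp'
          rw [← hg, ← map_inv, ← map_mul, ← map_mul] at he
          rwa [hι he]
        obtain ⟨g1, g2, g3, -⟩ := gens_mem
        exact ⟨((e ⟨x, hx⟩).1, g), selfT6 g (hg' _ g1) (hg' _ g2) (hg' _ g3), (hback x hx g hg.symm).symm⟩
      selfA := by
        intro i x hx h
        rw [hC] at hx
        have hp : ∀ p ∈ hList i, (e ⟨x, hx⟩).2 * ι p * (e ⟨x, hx⟩).2⁻¹ = ι p := fun p hp =>
          ((hconj x hx _ _).1 (h ((1 : Multiplicative (ZMod 2)), p) (AM_iff.2 hp))).2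
        obtain ⟨g, hg⟩ := hA i _ fun p hp' => ⟨p, hp p hp'⟩
        have hg' : ∀ k, g * eB i k * g⁻¹ = eB i k := fun k => by
          have he := hp _ (gens_mem.2.2.2.2 i k)
          rw [← hg, ← map_inv, ← map_mul, ← map_mul] at he
          exact hι he
        exact ⟨((e ⟨x, hx⟩).1, g), AM_iff.2 (selfA6 i g (hg' 0) (hg' 1) (hg' 2)), (hback x hx g hg.symm).symm⟩
      permA := by
        intro i x hx h
        rw [hC] at hx
        have hp : ∀ p ∈ hList i, ∃ q ∈ hList i, (e ⟨x, hx⟩).2 * ι p * (e ⟨x, hx⟩).2⁻¹ = ι q := fun p hp => by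
          obtain ⟨m', hm', he⟩ := h ((1 : Multiplicative (ZMod 2)), p) (AM_iff.2 hp)
          exact ⟨m'.2, AM_iff.1 hm', ((hconj x hx _ _).1 he).2⟩
        obtain ⟨g, hg⟩ := hA i _ fun p hp' => (hp p hp').imp fun q hq => hq.2
        have hg' : ∀ k, g * eB i k * g⁻¹ ∈ hList i := fun k => by
          obtain ⟨q, hq, he⟩ := hp _ (gens_mem.2.2.2.2 i k)
          rw [← hg, ← map_inv, ← map_mul, ← map_mul] at he
          rwa [hι he]
        obtain ⟨s, hs, e0, e1, e2⟩ := permA6 i g (hg' 0) (hg' 1) (hg' 2)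
        refine ⟨((1 : Multiplicative (ZMod 2)), s), conjs_eq i ▸ List.mem_map.2 ⟨s, hs, rfl⟩, fun m hm => ?_⟩
        obtain ⟨k, hk⟩ := hList_mem.1 (AM_iff.1 hm)
        have hbasis : ∀ k : Fin 3, g * eB i k * g⁻¹ = s * eB i k * s⁻¹ := by
          intro k; fin_cases k
          · exact e0
          · exact e1
          · exact e2
        refine (hconj x hx _ _).2 ⟨by simp, ?_⟩
        rw [← hg, ← hk, ← map_inv, ← map_mul, ← map_mul, hP_conj i k g s hbasis]
        simp [hk]
      cls_conj := by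
        intro x hx m _ m' _ _ he
        rw [hC] at hx
        obtain ⟨h1, h2⟩ := (hconj x hx m m').1 he
        exact Prod.ext h1 (hcls _ _ _ h2) }
  exact D.exists_index_two

theorem index_two_six {G : Type*} [Group G] [Finite G] {t : G} (ht : t ≠ 1)
    (e : ↥(centralizer ({t} : Set G)) ≃* Multiplicative (ZMod 2) × Perm (Fin 6)) :
    ∃ K : Subgroup G, K.index = 2 :=
  exists_index_two_of_iso ht e (MonoidHom.id _) (fun _ _ h => h)
    (fun _ hz => center_perm (by simp) hz) 45 (by decide)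
    (by rw [Nat.card_eq_fintype_card, Fintype.card_perm, Fintype.card_fin]; rfl)
    (fun g _ => ⟨g, rfl⟩) (fun _ g _ => ⟨g, rfl⟩)
    (fun g p q h => by
      have : g * p * g⁻¹ = q := h
      rw [← this, Perm.card_support_conj])

theorem index_two_seven {G : Type*} [Group G] [Finite G] {t : G} (ht : t ≠ 1)
    (e : ↥(centralizer ({t} : Set G)) ≃* Multiplicative (ZMod 2) × Perm (Fin 7)) :
    ∃ K : Subgroup G, K.index = 2 :=
  exists_index_two_of_iso ht e ext7 ext7_inj
    (fun _ hz => center_perm (by simp) hz) 315 (by decide)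
    (by rw [Nat.card_eq_fintype_card, Fintype.card_perm, Fintype.card_fin]; rfl)
    (fun _ h => exists_ext7 (fix_last moved_T h)) (fun i _ h => exists_ext7 (fix_last (moved_A i) h))
    (fun g p q h => by
      rw [← ext7_support p, ← ext7_support q, ← h, Perm.card_support_conj])

end CfsgLib.CentSixSeven
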