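import Cfsg.Agent.CentSixSeven.Single

/-!
The case of a single further class: transfer of a central involution.
-/

set_option autoImplicit false
set_option linter.unusedSectionVars false
set_option linter.style.haveILetI false
set_option maxRecDepth 8000
set_option maxHeartbeats 2000000

namespace CfsgLib.CentSixSeven

open Subgroup MulAction

theorem fixed_central : ∀ m ∈ zList, m = 1 ∨ m = aEl false 6 ∨
    m = aEl false 1 ∨ m = aEl false 7 ∨ m = aEl false 9 ∨ m = aEl false 15 ∨
    m = aEl false 8 ∨ m = aEl false 14 := by decide +kernel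

theorem b_facts : (aEl false 1 ≠ aEl false 6 ∧ aEl false 1 ≠ 1 ∧ aEl false 1 * aEl false 1 = 1) ∧
    (aEl false 9 ≠ aEl false 6 ∧ aEl false 9 ≠ 1 ∧ aEl false 9 * aEl false 9 = 1) ∧
    aEl false 9 = tM * aEl false 1 ∧ tM * aEl false 6 * aEl false 7 = tM * aEl false 1 ∧
    aEl false 14 = tM * aEl false 6 := by decide +kernel

theorem moved_list : ∀ m' ∈ zList, m' * aEl false 8 ∈ [aEl false 0, aEl false 6] →
    m' = aEl false 8 ∨ m' = aEl false 14 := by decide +kernel

set_option synthInstance.maxSize 4000 in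
theorem third_moved : ∀ b' ∈ zList, ∀ m' ∈ zList, b' ≠ 1 → b' ≠ aEl false 6 →
    b' * aEl false 8 ∉ [aEl false 0, aEl false 6] →
    m' ≠ 1 → m' ≠ aEl false 6 → m' ≠ b' → m' ≠ b' * aEl false 6 →
    m' * aEl false 8 ∉ [aEl false 0, aEl false 6] → b' * m' * aEl false 8 ∈ [aEl false 0, aEl false 6] := by
  decide +kernel

theorem zList_mul : ∀ x ∈ zList, ∀ y ∈ zList, x * y ∈ zList := by decide +kernel

namespace Data

variable {G : Type*} [Group G] (D : Data G)

theorem z_sq : D.j (aEl false 6) * D.j (aEl false 6) = 1 := by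
  rw [← map_mul, show aEl false 6 * aEl false 6 = (1 : M6) by decide +kernel, map_one]

theorem single_central [Finite G] (h : D.HasPattern false false false true false)
    (h128 : ¬ 128 ∣ Nat.card G) {u : G} (huN : u ∈ normalizer (D.T : Set G)) (huR : IsConj D.t u)
    (huT : u ∉ D.T) (huK : Nat.card ↥(normalizer (D.T : Set G) ⊓ centralizer ({u} : Set G)) = 32) :
    ∃ K : Subgroup G, K.index = 2 := by
  classical
  haveI : Fact (Nat.Prime 2) := ⟨Nat.prime_two⟩
  set N : Subgroup G := normalizer (D.T : Set G) with hN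
  have cN : Nat.card N = 64 := D.N_card64 h
  -- `G` has Sylow order 64
  obtain ⟨k, hk⟩ : 64 ∣ Nat.card G := cN ▸ card_subgroup_dvd_card N
  have hkodd : Odd k := by
    rw [Nat.odd_iff]; by_contra hc; exact h128 (hk ▸ ⟨k / 2, by omega⟩)
  set z := D.j (aEl false 6) with hz
  set K := N ⊓ centralizer ({u} : Set G) with hK
  have hKidx : (K.subgroupOf N).index = 2 := by
    have h1 := card_mul_index (K.subgroupOf N)
    rw [Nat.card_congr (subgroupOfEquivOfLe (inf_le_left : K ≤ N)).toEquiv, huK, cN] at h1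
    omega
  have huC : ∀ y ∈ K, u * y = y * u := fun y hy => (mem_centralizer_singleton_iff.1 hy.2).symm
  have htK : D.t ∉ K := by
    intro hc
    exact huT (D.NT_stab huN (mul_inv_eq_iff_eq_mul.2 (huC _ hc)))
  have huu : u * u = 1 := D.inv_of_conj huR
  have hut : u * D.t * u⁻¹ = D.t * z := by
    rw [D.move_t h huN huT, hz, show D.t * D.j (aEl false 6) = D.j (tM * aEl false 6) from (map_mul _ _ _).symm]
    congr 1
  -- `u` acts trivially modulo `z`
  have huact : ∀ y ∈ D.T, u * y * u⁻¹ = y ∨ u * y * u⁻¹ = y * z := by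
    intro y hy
    by_cases hyK : y ∈ K
    · exact Or.inl (mul_inv_eq_iff_eq_mul.2 (huC y hyK))
    · have hyt : y * D.t ∈ K :=
        (mul_mem_iff_of_index_two hKidx (a := ⟨y, le_normalizer hy⟩)
          (b := ⟨D.t, le_normalizer D.t_mem⟩)).2 (iff_of_false hyK htK)
      right
      have h1 : u * (y * D.t) * u⁻¹ = y * D.t := mul_inv_eq_iff_eq_mul.2 (huC _ hyt)
      calc u * y * u⁻¹ = u * (y * D.t) * u⁻¹ * (u * D.t⁻¹ * u⁻¹) := by group
        _ = y * D.t * (u * D.t * u⁻¹)⁻¹ := by rw [h1]; group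
        _ = y * z⁻¹ := by
          rw [hut, mul_inv_rev, show D.t⁻¹ = D.t from inv_eq_of_mul_eq_one_right (D.inv_of_conj (IsConj.refl _))]
          have htz : z * D.t = D.t * z := by
            rw [hz]; simp only [Data.t, ← map_mul]; exact congrArg D.j (by decide +kernel +revert)
          rw [inv_eq_of_mul_eq_one_right (show z * z = 1 from D.z_sq),
            show y * D.t * (z * D.t) = y * (D.t * (z * D.t)) by group, htz, ← mul_assoc D.t,
            D.inv_of_conj (IsConj.refl _), one_mul]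
        _ = y * z := by rw [inv_eq_of_mul_eq_one_right D.z_sq]
  have hzT : z ∈ D.T := mem_map_of_mem _ (aEl_mem_T _ _)
  have hcases : ∀ x ∈ N, x ∈ D.T ∨ ∃ y ∈ D.T, x = y * u := by
    intro x hx
    by_cases hxT : x ∈ D.T
    · exact Or.inl hxT
    · exact Or.inr ⟨x * u, D.N_mul h hx huN hxT huT, by rw [mul_assoc, huu, mul_one]⟩
  let Z : Subgroup N := (zpowers z).subgroupOf N
  have hZmem : ∀ x : N, x ∈ Z ↔ x.1 = 1 ∨ x.1 = z := by
    intro x
    rw [mem_subgroupOf, mem_zpowers_iff]
    constructor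
    · rintro ⟨i, hi⟩
      rcases Int.even_or_odd i with ⟨l, rfl⟩ | ⟨l, rfl⟩
      · left
        rw [← hi, ← two_mul, zpow_mul, zpow_two, D.z_sq, one_zpow]
      · right
        rw [← hi, zpow_add, zpow_one, zpow_mul, zpow_two, D.z_sq, one_zpow, one_mul]
    · rintro (h1 | h1)
      · exact ⟨0, by rw [h1, zpow_zero]⟩
      · exact ⟨1, by rw [h1, zpow_one]⟩
  haveI hZn : Z.Normal := by
    constructor
    intro e he g
    rw [hZmem] at he ⊢
    rcases he with he | he
    · left; simp [he]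
    · right
      show g.1 * e.1 * g.1⁻¹ = z
      rw [he]; exact D.fix_z g.2
  have hsqT : ∀ y ∈ D.T, y * y = 1 ∨ y * y = z := by
    intro y hy
    obtain ⟨m, hm, rfl⟩ := D.T_cases hy
    rw [← map_mul]
    rcases sq_T m hm with e | e <;> rw [e]
    · exact Or.inl (map_one _)
    · exact Or.inr rfl
  have hzy : ∀ y ∈ D.T, y * z = z * y := fun y hy =>
    mul_inv_eq_iff_eq_mul.1 (D.commute_z (by decide +kernel) hy)
  have hexp : ∀ x : N ⧸ Z, x ^ 2 = 1 := by
    intro x
    obtain ⟨⟨x, hx⟩, rfl⟩ := QuotientGroup.mk_surjective x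
    rw [← QuotientGroup.mk_pow, QuotientGroup.eq_one_iff, hZmem]
    show x ^ 2 = 1 ∨ x ^ 2 = z
    rw [sq]
    rcases hcases x hx with hxT | ⟨y, hy, rfl⟩
    · exact hsqT x hxT
    · have huinv : u⁻¹ = u := inv_eq_of_mul_eq_one_right huu
      have e : y * u * (y * u) = y * (u * y * u⁻¹) * (u * u) := by group
      rw [e, huu, mul_one]
      rcases huact y hy with e' | e' <;> rw [e']
      · exact hsqT y hy
      · rcases hsqT y hy with e'' | e'' <;> rw [← mul_assoc, e'']
        · right; rw [one_mul]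
        · left; exact D.z_sq
  have hinv : ∀ x : N ⧸ Z, x⁻¹ = x := fun x => inv_eq_of_mul_eq_one_right (by rw [← sq]; exact hexp x)
  letI : CommGroup (N ⧸ Z) :=
    { (inferInstance : Group (N ⧸ Z)) with
      mul_comm := fun a b => by rw [← hinv (a * b), mul_inv_rev, hinv, hinv] }
  haveI : Fintype (N ⧸ Z) := Fintype.ofFinite _
  let φ : N →* N ⧸ Z := QuotientGroup.mk' Z
  -- a central element outside `⟨z⟩`
  obtain ⟨b, hb, hbu, hb6, hb1, hbz⟩ : ∃ b : M6, b ∈ zList ∧ u * D.j b * u⁻¹ = D.j b ∧ b ≠ aEl false 6 ∧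
      b ≠ 1 ∧ b * b = 1 := by
    obtain ⟨⟨f1, f2, f3⟩, ⟨g1, g2, g3⟩, e9, e67, -⟩ := b_facts
    rcases D.move_a h huN huT with e | e
    · exact ⟨aEl false 1, by decide +kernel, e, f1, f2, f3⟩
    · refine ⟨aEl false 9, by decide +kernel, ?_, g1, g2, g3⟩
      rw [e9, map_mul,
        show u * (D.j tM * D.j (aEl false 1)) * u⁻¹ = u * D.t * u⁻¹ * (u * D.j (aEl false 1) * u⁻¹) by
          simp only [Data.t]; group,
        e, hut, hz]
      simp only [Data.t, ← map_mul]
      rw [e67]
  set B := D.j b with hB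
  have hBT : B ∈ D.T := mem_map_of_mem _ (zList_mem_T hb)
  have hBN : B ∈ N := le_normalizer hBT
  have hBB : B * B = 1 := by rw [hB, ← map_mul, hbz, map_one]
  have hBcen : ∀ x ∈ N, x * B = B * x := by
    intro x hx
    refine mul_inv_eq_iff_eq_mul.1 ?_
    rcases hcases x hx with hxT | ⟨y, hy, rfl⟩
    · exact D.commute_z hb hxT
    · rw [show y * u * B * (y * u)⁻¹ = y * (u * B * u⁻¹) * y⁻¹ by group, hbu]
      exact D.commute_z hb hy
  have hφB : φ ⟨B, hBN⟩ ≠ 1 := by
    intro hc
    rcases (hZmem _).1 ((QuotientGroup.eq_one_iff _).1 hc) with e | e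
    · exact hb1 (D.inj (e.trans D.j.map_one.symm))
    · exact hb6 (D.inj e)
  -- `|C(B)| = 64 * odd`
  obtain ⟨l, hl⟩ : 64 ∣ Nat.card (centralizer ({B} : Set G)) :=
    cN ▸ card_dvd_of_le (fun x hx => mem_centralizer_singleton_iff.2 (hBcen x hx))
  have hlodd : Odd l := by
    have h1 : 64 * l ∣ 64 * k := hl ▸ hk ▸ card_subgroup_dvd_card _
    exact Odd.of_dvd_nat hkodd (Nat.dvd_of_mul_dvd_mul_left (by norm_num) h1)
  let P : N ⧸ Z → G → Prop := fun a y => IsConj B y ∧ ∃ hy : y ∈ N, φ ⟨y, hy⟩ = a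
  -- only `B` is central in its class
  have honly : ∀ y, IsConj B y → y ∈ N → (∀ x ∈ N, x * y = y * x) → y = B := by
    intro y hyB hy hc
    have hzB : z * B = B * z := hBcen z (le_normalizer hzT)
    have hyT : y ∈ D.T :=
      D.NT_stab hy (mul_inv_eq_iff_eq_mul.2 (hc _ (le_normalizer D.t_mem)).symm)
    obtain ⟨m, hm, rfl⟩ := D.T_cases hyT
    have hmz : m ∈ zList := (center_T m hm).1 fun m' hm' => D.inj (by
      rw [map_mul, map_mul]
      exact (hc _ (le_normalizer (mem_map_of_mem _ (mem_tList.1 hm')))).symm)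
    obtain ⟨n, hn, hnB⟩ := burnside_central hkodd
      (show Nat.card G = 2 ^ 6 * k by rw [hk]; norm_num) (show Nat.card N = 2 ^ 6 by rw [cN]; norm_num)
      hBcen hc hyB
    -- `n` fixes `z`
    have hnz : n * z * n⁻¹ = z := by
      obtain ⟨hq, hs, he⟩ := comm_witness
      have hqN : D.j (1, pq) ∈ N := le_normalizer (mem_map_of_mem _ hq)
      have hsN : D.j (1, ps1) ∈ N := le_normalizer (mem_map_of_mem _ hs)
      set p : N := ⟨_, (mem_normalizer_iff.1 hn _).1 hqN⟩
      set r : N := ⟨_, (mem_normalizer_iff.1 hn _).1 hsN⟩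
      have h1 : φ (p * r * p⁻¹ * r⁻¹) = 1 := by
        rw [map_mul, map_mul, map_mul, map_inv, map_inv, mul_comm (φ p) (φ r), mul_inv_cancel_right,
          mul_inv_cancel]
      have h2 : ((p * r * p⁻¹ * r⁻¹ : N) : G) = n * z * n⁻¹ := by
        rw [hz, ← he]
        simp only [p, r, map_mul, map_inv, Subgroup.coe_mul, Subgroup.coe_inv]
        group
      rcases (hZmem _).1 ((QuotientGroup.eq_one_iff _).1 h1) with e | e
      · rw [h2, conj_eq_one_iff] at e
        exact absurd (D.inj (e.trans D.j.map_one.symm)) (by decide +kernel)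
      · rwa [h2] at e
    -- the possibilities
    have hfix : u * D.j m * u⁻¹ = D.j m := mul_inv_eq_iff_eq_mul.2 (hc u huN)
    have hne1 : D.j m ≠ 1 := by
      intro e
      rw [e] at hyB
      exact hb1 (D.inj ((isConj_one_left.1 hyB).trans D.j.map_one.symm))
    have hnez : D.j m ≠ z := by
      intro e
      rw [e, ← hnz] at hnB
      exact hb6 (D.inj (mul_left_cancel (mul_right_cancel hnB)))
    by_contra hne
    have hyBz : D.j m = B * z := by
      have hmoved : ∀ m' ∈ zList, m' * aEl false 8 ∈ [aEl false 0, aEl false 6] →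
          u * D.j m' * u⁻¹ ≠ D.j m' := by
        intro m' _ hm' he'
        have h1 : m' = aEl false 8 ∨ m' = aEl false 14 := moved_list m' ‹_› hm'
        have hne' : D.t * z ≠ D.t := fun e => by
          have : z = 1 := mul_eq_left.1 e
          exact absurd (D.inj (this.trans D.j.map_one.symm)) (by decide +kernel)
        rcases h1 with rfl | rfl
        · rw [← D.t_eq_aEl, hut] at he'; exact hne' he'
        · rw [b_facts.2.2.2.2, map_mul,
            show u * (D.j tM * D.j (aEl false 6)) * u⁻¹ = u * D.t * u⁻¹ * (u * z * u⁻¹) by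
              simp only [Data.t, hz]; group,
            hut, D.fix_z huN] at he'
          refine hne' ?_
          have h2 : D.t * z * z = D.t * z := he'
          rwa [mul_assoc, D.z_sq, mul_one, eq_comm] at h2
      by_contra hne2
      have h3 := third_moved b hb m hmz hb1 hb6 (fun e => hmoved b hb e hbu) (fun e => hne1 (by rw [e, map_one]))
        (fun e => hnez (by rw [e])) (fun e => hne (by rw [e]))
        (fun e => hne2 (by rw [e, map_mul])) (fun e => hmoved m hmz e hfix)
      have hbm : b * m ∈ zList := zList_mul b hb m hmz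
      refine hmoved _ hbm h3 ?_
      rw [map_mul, show u * (D.j b * D.j m) * u⁻¹ = u * D.j b * u⁻¹ * (u * D.j m * u⁻¹) by group, hbu, hfix]
    rw [hyBz] at hnB
    -- `n` induces an involution on `{B, Bz}`, but has odd order modulo `N`
    set NN := normalizer (N : Set G)
    haveI : (N.subgroupOf NN).Normal := (normal_subgroupOf_iff_le_normalizer le_normalizer).2 le_rfl
    set i := (N.subgroupOf NN).index with hi
    have hiodd : Odd i := by
      have h1 : Nat.card (N.subgroupOf NN) = 64 := by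
        rw [Nat.card_congr (subgroupOfEquivOfLe le_normalizer).toEquiv, cN]
      have h2 := card_mul_index (N.subgroupOf NN)
      rw [h1] at h2
      have h3 : 64 * i ∣ 64 * k := h2 ▸ hk ▸ card_subgroup_dvd_card _
      exact Odd.of_dvd_nat hkodd (Nat.dvd_of_mul_dvd_mul_left (by norm_num) h3)
    have hpow : n ^ i ∈ N := by
      have := Subgroup.pow_index_mem (N.subgroupOf NN) ⟨n, hn⟩
      exact this
    have hiter : ∀ q : ℕ, n ^ (2 * q) * B * (n ^ (2 * q))⁻¹ = B := by
      intro q
      induction q with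
      | zero => simp
      | succ q ih =>
        rw [show 2 * (q + 1) = 2 + 2 * q by ring, pow_add,
          show n ^ 2 * n ^ (2 * q) * B * (n ^ 2 * n ^ (2 * q))⁻¹
            = n ^ 2 * (n ^ (2 * q) * B * (n ^ (2 * q))⁻¹) * (n ^ 2)⁻¹ by group, ih, sq,
          show n * n * B * (n * n)⁻¹ = n * (n * B * n⁻¹) * n⁻¹ by group, hnB,
          show n * (B * z) * n⁻¹ = n * B * n⁻¹ * (n * z * n⁻¹) by group, hnB, hnz, mul_assoc, D.z_sq,
          mul_one]
    obtain ⟨q, hq⟩ := hiodd
    have h5 : n ^ i * B * (n ^ i)⁻¹ = B := mul_inv_eq_iff_eq_mul.2 (hBcen _ hpow)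
    rw [hq, pow_succ', show n * n ^ (2 * q) * B * (n * n ^ (2 * q))⁻¹
      = n * (n ^ (2 * q) * B * (n ^ (2 * q))⁻¹) * n⁻¹ by group, hiter, hnB] at h5
    have : z = 1 := mul_eq_left.1 h5
    exact absurd (D.inj (this.trans D.j.map_one.symm)) (by decide +kernel)
  have hpar : ∀ a, Nat.card {y : G // P a y} % 2 = if a = φ ⟨B, hBN⟩ then 1 else 0 := by
    intro a
    have hP2 : IsPGroup 2 N := IsPGroup.of_card (n := 6) (by rw [cN]; norm_num)
    have h1 := modEq_central N hP2 (P a) (by
      rintro g hg y ⟨hyB, hy, hv⟩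
      refine ⟨IsConj.trans hyB (isConj_iff.2 ⟨g, rfl⟩), mul_mem (mul_mem hg hy) (inv_mem hg), ?_⟩
      rw [show (⟨g * y * g⁻¹, mul_mem (mul_mem hg hy) (inv_mem hg)⟩ : N) = ⟨g, hg⟩ * ⟨y, hy⟩ * ⟨g, hg⟩⁻¹ from
        Subtype.ext rfl, map_mul, map_mul, map_inv, mul_comm (φ _) (φ ⟨y, hy⟩), mul_inv_cancel_right, hv])
    rw [h1]
    split_ifs with ha
    · haveI : Subsingleton {y : G // P a y ∧ ∀ x ∈ N, x * y = y * x} :=
        ⟨fun p q => Subtype.ext ((honly _ p.2.1.1 p.2.1.2.1 p.2.2).trans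
          (honly _ q.2.1.1 q.2.1.2.1 q.2.2).symm)⟩
      haveI : Nonempty {y : G // P a y ∧ ∀ x ∈ N, x * y = y * x} :=
        ⟨⟨B, ⟨IsConj.refl _, hBN, ha.symm⟩, hBcen⟩⟩
      rw [Nat.card_unique]
    · haveI : IsEmpty {y : G // P a y ∧ ∀ x ∈ N, x * y = y * x} :=
        ⟨fun p => ha (by
          obtain ⟨hy, hv⟩ := p.2.1.2
          rw [← hv]; congr 1
          exact Subtype.ext (honly _ p.2.1.1 hy p.2.2))⟩
      rw [Nat.card_of_isEmpty]
  let e : N ⧸ Z → ℕ := fun a => l * Nat.card {y : G // P a y}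
  have htr := transfer_eq_prod_pow φ hBB e (fun a => by
    show Nat.card N * (l * Nat.card {y : G // P a y}) = _
    rw [hl, cN]; ring)
  refine index_two_of_hom (fun x => ⟨1, by rw [pow_one]; exact hexp x⟩) (MonoidHom.transfer φ) (x := B) ?_
  rw [htr, Finset.prod_eq_single (φ ⟨B, hBN⟩)]
  · have hodd : Odd (e (φ ⟨B, hBN⟩)) := hlodd.mul (Nat.odd_iff.2 (by rw [hpar]; simp))
    obtain ⟨q, hq⟩ := hodd
    rw [hq, pow_succ, pow_mul, hexp, one_pow, one_mul]
    exact hφB
  · intro a _ ha
    obtain ⟨q, hq⟩ : 2 ∣ e a := dvd_mul_of_dvd_right (Nat.dvd_of_mod_eq_zero (by rw [hpar, if_neg ha])) _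
    rw [hq, pow_mul, hexp, one_pow]
  · intro hc; exact absurd (Finset.mem_univ _) hc

/-- The case of a single further class. -/
theorem single_case [Finite G] (h : D.HasPattern false false false true false) :
    ∃ K : Subgroup G, K.index = 2 := by
  by_cases h128 : 128 ∣ Nat.card G
  · exact D.single_big h h128
  by_cases hu : ∃ u ∈ normalizer (D.T : Set G), IsConj D.t u ∧ u ∉ D.T ∧
      Nat.card ↥(normalizer (D.T : Set G) ⊓ centralizer ({u} : Set G)) = 32
  · obtain ⟨u, h1, h2, h3, h4⟩ := hu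
    exact D.single_central h h128 h1 h2 h3 h4
  · exact D.exists_outside_big h fun u h1 h2 h3 h4 => hu ⟨u, h1, h2, h3, h4⟩

end Data

end CfsgLib.CentSixSeven
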