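import Cfsg.Agent.CentSixSeven.Tests

/-!
Changing the complement of `t` by the sign character.
-/

set_option autoImplicit false
set_option linter.unusedSectionVars false
set_option linter.style.haveILetI false
set_option maxRecDepth 8000

namespace CfsgLib.CentSixSeven

open Subgroup

/-- The sign as an element of the group of order 2. -/
def sgnB : ℤˣ →* Multiplicative (ZMod 2) where
  toFun u := if u = 1 then 1 else b1
  map_one' := rfl
  map_mul' := by decide

/-- The twist. -/
def tw : M6 →* M6 where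
  toFun m := (m.1 * sgnB (Equiv.Perm.sign m.2), m.2)
  map_one' := by simp
  map_mul' a b := Prod.ext (by simp [map_mul, mul_mul_mul_comm]) rfl

theorem tw_inv (m : M6) : tw (tw m) = m := by
  refine Prod.ext ?_ rfl
  show m.1 * sgnB (Equiv.Perm.sign m.2) * sgnB (Equiv.Perm.sign m.2) = m.1
  rw [mul_assoc]
  have : ∀ x : Multiplicative (ZMod 2), x * x = 1 := by decide
  rw [this, mul_one]

theorem tw_inj : Function.Injective tw := Function.LeftInverse.injective tw_inv

theorem tw_tM : tw tM = tM := by decide +kernel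

theorem tw_TM {m : M6} (h : m ∈ TM) : tw m ∈ TM := h

theorem tw_aEl : ∀ i k, ∃ l, tw (aEl i k) = aEl i l := by decide +kernel

theorem tw_AM {i : Bool} {m : M6} (h : m ∈ AM i) : tw m ∈ AM i := by
  obtain ⟨k, rfl⟩ := h
  obtain ⟨l, hl⟩ := tw_aEl i k
  exact ⟨l, hl.symm⟩

theorem tw_conj (s m : M6) : tw s * m * (tw s)⁻¹ = s * m * s⁻¹ := by
  refine Prod.ext ?_ rfl
  simp [mul_comm, mul_left_comm]

theorem tw_cls : ∀ a ∈ tList, ∀ b ∈ tList, a * a = 1 → b * b = 1 → cls (tw a) = cls (tw b) →
    cls a = cls b := by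
  decide +kernel

theorem tw_frames : tw (aEl false 1) = aEl false 9 ∧ tw (aEl false 7) = aEl false 15 ∧
    tw (aEl false 9) = aEl false 1 ∧ tw (aEl false 14) = aEl false 14 ∧
    tw (aEl false 15) = aEl false 7 := by decide +kernel

namespace Data

variable {G : Type*} [Group G]

theorem map_tw_TM (f : M6 →* G) : TM.map (f.comp tw) = TM.map f := by
  ext x
  constructor
  · rintro ⟨m, hm, rfl⟩; exact ⟨tw m, tw_TM hm, rfl⟩
  · rintro ⟨m, hm, rfl⟩; exact ⟨tw m, tw_TM hm, by simp [tw_inv]⟩

theorem map_tw_AM (f : M6 →* G) (i : Bool) : (AM i).map (f.comp tw) = (AM i).map f := by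
  ext x
  constructor
  · rintro ⟨m, hm, rfl⟩; exact ⟨tw m, tw_AM hm, rfl⟩
  · rintro ⟨m, hm, rfl⟩; exact ⟨tw m, tw_AM hm, by simp [tw_inv]⟩

variable (D : Data G)

theorem twist_t : (D.j.comp tw) tM = D.j tM := by simp [tw_tM]

/-- The twisted data. -/
def twist : Data G where
  j := D.j.comp tw
  inj := D.inj.comp tw_inj
  c := D.c
  c_odd := D.c_odd
  card := by rw [D.twist_t]; exact D.card
  selfT := by
    intro x hx h
    rw [map_tw_TM]
    refine D.selfT x (by rwa [D.twist_t] at hx) (fun m hm => ?_)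
    obtain ⟨m', hm', he⟩ := h (tw m) (tw_TM hm)
    exact ⟨tw m', tw_TM hm', by simpa [tw_inv] using he⟩
  selfA := by
    intro i x hx h
    rw [map_tw_AM]
    refine D.selfA i x (by rwa [D.twist_t] at hx) (fun m hm => ?_)
    simpa [tw_inv] using h (tw m) (tw_AM hm)
  permA := by
    intro i x hx h
    obtain ⟨s, hs, hsm⟩ := D.permA i x (by rwa [D.twist_t] at hx) (fun m hm => by
      obtain ⟨m', hm', he⟩ := h (tw m) (tw_AM hm)
      exact ⟨tw m', tw_AM hm', by simpa [tw_inv] using he⟩)
    refine ⟨s, hs, fun m hm => ?_⟩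
    show x * D.j (tw m) * x⁻¹ = D.j (tw (s * m * s⁻¹))
    rw [hsm _ (tw_AM hm), map_mul tw, map_mul tw, map_inv tw, tw_conj]
  cls_conj := by
    intro x hx m hm m' hm' h2 he
    have he' : x * D.j (tw m) * x⁻¹ = D.j (tw m') := he
    have h2' : tw m * tw m = 1 := by rw [← map_mul, h2, map_one]
    have hm2 : m' * m' = 1 := by
      refine tw_inj (D.inj ?_)
      rw [map_mul, map_mul, ← he', map_one, map_one,
        show x * D.j (tw m) * x⁻¹ * (x * D.j (tw m) * x⁻¹) = x * (D.j (tw m) * D.j (tw m)) * x⁻¹ by group,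
        ← map_mul, h2', map_one]
      group
    exact tw_cls m (mem_tList.2 hm) m' (mem_tList.2 hm') h2 hm2
      (D.cls_conj x (by rwa [D.twist_t] at hx) _ (tw_TM hm) _ (tw_TM hm') h2' he')

theorem twist_pattern (h : D.HasPattern true true false true false) :
    D.twist.HasPattern false false true true true := by
  have hiff : ∀ m, D.twist.InR m ↔ D.InR (tw m) := by
    intro m
    show IsConj ((D.j.comp tw) tM) _ ↔ IsConj (D.j tM) _
    rw [D.twist_t]; rfl
  obtain ⟨e1, e7, e9, e14, e15⟩ := tw_frames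
  obtain ⟨h1, h7, h9, h14, h15⟩ := h
  unfold HasPattern
  rw [hiff, hiff, hiff, hiff, hiff, e1, e7, e9, e14, e15]
  exact ⟨h9, h15, h1, h14, h7⟩

end Data

end CfsgLib.CentSixSeven
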