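import Cfsg.Agent.CentSixSeven.DoubleCount
import Cfsg.Agent.CentSixSeven.DoubleCyclic
import Cfsg.Agent.CentSixSeven.SingleCentral
import Cfsg.Agent.CentSixSeven.Twist

/-!
A group with an involution whose centralizer resembles `2 × S₆` has a subgroup of index 2.
-/

set_option autoImplicit false

namespace CfsgLib.CentSixSeven

namespace Data

variable {G : Type*} [Group G] (D : Data G)

theorem double_case [Finite G] (h : D.HasPattern false false true true true) :
    ∃ K : Subgroup G, K.index = 2 := by
  by_cases hE : D.FixA
  · exact D.four_case h hE
  · exact D.cyclic_case h hE

/-- The main result. -/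
theorem exists_index_two [Finite G] (D : Data G) : ∃ K : Subgroup G, K.index = 2 := by
  rcases D.main_cases with h | h | h | h
  · exact h
  · exact D.single_case h
  · exact D.twist.double_case (D.twist_pattern h)
  · exact D.double_case h

end Data

end CfsgLib.CentSixSeven
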