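import Cfsg.Agent.CentSixSeven.Tests

/-!
The action of the normalizer of `T` on the centre and on the elementary abelian subgroups.
-/

set_option autoImplicit false
set_option linter.unusedSectionVars false
set_option linter.style.haveILetI false
set_option maxRecDepth 8000

namespace CfsgLib.CentSixSeven

open Subgroup MulAction

/-- Index addition. -/
def xr (k l : Fin 16) : Fin 16 := Fin.ofNat 16 (k.val ^^^ l.val)

theorem xr_val : ∀ k l : Fin 16, (xr k l).val = k.val ^^^ l.val := by decide +kernel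

theorem aEl_xr (i : Bool) (k l : Fin 16) : aEl i k * aEl i l = aEl i (xr k l) := by
  obtain ⟨m, hm, he⟩ := aEl_mul i k l
  rw [he]; congr 1
  exact Fin.ext (hm.trans (xr_val k l).symm)

/-- The indices of central elements. -/
def zI (k : Fin 16) : Bool := k.val % 8 == 0 || k.val % 8 == 1 || k.val % 8 == 6 || k.val % 8 == 7

theorem zI_iff : ∀ i, ∀ k : Fin 16, zI k = true ↔ aEl i k ∈ zList := by decide +kernel

theorem z_index : ∀ m ∈ zList, ∀ i, ∃ k, aEl i k = m ∧ zI k = true := by decide +kernel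

/-- The map with the given values on the basis. -/
def lin (a1 a2 a4 a8 k : Fin 16) : Fin 16 :=
  xr (xr (if k.val % 2 = 1 then a1 else 0) (if k.val / 2 % 2 = 1 then a2 else 0))
    (xr (if k.val / 4 % 2 = 1 then a4 else 0) (if k.val / 8 = 1 then a8 else 0))

theorem eq_lin {f : Fin 16 → Fin 16} (h : ∀ k l, f (xr k l) = xr (f k) (f l)) (k : Fin 16) :
    f k = lin (f 1) (f 2) (f 4) (f 8) k := by
  have h0 : f 0 = 0 := by
    have hx : ∀ a : Fin 16, xr a a = 0 := by decide +kernel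
    have := h 0 0
    rwa [hx, hx] at this
  have e : ∀ k : Fin 16, k = xr (xr (if k.val % 2 = 1 then 1 else 0) (if k.val / 2 % 2 = 1 then 2 else 0))
      (xr (if k.val / 4 % 2 = 1 then 4 else 0) (if k.val / 8 = 1 then 8 else 0)) := by decide +kernel
  conv_lhs => rw [e k, h, h, h]
  simp only [lin, apply_ite f, h0]

namespace Data

variable {G : Type*} [Group G] (D : Data G)

theorem zList_mem_T {m : M6} (hm : m ∈ zList) : m ∈ TM := by
  obtain ⟨k, hk, -⟩ := z_index m hm false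
  exact hk ▸ aEl_mem_T _ _

/-- An element of the normalizer of `T` maps each `A i` to one of the two. -/
theorem image_A {x : G} (hx : x ∈ normalizer (D.T : Set G)) (i : Bool) :
    ∃ b, ∀ m ∈ AM i, ∃ m' ∈ AM b, x * D.j m * x⁻¹ = D.j m' := by
  obtain ⟨v, hv, he⟩ := D.exists_of_normalizer TM hx (AM_le i (aEl_mem i 2))
  have h2 : ∀ i, aEl i 2 * aEl i 2 = 1 ∧ aEl i 2 ∉ zList := by decide +kernel
  have hv2 : v * v = 1 := by
    refine D.inj ?_
    rw [map_mul, map_one, ← he,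
      show x * D.j (aEl i 2) * x⁻¹ * (x * D.j (aEl i 2) * x⁻¹)
        = x * (D.j (aEl i 2) * D.j (aEl i 2)) * x⁻¹ by group, ← map_mul, (h2 i).1, map_one]
    group
  have hvz : v ∉ zList := by
    intro hz
    obtain ⟨w, hw, hwe⟩ := D.conj_zList (Subgroup.inv_mem _ hx) hz
    have : aEl i 2 = w := by
      refine D.inj ?_
      rw [← hwe, ← he]; group
    exact (h2 i).2 (this ▸ hw)
  have hb : ∃ b, v ∈ aList b := (invol_mem v (mem_tList.2 hv) hv2).elim (fun h => ⟨_, h⟩) (fun h => ⟨_, h⟩)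
  obtain ⟨b, hb⟩ := hb
  refine ⟨b, fun m hm => ?_⟩
  obtain ⟨k, rfl⟩ := hm
  obtain ⟨m', hm', he'⟩ := D.exists_of_normalizer TM hx (AM_le i (aEl_mem i k))
  refine ⟨m', ?_, he'⟩
  have hc : v * m' = m' * v := by
    refine D.inj ?_
    rw [map_mul, map_mul, ← he, ← he']
    have : D.j (aEl i 2) * D.j (aEl i k) = D.j (aEl i k) * D.j (aEl i 2) := by
      rw [← map_mul, ← map_mul, aEl_xr, aEl_xr]
      congr 2
      exact Fin.ext (by rw [xr_val, xr_val, Nat.xor_comm])
    calc x * D.j (aEl i 2) * x⁻¹ * (x * D.j (aEl i k) * x⁻¹)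
        = x * (D.j (aEl i 2) * D.j (aEl i k)) * x⁻¹ := by group
      _ = x * (D.j (aEl i k) * D.j (aEl i 2)) * x⁻¹ := by rw [this]
      _ = x * D.j (aEl i k) * x⁻¹ * (x * D.j (aEl i 2) * x⁻¹) := by group
  have := cent_noncentral b v hb hvz m' (mem_tList.2 hm') hc
  obtain ⟨l, -, hl⟩ := List.mem_map.1 this
  exact ⟨l, hl⟩

/-- `x` maps `A i` to `A b` with index map `f`. -/
def Maps (x : G) (i b : Bool) (f : Fin 16 → Fin 16) : Prop :=
  ∀ k, x * D.j (aEl i k) * x⁻¹ = D.j (aEl b (f k))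

theorem exists_maps {x : G} (hx : x ∈ normalizer (D.T : Set G)) (i : Bool) :
    ∃ b f, D.Maps x i b f := by
  obtain ⟨b, hb⟩ := D.image_A hx i
  have : ∀ k, ∃ l, x * D.j (aEl i k) * x⁻¹ = D.j (aEl b l) := by
    intro k
    obtain ⟨m', ⟨l, rfl⟩, he⟩ := hb _ (aEl_mem i k)
    exact ⟨l, he⟩
  choose f hf using this
  exact ⟨b, f, hf⟩

theorem Maps.add {x : G} {i b : Bool} {f : Fin 16 → Fin 16} (h : D.Maps x i b f) (k l : Fin 16) :
    f (xr k l) = xr (f k) (f l) := by
  refine aEl_inj b _ _ (D.inj ?_)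
  rw [← h, ← aEl_xr, ← aEl_xr, map_mul, map_mul, ← h, ← h]; group

theorem Maps.eight {x : G} {i b : Bool} {f : Fin 16 → Fin 16} (h : D.Maps x i b f) :
    D.j (aEl b (f 8)) = x * D.t * x⁻¹ := by
  rw [← h, aEl_eight]; rfl

theorem Maps.six {x : G} (hx : x ∈ normalizer (D.T : Set G)) {i b : Bool} {f : Fin 16 → Fin 16}
    (h : D.Maps x i b f) : f 6 = 6 := by
  refine aEl_inj b _ _ (D.inj ?_)
  have h6 : ∀ i, aEl i 6 = aEl false 6 := by decide +kernel
  rw [← h, h6 i, h6 b]
  exact D.fix_z hx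

theorem Maps.zI {x : G} (hx : x ∈ normalizer (D.T : Set G)) {i b : Bool} {f : Fin 16 → Fin 16}
    (h : D.Maps x i b f) {k : Fin 16} (hk : CentSixSeven.zI k = true) : CentSixSeven.zI (f k) = true := by
  obtain ⟨m', hm', he⟩ := D.conj_zList hx ((zI_iff i k).1 hk)
  rw [zI_iff b, show aEl b (f k) = m' from D.inj ((h k).symm.trans he)]
  exact hm'

theorem Maps.comp {x y : G} {i b c : Bool} {f g : Fin 16 → Fin 16} (hf : D.Maps x i b f)
    (hg : D.Maps y b c g) : D.Maps (y * x) i c (g ∘ f) := by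
  intro k
  show y * x * D.j (aEl i k) * (y * x)⁻¹ = D.j (aEl c (g (f k)))
  rw [← hg, ← hf]; group

theorem Maps.inj {x : G} {i b : Bool} {f : Fin 16 → Fin 16} (h : D.Maps x i b f) :
    Function.Injective f := by
  intro k l he
  refine aEl_inj i _ _ (D.inj ?_)
  have := (h k).trans ((congrArg (fun a => D.j (aEl b a)) he).trans (h l).symm)
  exact mul_left_cancel (mul_right_cancel this)

theorem Maps.inR {x : G} {i b : Bool} {f : Fin 16 → Fin 16} (h : D.Maps x i b f) (k : Fin 16) :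
    D.InR (aEl i k) ↔ D.InR (aEl b (f k)) := by
  have hc : IsConj (D.j (aEl i k)) (D.j (aEl b (f k))) := isConj_iff.2 ⟨x, h k⟩
  exact ⟨fun h' => IsConj.trans h' hc, fun h' => IsConj.trans h' hc.symm⟩

/-- The image of a subgroup of index `b` is unique. -/
theorem Maps.frame_unique {x : G} {i b b' : Bool} {f f' : Fin 16 → Fin 16} (h : D.Maps x i b f)
    (h' : D.Maps x i b' f') : b = b' := by
  by_contra hne
  have hall : ∀ k, ∃ l, aEl b' l = aEl b k := by
    intro k
    obtain ⟨l, rfl⟩ := (Finite.injective_iff_surjective.1 h.inj) k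
    exact ⟨f' l, D.inj ((h' l).symm.trans (h l))⟩
  have hd : ∀ b, ∃ k, ∀ l, aEl (!b) l ≠ aEl b k := by decide +kernel
  obtain ⟨k, hk⟩ := hd b
  obtain ⟨l, hl⟩ := hall k
  have : b' = !b := by cases b <;> cases b' <;> simp_all
  exact hk l (this ▸ hl)

theorem commute_z {m : M6} (hm : m ∈ zList) {y : G} (hy : y ∈ D.T) : y * D.j m * y⁻¹ = D.j m := by
  obtain ⟨b, hb, rfl⟩ := D.T_cases hy
  rw [mul_inv_eq_iff_eq_mul, ← map_mul, ← map_mul,
    (center_T m (mem_tList.2 (zList_mem_T hm))).2 hm b hb]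

theorem Maps.of_T {y : G} (hy : y ∈ D.T) (i : Bool) :
    ∃ f, D.Maps y i i f ∧ ∀ k, CentSixSeven.zI k = true → f k = k := by
  obtain ⟨m, hm, rfl⟩ := D.T_cases hy
  have key : ∀ i, ∀ p ∈ tPerms, ∀ k : Fin 16, ∃ l : Fin 16, ((1 : Multiplicative (ZMod 2)), p) * aEl i k
      = aEl i l * ((1 : Multiplicative (ZMod 2)), p) := by decide +kernel
  have : ∀ k, ∃ l, D.j m * D.j (aEl i k) * (D.j m)⁻¹ = D.j (aEl i l) := by
    intro k
    obtain ⟨l, hl⟩ := key i m.2 (mem_tList.1 hm) k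
    refine ⟨l, ?_⟩
    rw [mul_inv_eq_iff_eq_mul, ← map_mul, ← map_mul]
    congr 1
    have h2 := congrArg Prod.snd hl
    have h1 : (aEl i k).1 = (aEl i l).1 := by simpa using congrArg Prod.fst hl
    exact Prod.ext (show m.1 * (aEl i k).1 = (aEl i l).1 * m.1 by rw [h1, mul_comm]) h2
  choose f hf using this
  refine ⟨f, hf, fun k hk => aEl_inj i _ _ (D.inj ?_)⟩
  rw [← hf]
  exact D.commute_z ((zI_iff i k).1 hk) (mem_map_of_mem _ (mem_tList.1 hm))

/-- An element of the normalizer fixing a conjugate of `t` in the centre lies in `T`. -/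
theorem mem_T_of_fix [Finite G] {x : G} (hx : x ∈ normalizer (D.T : Set G)) {m : M6} (hm : m ∈ zList)
    (hR : D.InR m) (hfix : x * D.j m * x⁻¹ = D.j m) : x ∈ D.T := by
  obtain ⟨n, hn, hnt⟩ := D.exists_mover hm hR
  have h1 : n⁻¹ * x * n ∈ D.T := by
    refine D.NT_stab (mul_mem (mul_mem (Subgroup.inv_mem _ hn) hx) hn) ?_
    rw [show n⁻¹ * x * n * D.t * (n⁻¹ * x * n)⁻¹ = n⁻¹ * (x * (n * D.t * n⁻¹) * x⁻¹) * n by group,
      hnt, hfix, ← hnt]
    group
  have h2 := (mem_normalizer_iff.1 hn (n⁻¹ * x * n)).1 h1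
  simpa [mul_assoc] using h2

/-- If `64` does not divide the order of the normalizer of `T`, then `T` is a Sylow subgroup. -/
theorem sylow_of_normalizer [Finite G] (h : ¬ 64 ∣ Nat.card (normalizer (D.T : Set G))) :
    ∃ k, Odd k ∧ Nat.card G = 32 * k := by
  have h32 : 32 ∣ Nat.card G := D.card_T ▸ card_subgroup_dvd_card D.T
  obtain ⟨k, hk⟩ := h32
  refine ⟨k, ?_, hk⟩
  by_contra hev
  haveI : Fact (Nat.Prime 2) := ⟨Nat.prime_two⟩
  obtain ⟨K, hK, hle⟩ := Sylow.exists_subgroup_card_pow_succ (p := 2) (n := 5)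
    (by obtain ⟨l, hl⟩ := Nat.not_odd_iff_even.1 hev; exact ⟨l, by rw [hk, hl]; ring⟩)
    (by rw [D.card_T]; norm_num : Nat.card D.T = 2 ^ 5)
  have hidx : (D.T.subgroupOf K).index = 2 := by
    have h1 := card_mul_index (D.T.subgroupOf K)
    rw [Nat.card_congr (subgroupOfEquivOfLe hle).toEquiv, D.card_T, hK] at h1
    omega
  have hKN : K ≤ normalizer (D.T : Set G) := by
    have : (D.T.subgroupOf K).Normal := normal_of_index_eq_two hidx
    exact (normal_subgroupOf_iff_le_normalizer hle).1 this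
  exact h (by simpa [hK] using card_dvd_of_le hKN)

/-- An element of the normalizer outside `T` with square in `T`. -/
theorem exists_sq_mem [Finite G] (h : 64 ∣ Nat.card (normalizer (D.T : Set G))) :
    ∃ n ∈ normalizer (D.T : Set G), n ∉ D.T ∧ n * n ∈ D.T := by
  haveI : Fact (Nat.Prime 2) := ⟨Nat.prime_two⟩
  set N := normalizer (D.T : Set G) with hN
  have hle : D.T ≤ N := le_normalizer
  have cT : Nat.card (D.T.subgroupOf N) = 2 ^ 5 := by
    rw [Nat.card_congr (subgroupOfEquivOfLe hle).toEquiv, D.card_T]; norm_num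
  obtain ⟨K, hK, hKle⟩ := Sylow.exists_subgroup_card_pow_succ (p := 2) (n := 5) (by simpa using h) cT
  have hidx : ((D.T.subgroupOf N).subgroupOf K).index = 2 := by
    have h1 := card_mul_index ((D.T.subgroupOf N).subgroupOf K)
    rw [Nat.card_congr (subgroupOfEquivOfLe hKle).toEquiv, cT, hK] at h1
    omega
  obtain ⟨n, hn⟩ : ∃ n : K, n ∉ (D.T.subgroupOf N).subgroupOf K := by
    by_contra hc
    push Not at hc
    rw [(eq_top_iff' _).2 hc, index_top] at hidx
    omega
  refine ⟨n.1.1, n.1.2, fun hm => hn hm, ?_⟩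
  have := (mul_mem_iff_of_index_two hidx (a := n) (b := n)).2 Iff.rfl
  exact this

end Data

end CfsgLib.CentSixSeven
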