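import Cfsg.Agent.CentSixSeven.Count

/-!
Counting elements of conjugation-invariant sets modulo powers of 2; Sylow conjugation.
-/

set_option autoImplicit false
set_option linter.unusedSectionVars false
set_option linter.style.haveILetI false

namespace CfsgLib.CentSixSeven

open Subgroup MulAction

variable {G : Type*} [Group G] [Finite G]

/-- If all orbit sizes are divisible by `d`, so is the cardinality. -/
theorem dvd_card_of_orbits {H α : Type*} [Group H] [MulAction H α] [Finite α] {d : ℕ}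
    (h : ∀ a : α, d ∣ Nat.card (orbit H a)) : d ∣ Nat.card α := by
  classical
  haveI : Fintype α := Fintype.ofFinite α
  rw [Nat.card_congr (selfEquivSigmaOrbits H α), Nat.card_sigma]
  exact Finset.dvd_sum fun q _ => h _

/-- Conjugation of `H` on an invariant subset. -/
@[reducible] def conjAction (H : Subgroup G) (P : G → Prop) (hP : ∀ h ∈ H, ∀ y, P y → P (h * y * h⁻¹)) :
    MulAction H {y : G // P y} where
  smul h y := ⟨h.1 * y.1 * h.1⁻¹, hP _ h.2 _ y.2⟩
  one_smul y := Subtype.ext (show (1 : G) * y.1 * (1 : G)⁻¹ = y.1 by group)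
  mul_smul g h y := Subtype.ext
    (show g.1 * h.1 * y.1 * (g.1 * h.1)⁻¹ = g.1 * (h.1 * y.1 * h.1⁻¹) * g.1⁻¹ by group)

/-- If every element has centralizer of index divisible by `d` in `H`, then `d` divides the number of elements. -/
theorem dvd_card_invariant (H : Subgroup G) (P : G → Prop) (hP : ∀ h ∈ H, ∀ y, P y → P (h * y * h⁻¹))
    {d : ℕ} (hd : ∀ y, P y → d * Nat.card (↥(H ⊓ centralizer ({y} : Set G))) ∣ Nat.card H) :
    d ∣ Nat.card {y : G // P y} := by
  classical
  letI := conjAction H P hP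
  refine dvd_card_of_orbits (H := H) fun y => ?_
  have hst : Nat.card (stabilizer H y) = Nat.card (↥(H ⊓ centralizer ({y.1} : Set G))) := by
    refine Nat.card_congr
      { toFun := fun h => ⟨h.1.1, h.1.2, mem_centralizer_singleton_iff.2 ?_⟩
        invFun := fun h => ⟨⟨h.1, h.2.1⟩, ?_⟩
        left_inv := fun _ => rfl
        right_inv := fun _ => rfl }
    · exact mul_inv_eq_iff_eq_mul.1 (congrArg Subtype.val h.2)
    · exact Subtype.ext (mul_inv_eq_iff_eq_mul.2 (mem_centralizer_singleton_iff.1 h.2.2))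
  have h1 := hd y.1 y.2
  have horb : Nat.card (orbit H y) * Nat.card (stabilizer H y) = Nat.card H := by
    rw [← Nat.card_prod]; exact Nat.card_congr (orbitProdStabilizerEquivGroup H y)
  rw [← horb, hst] at h1
  exact Nat.dvd_of_mul_dvd_mul_right Nat.card_pos h1

/-- The parity of an invariant set is the parity of its central part. -/
theorem modEq_central (H : Subgroup G) (hH : IsPGroup 2 H) (P : G → Prop)
    (hP : ∀ h ∈ H, ∀ y, P y → P (h * y * h⁻¹)) :
    Nat.card {y : G // P y} ≡ Nat.card {y : G // P y ∧ ∀ h ∈ H, h * y = y * h} [MOD 2] := by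
  haveI : Fact (Nat.Prime 2) := ⟨Nat.prime_two⟩
  letI := conjAction H P hP
  refine (hH.card_modEq_card_fixedPoints {y : G // P y}).trans (congrArg (fun n : ℕ => n % 2) ?_)
  refine Nat.card_congr
    { toFun := fun y => ⟨y.1.1, y.1.2, fun h hh => mul_inv_eq_iff_eq_mul.1 (congrArg Subtype.val (y.2 ⟨h, hh⟩))⟩
      invFun := fun y => ⟨⟨y.1, y.2.1⟩, fun h => Subtype.ext (mul_inv_eq_iff_eq_mul.2 (y.2.2 h.1 h.2))⟩
      left_inv := fun _ => rfl
      right_inv := fun _ => rfl }

/-- Subgroups of order `2 ^ m` of a group of order dividing `2 ^ m * odd` are conjugate. -/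
theorem conj_of_card_pow {X P Q : Subgroup G} {m k : ℕ} (hk : Odd k)
    (hX : Nat.card X ∣ 2 ^ m * k) (hP : P ≤ X) (hQ : Q ≤ X) (cP : Nat.card P = 2 ^ m)
    (cQ : Nat.card Q = 2 ^ m) : ∃ x ∈ X, ∀ g, g ∈ P ↔ x * g * x⁻¹ ∈ Q := by
  haveI : Fact (Nat.Prime 2) := ⟨Nat.prime_two⟩
  have hk0 : k ≠ 0 := by obtain ⟨l, rfl⟩ := hk; omega
  have hk2 : ¬ 2 ∣ k := by obtain ⟨l, rfl⟩ := hk; omega
  have hfac : (Nat.card X).factorization 2 = m := by
    apply le_antisymm
    · have h := (Nat.factorization_le_iff_dvd Nat.card_pos.ne' (by positivity)).2 hX 2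
      rwa [Nat.factorization_mul (by positivity) hk0, Finsupp.add_apply,
        Nat.factorization_eq_zero_of_not_dvd hk2, add_zero, Nat.Prime.factorization_pow Nat.prime_two,
        Finsupp.single_eq_same] at h
    · exact (Nat.Prime.pow_dvd_iff_le_factorization Nat.prime_two Nat.card_pos.ne').1
        (cP ▸ card_dvd_of_le hP)
  have hcard : ∀ R : Subgroup G, R ≤ X → Nat.card R = 2 ^ m →
      Nat.card (R.subgroupOf X) = 2 ^ (Nat.card X).factorization 2 := by
    intro R hR cR
    rw [hfac, Nat.card_congr (subgroupOfEquivOfLe hR).toEquiv, cR]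
  obtain ⟨x, hx⟩ := MulAction.exists_smul_eq ↥X (Sylow.ofCard (P.subgroupOf X) (hcard P hP cP))
    (Sylow.ofCard (Q.subgroupOf X) (hcard Q hQ cQ))
  refine ⟨x.1, x.2, fun g => ?_⟩
  have hset : ∀ y : X, y ∈ P.subgroupOf X ↔ x * y * x⁻¹ ∈ Q.subgroupOf X := by
    intro y
    have h' := congrArg (fun R : Sylow 2 ↥X => (R : Subgroup ↥X)) hx
    simp only [Sylow.coe_subgroup_smul, Sylow.coe_ofCard] at h'
    rw [← h', Subgroup.mem_pointwise_smul_iff_inv_smul_mem]
    simp [mul_assoc]
  constructor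
  · intro hg
    exact mem_subgroupOf.1 ((hset ⟨g, hP hg⟩).1 (mem_subgroupOf.2 hg))
  · intro hg
    have hgX : g ∈ X := by
      have := X.mul_mem (X.mul_mem (X.inv_mem x.2) (hQ hg)) x.2
      simpa [mul_assoc] using this
    exact mem_subgroupOf.1 ((hset ⟨g, hgX⟩).2 (mem_subgroupOf.2 hg))

/-- Conjugate central elements of a Sylow 2-subgroup are conjugate in its normalizer. -/
theorem burnside_central {P : Subgroup G} {m k : ℕ} (hk : Odd k) (hG : Nat.card G = 2 ^ m * k)
    (hP : Nat.card P = 2 ^ m) {b y : G} (hb : ∀ p ∈ P, p * b = b * p) (hy : ∀ p ∈ P, p * y = y * p)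
    (h : IsConj b y) : ∃ n ∈ normalizer (P : Set G), n * b * n⁻¹ = y := by
  obtain ⟨g, hg⟩ := isConj_iff.1 h
  have h1 : P.map (MulAut.conj g).toMonoidHom ≤ centralizer ({y} : Set G) := by
    rintro _ ⟨p, hp, rfl⟩
    rw [mem_centralizer_singleton_iff]
    show g * p * g⁻¹ * y = y * (g * p * g⁻¹)
    rw [← hg, show g * p * g⁻¹ * (g * b * g⁻¹) = g * (p * b) * g⁻¹ by group, hb p hp]
    group
  have h2 : P ≤ centralizer ({y} : Set G) := fun p hp => mem_centralizer_singleton_iff.2 (hy p hp)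
  obtain ⟨x, hx, hxPQ⟩ := conj_of_card_pow (X := centralizer ({y} : Set G)) hk
    (hG ▸ card_subgroup_dvd_card _) h1 h2
    (by rw [card_map_of_injective (MulAut.conj g).injective, hP]) hP
  refine ⟨x * g, ?_, ?_⟩
  · rw [mem_normalizer_iff]
    intro w
    rw [show x * g * w * (x * g)⁻¹ = x * (g * w * g⁻¹) * x⁻¹ by group, ← hxPQ]
    exact ⟨fun hw => ⟨w, hw, rfl⟩, fun ⟨z, hz, he⟩ => (MulAut.conj g).injective he ▸ hz⟩
  · rw [show x * g * b * (x * g)⁻¹ = x * (g * b * g⁻¹) * x⁻¹ by group, hg]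
    exact mul_inv_eq_iff_eq_mul.2 (mem_centralizer_singleton_iff.1 hx)

end CfsgLib.CentSixSeven
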