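import Cfsg.Agent.CentSixSeven.Maps

/-!
The patterns of two or five further classes do not occur.
-/

set_option autoImplicit false
set_option linter.unusedSectionVars false
set_option linter.style.haveILetI false
set_option maxRecDepth 8000
set_option maxHeartbeats 2000000

namespace CfsgLib.CentSixSeven

open Subgroup MulAction

def dSet (k : Fin 16) : Bool := k.val == 3 || k.val == 5 || k.val == 6

/-- The fused indices for two further classes. -/
def rSet (w1 w2 : ℕ × ℕ) (k : Fin 16) : Bool :=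
  (k.val == 8) || ((k.val / 8, wt k) == w1) || ((k.val / 8, wt k) == w2)

/-- The three admissible shapes. -/
def shape : Fin 3 → (ℕ × ℕ) × (ℕ × ℕ)
  | 0 => ((1, 1), (0, 1))
  | 1 => ((1, 1), (0, 3))
  | 2 => ((1, 3), (0, 1))

/-- A linear map of order three preserving the two distinguished sets moves nothing. -/
def badTriple (j : Fin 3) (a1 a2 a8 : Fin 16) : Bool :=
  let f := lin a1 a2 (xr a2 6) a8
  zI a1 && zI a8 && (a8 != 8) &&
    decide (∀ k, f (f (f k)) = k ∧ rSet (shape j).1 (shape j).2 (f k) = rSet (shape j).1 (shape j).2 k ∧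
      dSet (f k) = dSet k)

theorem no_triple : ∀ j a1 a2 a8, badTriple j a1 a2 a8 = false := by decide +kernel

theorem shape_ok : ∀ k : Fin 16,
    rSet (shape 0).1 (shape 0).2 k = tabR (cand true false true false false) (aEl false k) ∧
    rSet (shape 1).1 (shape 1).2 k = tabR (cand false true true false false) (aEl false k) ∧
    rSet (shape 2).1 (shape 2).2 k = tabR (cand true false false false true) (aEl false k) ∧
    rSet (shape 0).1 (shape 0).2 k = tabR (cand false true false false true) (aEl true k) := by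
  decide +kernel

theorem dSet_conj : ∀ i, ∀ k : Fin 16, dSet k = true →
    ∃ g ∈ conjs i, g * aEl false 6 * g⁻¹ = aEl i k := by decide +kernel

theorem dSet_cls : ∀ i, ∀ k : Fin 16, cls (aEl false 6) = cls (aEl i k) → dSet k = true := by
  decide +kernel

/-- An involutive map of the centre fixes one of six elements. -/
theorem no_free_six : ∀ a1 a8 : Fin 16, zI a1 = true → zI a8 = true →
    let f := lin a1 0 6 a8
    (∀ k, zI k = true → k.val % 8 = 0 ∨ k.val % 8 = 1 → f (f k) = k) →
    f 1 = 1 ∨ f 7 = 7 ∨ f 8 = 8 ∨ f 9 = 9 ∨ f 14 = 14 ∨ f 15 = 15 := by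
  decide +kernel

theorem xr_six : ∀ k : Fin 16, zI k = true → ∀ a1 a2 a4 a8 : Fin 16, xr a2 a4 = 6 →
    lin a1 a2 a4 a8 k = lin a1 0 6 a8 k := by decide +kernel

namespace Data

variable {G : Type*} [Group G] (D : Data G)

theorem lin_form {x : G} (hx : x ∈ normalizer (D.T : Set G)) {i b : Bool} {f : Fin 16 → Fin 16}
    (h : D.Maps x i b f) : f = lin (f 1) (f 2) (xr (f 2) 6) (f 8) := by
  have h6 : xr (f 2) (f 4) = 6 := by
    have := Maps.add D h 2 4
    rw [show xr 2 4 = 6 by decide, Maps.six D hx h] at this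
    exact this.symm
  have h4 : xr (f 2) 6 = f 4 := by
    have key : ∀ a b : Fin 16, xr a b = 6 → xr a 6 = b := by decide +kernel
    exact key _ _ h6
  funext k
  rw [h4]
  exact eq_lin (Maps.add D h) k

theorem not_triple [Finite G] (i : Bool) (j : Fin 3) {qa qaz qta qtz qtaz : Bool}
    (h : D.HasPattern qa qaz qta qtz qtaz)
    (hR : ∀ k, rSet (shape j).1 (shape j).2 k = tabR (cand qa qaz qta qtz qtaz) (aEl i k))
    (hN : Nat.card (normalizer (D.T : Set G)) = 96) : False := by
  haveI : Fact (Nat.Prime 3) := ⟨Nat.prime_three⟩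
  obtain ⟨n, hn⟩ := exists_prime_orderOf_dvd_card' 3 (hN.symm ▸ (by norm_num : 3 ∣ 96) :
    3 ∣ Nat.card (normalizer (D.T : Set G)))
  have hn3 : n.1 * n.1 * n.1 = 1 := by
    have := pow_orderOf_eq_one n
    rw [hn, pow_succ, sq] at this
    exact congrArg Subtype.val this
  have hnT : n.1 ∉ D.T := by
    intro hm
    have h1 : orderOf (⟨n.1, hm⟩ : D.T) ∣ 32 := D.card_T ▸ orderOf_dvd_natCard _
    rw [Subgroup.orderOf_mk, orderOf_coe, hn] at h1
    norm_num at h1
  obtain ⟨b, f, hf⟩ := D.exists_maps n.2 i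
  obtain ⟨c, g, hg⟩ := D.exists_maps n.2 b
  obtain ⟨d, u, hu⟩ := D.exists_maps n.2 c
  have hcomp : D.Maps (n.1 * (n.1 * n.1)) i d (u ∘ (g ∘ f)) := Maps.comp D (Maps.comp D hf hg) hu
  have hone : ∀ i, D.Maps 1 i i id := fun i k => by simp
  rw [← mul_assoc, hn3] at hcomp
  have hd : i = d := Maps.frame_unique D (hone i) hcomp
  subst hd
  have hb : b = i := by
    rcases Bool.eq_false_or_eq_true b with hb | hb <;> cases i <;> subst hb <;> try rfl
    all_goals
      rcases Bool.eq_false_or_eq_true c with hc | hc <;> subst hc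
      · first
          | exact absurd (Maps.frame_unique D hu (show D.Maps n.1 _ _ g from hg)) (by decide)
          | exact absurd (Maps.frame_unique D hf (show D.Maps n.1 _ _ u from hu)) (by decide)
          | exact absurd (Maps.frame_unique D hg (show D.Maps n.1 _ _ f from hf)) (by decide)
      · first
          | exact absurd (Maps.frame_unique D hu (show D.Maps n.1 _ _ g from hg)) (by decide)
          | exact absurd (Maps.frame_unique D hf (show D.Maps n.1 _ _ u from hu)) (by decide)
          | exact absurd (Maps.frame_unique D hg (show D.Maps n.1 _ _ f from hf)) (by decide)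
  subst hb
  have hff : ∀ k, f (f (f k)) = k := by
    intro k
    refine aEl_inj b _ _ (D.inj ?_)
    rw [← hf, ← hf, ← hf,
      show n.1 * (n.1 * (n.1 * D.j (aEl b k) * n.1⁻¹) * n.1⁻¹) * n.1⁻¹
        = n.1 * n.1 * n.1 * D.j (aEl b k) * (n.1 * n.1 * n.1)⁻¹ by group, hn3]
    group
  obtain ⟨k, hk, hGk⟩ := D.sylow_of_normalizer (by rw [hN]; norm_num)
  have huniq : ∀ r ∈ zList, IsConj (D.j (aEl false 6)) (D.j r) → r = aEl false 6 := by
    intro r hr hc
    obtain ⟨x, hx⟩ := isConj_iff.1 hc
    have hcen : ∀ m ∈ zList, D.T ≤ centralizer ({D.j m} : Set G) := fun m hm y hy => by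
      rw [mem_centralizer_singleton_iff]
      exact mul_inv_eq_iff_eq_mul.1 (D.commute_z hm hy)
    have hP : D.T.map (MulAut.conj x).toMonoidHom ≤ centralizer ({D.j r} : Set G) := by
      rintro _ ⟨y, hy, rfl⟩
      rw [mem_centralizer_singleton_iff]
      show x * y * x⁻¹ * D.j r = D.j r * (x * y * x⁻¹)
      rw [← hx, show x * y * x⁻¹ * (x * D.j (aEl false 6) * x⁻¹) = x * (y * D.j (aEl false 6)) * x⁻¹ by group,
        mem_centralizer_singleton_iff.1 (hcen _ (by decide +kernel) hy)]
      group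
    obtain ⟨y, hy, hyPQ⟩ := conj_of_card32 (X := centralizer ({D.j r} : Set G)) hk
      (hGk ▸ card_subgroup_dvd_card _) hP (hcen r hr)
      (by rw [card_map_of_injective (MulAut.conj x).injective, D.card_T]) D.card_T
    have hnm : y * x ∈ normalizer (D.T : Set G) := by
      rw [mem_normalizer_iff]
      intro w
      rw [show y * x * w * (y * x)⁻¹ = y * (x * w * x⁻¹) * y⁻¹ by group, ← hyPQ, map_conj_eq]
    have h1 := D.fix_z hnm
    rw [show y * x * D.j (aEl false 6) * (y * x)⁻¹ = y * (x * D.j (aEl false 6) * x⁻¹) * y⁻¹ by group, hx,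
      mul_inv_eq_iff_eq_mul.2 (mem_centralizer_singleton_iff.1 hy)] at h1
    exact D.inj h1
  have hD : ∀ k, IsConj (D.j (aEl false 6)) (D.j (aEl b k)) ↔ dSet k = true := by
    intro k
    constructor
    · intro hc
      have h2 : aEl b k * aEl b k = 1 := by
        rw [aEl_xr]
        have : ∀ k : Fin 16, xr k k = 0 := by decide +kernel
        rw [this, aEl_zero]
      obtain ⟨g, -, hgz, hcl⟩ := class_cover _ (mem_tList.2 (aEl_mem_T b k)) h2
      have h3 := huniq _ hgz (IsConj.trans hc (isConj_iff.2 ⟨D.j g, by simp⟩))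
      rw [h3] at hcl
      exact dSet_cls b k hcl
    · intro hk'
      obtain ⟨g, -, hg⟩ := dSet_conj b k hk'
      exact isConj_iff.2 ⟨D.j g, by rw [← hg]; simp⟩
  have hbad : badTriple j (f 1) (f 2) (f 8) = true := by
    simp only [badTriple, Bool.and_eq_true, decide_eq_true_iff, bne_iff_ne]
    refine ⟨⟨⟨Maps.zI D n.2 hf rfl, Maps.zI D n.2 hf rfl⟩, fun h8 => hnT ?_⟩, fun k => ?_⟩
    · refine D.NT_stab n.2 ?_
      rw [← Maps.eight D hf, h8, aEl_eight]; rfl
    · rw [← D.lin_form n.2 hf]
      refine ⟨hff k, ?_, ?_⟩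
      · rw [Bool.eq_iff_iff, hR, hR, ← D.inR_tab h (mem_tList.2 (aEl_mem_T _ _)),
          ← D.inR_tab h (mem_tList.2 (aEl_mem_T _ _))]
        exact (Maps.inR D hf k).symm
      · rw [Bool.eq_iff_iff, ← hD, ← hD]
        have hc : IsConj (D.j (aEl b k)) (D.j (aEl b (f k))) := isConj_iff.2 ⟨n.1, hf k⟩
        exact ⟨fun h' => IsConj.trans h' hc.symm, fun h' => IsConj.trans h' hc⟩
  rw [no_triple] at hbad
  exact Bool.noConfusion hbad

theorem not_five [Finite G] (h : D.HasPattern true true true true true) : False := by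
  have hN : Nat.card (normalizer (D.T : Set G)) = 192 := by
    rw [D.card_normalizer, D.zR_card h]
    have : (cand true true true true true).toFinset.card = 6 := by decide +kernel
    rw [this]
  obtain ⟨n, hn, hnT, hn2⟩ := D.exists_sq_mem (by rw [hN]; norm_num)
  obtain ⟨b, f, hf⟩ := D.exists_maps hn false
  obtain ⟨c, g, hg⟩ := D.exists_maps hn b
  obtain ⟨u, hu, huz⟩ := Maps.of_T D hn2 false
  have hZ : ∀ k, CentSixSeven.zI k = true → ∀ b : Bool, ∃ l, aEl false l = aEl b k ∧ CentSixSeven.zI l = true := by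
    decide +kernel
  -- transfer the map on the centre to the frame of index `false`
  have hex : ∀ k, CentSixSeven.zI k = true → ∃ l, CentSixSeven.zI l = true ∧
      n * D.j (aEl false k) * n⁻¹ = D.j (aEl false l) := by
    intro k hk
    obtain ⟨l, hl, hlz⟩ := hZ (f k) (Maps.zI D hn hf hk) b
    exact ⟨l, hlz, by rw [hf, hl]⟩
  obtain ⟨a1, ha1, e1⟩ := hex 1 rfl
  obtain ⟨a8, ha8, e8⟩ := hex 8 rfl
  have e6 : n * D.j (aEl false 6) * n⁻¹ = D.j (aEl false 6) := D.fix_z hn
  have hlin : ∀ k, CentSixSeven.zI k = true →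
      n * D.j (aEl false k) * n⁻¹ = D.j (aEl false (lin a1 0 6 a8 k)) := by
    have hdec : ∀ k, CentSixSeven.zI k = true →
        aEl false k = (if k.val % 2 = 1 then aEl false 1 else 1) * (if k.val / 4 % 2 = 1 then aEl false 6 else 1)
          * (if k.val / 8 = 1 then aEl false 8 else 1) := by decide +kernel
    have hlv : ∀ a1 a8 k, CentSixSeven.zI k = true →
        lin a1 0 6 a8 k = xr (xr (if k.val % 2 = 1 then a1 else 0) (if k.val / 4 % 2 = 1 then 6 else 0))
          (if k.val / 8 = 1 then a8 else 0) := by decide +kernel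
    intro k hk
    rw [hlv _ _ _ hk, ← aEl_xr, ← aEl_xr, hdec k hk, map_mul, map_mul, map_mul, map_mul,
      show ∀ x y z : G, n * (x * y * z) * n⁻¹ = n * x * n⁻¹ * (n * y * n⁻¹) * (n * z * n⁻¹) from
        fun x y z => by group]
    congr 1; congr 1
    · split_ifs <;> [exact e1; simp [aEl_zero]]
    · split_ifs <;> [exact e6; simp [aEl_zero]]
    · split_ifs <;> [exact e8; simp [aEl_zero]]
  have hl_zI : ∀ a1 a8 k, CentSixSeven.zI a1 = true → CentSixSeven.zI a8 = true →
      CentSixSeven.zI k = true → CentSixSeven.zI (lin a1 0 6 a8 k) = true := by decide +kernel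
  have hinv : ∀ k, CentSixSeven.zI k = true → k.val % 8 = 0 ∨ k.val % 8 = 1 →
      lin a1 0 6 a8 (lin a1 0 6 a8 k) = k := by
    intro k hk _
    refine aEl_inj false _ _ (D.inj ?_)
    rw [← hlin _ (hl_zI _ _ _ ha1 ha8 hk), ← hlin k hk,
      show n * (n * D.j (aEl false k) * n⁻¹) * n⁻¹ = n * n * D.j (aEl false k) * (n * n)⁻¹ by group]
    exact D.commute_z ((zI_iff false k).1 hk) hn2
  have hfree : ∀ k : Fin 16, CentSixSeven.zI k = true → D.InR (aEl false k) → lin a1 0 6 a8 k ≠ k := by
    intro k hk hR he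
    refine hnT (D.mem_T_of_fix hn ((zI_iff false k).1 hk) hR ?_)
    rw [hlin k hk, he]
  obtain ⟨h1, h7, h9, h14, h15⟩ := h
  rcases no_free_six a1 a8 ha1 ha8 hinv with e | e | e | e | e | e
  · exact hfree 1 rfl (h1.2 rfl) e
  · exact hfree 7 rfl (h7.2 rfl) e
  · exact hfree 8 rfl D.inR_eight e
  · exact hfree 9 rfl (h9.2 rfl) e
  · exact hfree 14 rfl (h14.2 rfl) e
  · exact hfree 15 rfl (h15.2 rfl) e

theorem card_N_of_pattern [Finite G] {qa qaz qta qtz qtaz : Bool} (h : D.HasPattern qa qaz qta qtz qtaz) :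
    Nat.card (normalizer (D.T : Set G)) = 32 * (cand qa qaz qta qtz qtaz).toFinset.card := by
  rw [D.card_normalizer, D.zR_card h]

/-- Only the patterns with one or three further classes remain. -/
theorem main_cases [Finite G] :
    (∃ K : Subgroup G, K.index = 2) ∨ D.HasPattern false false false true false ∨
      D.HasPattern true true false true false ∨ D.HasPattern false false true true true := by
  rcases D.pattern_cases with h | ⟨qa, qaz, qta, qtz, qtaz, h, hm⟩
  · exact Or.inl h
  simp only [List.mem_cons, Prod.mk.injEq, List.not_mem_nil, or_false] at hm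
  have h96 : ∀ {qa qaz qta qtz qtaz : Bool}, D.HasPattern qa qaz qta qtz qtaz →
      (cand qa qaz qta qtz qtaz).toFinset.card = 3 → Nat.card (normalizer (D.T : Set G)) = 96 :=
    fun h hc => by rw [D.card_N_of_pattern h, hc]
  rcases hm with ⟨rfl, rfl, rfl, rfl, rfl⟩ | ⟨rfl, rfl, rfl, rfl, rfl⟩ | ⟨rfl, rfl, rfl, rfl, rfl⟩ |
    ⟨rfl, rfl, rfl, rfl, rfl⟩ | ⟨rfl, rfl, rfl, rfl, rfl⟩ | ⟨rfl, rfl, rfl, rfl, rfl⟩ |
    ⟨rfl, rfl, rfl, rfl, rfl⟩ | ⟨rfl, rfl, rfl, rfl, rfl⟩
  · exact Or.inr (Or.inl h)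
  · exact Or.inr (Or.inr (Or.inl h))
  · exact Or.inr (Or.inr (Or.inr h))
  · exact (D.not_five h).elim
  · exact (D.not_triple false 0 h (fun k => (shape_ok k).1) (h96 h (by decide +kernel))).elim
  · exact (D.not_triple false 2 h (fun k => (shape_ok k).2.2.1) (h96 h (by decide +kernel))).elim
  · exact (D.not_triple false 1 h (fun k => (shape_ok k).2.1) (h96 h (by decide +kernel))).elim
  · exact (D.not_triple true 0 h (fun k => (shape_ok k).2.2.2) (h96 h (by decide +kernel))).elim

end Data

end CfsgLib.CentSixSeven
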