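import Cfsg.Agent.CentSixSeven.Patterns
import Cfsg.Agent.CentSixSeven.Orbits

/-!
The case of a single further class.
-/

set_option autoImplicit false
set_option linter.unusedSectionVars false
set_option linter.style.haveILetI false
set_option maxRecDepth 8000
set_option maxHeartbeats 2000000

namespace CfsgLib.CentSixSeven

open Subgroup MulAction

/-- The fused elements of `T` in this case. -/
def oneR (m : M6) : Bool := tabR (cand false false false true false) m

theorem oneR_count : (tList.toFinset.filter (fun m => oneR m = true)).card = 6 := by decide +kernel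

theorem oneR_bit : ∀ m ∈ tList, oneR m = true → m.1 = b1 := by decide +kernel

theorem tM_bit : tM.1 ≠ 1 := by decide

theorem b1_sq : b1 * b1 = 1 := by decide

/-- Generators of the even part of `T`. -/
def evenGens : List M6 := [aEl false 1, aEl false 3, aEl false 5, aEl true 3]

theorem evenGens_D : ∀ m ∈ evenGens, m = aEl false 1 ∨ oneR (tM * m) = true := by decide +kernel

theorem evenGens_gen : ∀ p ∈ tPerms, ∃ a : Bool, ∃ b : Bool, ∃ c : Bool, ∃ d : Bool,
    (if a then aEl false 1 else 1) * (if b then aEl false 3 else 1) * (if c then aEl false 5 else 1) *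
      (if d then aEl true 3 else 1) = ((1 : Multiplicative (ZMod 2)), p) := by
  decide +kernel

theorem a_image : ∀ a1 : Fin 16, zI a1 = true → lin a1 0 6 14 (lin a1 0 6 14 1) = 1 →
    a1 = 1 ∨ a1 = 7 := by
  decide +kernel

theorem one_zList : ∀ r ∈ zList, r ∈ cand false false false true false → r = tM ∨ r = aEl false 14 := by
  decide +kernel

namespace Data

variable {G : Type*} [Group G] (D : Data G)

theorem card_inR [Finite G] (f : M6 → Bool) (hf : ∀ m ∈ tList, (D.InR m ↔ f m = true)) :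
    Nat.card {y : G // IsConj D.t y ∧ y ∈ D.T} = (tList.toFinset.filter (fun m => f m = true)).card := by
  rw [← Fintype.card_coe, ← Nat.card_eq_fintype_card]
  refine (Nat.card_congr (Equiv.ofBijective
    (fun m => (⟨D.j m.1, ?_, ?_⟩ : {y : G // IsConj D.t y ∧ y ∈ D.T}))
    ⟨?_, ?_⟩)).symm
  · obtain ⟨hm, h1⟩ := Finset.mem_filter.1 m.2
    exact (hf _ (List.mem_toFinset.1 hm)).2 h1
  · obtain ⟨hm, -⟩ := Finset.mem_filter.1 m.2
    exact mem_map_of_mem _ (mem_tList.1 (List.mem_toFinset.1 hm))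
  · intro a b h
    exact Subtype.ext (D.inj (congrArg Subtype.val h))
  · rintro ⟨y, hy, hT⟩
    obtain ⟨m, hm, rfl⟩ := D.T_cases hT
    exact ⟨⟨m, Finset.mem_filter.2 ⟨List.mem_toFinset.2 hm, (hf m hm).1 hy⟩⟩, rfl⟩

theorem c_pos : 0 < D.c := D.c_odd.pos

theorem t_eq_aEl : D.t = D.j (aEl false 8) := by rw [aEl_eight]; rfl

theorem single_big [Finite G] (h : D.HasPattern false false false true false)
    (h128 : 128 ∣ Nat.card G) : ∃ K : Subgroup G, K.index = 2 := by
  have hf : Nat.card D.T * (6 * D.c)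
      = Nat.card (centralizer ({D.t} : Set G)) * Nat.card {y : G // IsConj D.t y ∧ y ∈ D.T} := by
    rw [D.card_inR oneR (fun m hm => D.inR_tab h hm), oneR_count, D.card_T,
      show Nat.card (centralizer ({D.t} : Set G)) = 32 * D.c from D.card]
    ring
  refine index_two_of_sign D.tt (6 * D.c) hf ?_
  have hle : 6 * D.c ≤ D.T.index := by
    have h1 := Nat.eq_of_mul_eq_mul_left Nat.card_pos (hf.trans (card_fix D.T D.t).symm)
    rw [h1, index_eq_card]
    exact Finite.card_subtype_le _
  have hI : 4 ∣ D.T.index := by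
    have h1 := card_mul_index D.T
    rw [D.card_T] at h1
    omega
  obtain ⟨l, hl⟩ := hI
  obtain ⟨i, hi⟩ := D.c_odd
  rw [Nat.odd_iff]
  omega

theorem N_card64 [Finite G] (h : D.HasPattern false false false true false) :
    Nat.card (normalizer (D.T : Set G)) = 64 := by
  rw [D.card_N_of_pattern h]
  have : (cand false false false true false).toFinset.card = 2 := by decide +kernel
  rw [this]

theorem N_index [Finite G] (h : D.HasPattern false false false true false) :
    ((D.T.subgroupOf (normalizer (D.T : Set G)))).index = 2 := by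
  have h1 := card_mul_index (D.T.subgroupOf (normalizer (D.T : Set G)))
  rw [Nat.card_congr (subgroupOfEquivOfLe le_normalizer).toEquiv, D.card_T, D.N_card64 h] at h1
  omega

theorem N_mul [Finite G] (h : D.HasPattern false false false true false) {x y : G}
    (hx : x ∈ normalizer (D.T : Set G)) (hy : y ∈ normalizer (D.T : Set G)) (hxT : x ∉ D.T) (hyT : y ∉ D.T) :
    x * y ∈ D.T :=
  (mul_mem_iff_of_index_two (D.N_index h) (a := ⟨x, hx⟩) (b := ⟨y, hy⟩)).2 (iff_of_false hxT hyT)

/-- An element outside `T` moves `t` to `tz`. -/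
theorem move_t [Finite G] (h : D.HasPattern false false false true false) {x : G}
    (hx : x ∈ normalizer (D.T : Set G)) (hxT : x ∉ D.T) : x * D.t * x⁻¹ = D.j (aEl false 14) := by
  obtain ⟨m, hm, he⟩ := D.conj_zList hx (m := tM) (by decide +kernel)
  have hR : D.InR m := isConj_iff.2 ⟨x, he⟩
  rcases one_zList m hm ((D.inR_zList h hm).1 hR) with rfl | rfl
  · exact absurd (D.NT_stab hx he) hxT
  · exact he

/-- An element outside `T` maps `a` to `a` or `az`. -/
theorem move_a [Finite G] (h : D.HasPattern false false false true false) {x : G}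
    (hx : x ∈ normalizer (D.T : Set G)) (hxT : x ∉ D.T) :
    x * D.j (aEl false 1) * x⁻¹ = D.j (aEl false 1) ∨ x * D.j (aEl false 1) * x⁻¹ = D.j (aEl false 7) := by
  obtain ⟨m, hm, he⟩ := D.conj_zList hx (m := aEl false 1) (by decide +kernel)
  obtain ⟨a1, rfl, ha1⟩ := z_index m hm false
  have hz : ∀ a : Fin 16, CentSixSeven.zI a = true → aEl false a =
      (if a.val % 2 = 1 then aEl false 1 else 1) * (if a.val / 4 % 2 = 1 then aEl false 6 else 1)
        * (if a.val / 8 = 1 then aEl false 8 else 1) := by decide +kernel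
  have hl : ∀ a1 : Fin 16, CentSixSeven.zI a1 = true → lin a1 0 6 14 1 = a1 ∧
      lin a1 0 6 14 (lin a1 0 6 14 1) =
        xr (xr (if a1.val % 2 = 1 then a1 else 0) (if a1.val / 4 % 2 = 1 then 6 else 0))
          (if a1.val / 8 = 1 then 14 else 0) := by decide +kernel
  have h2 : lin a1 0 6 14 (lin a1 0 6 14 1) = 1 := by
    refine aEl_inj false _ _ (D.inj ?_)
    rw [(hl a1 ha1).2, ← aEl_xr, ← aEl_xr, map_mul, map_mul]
    have e : x * D.j (aEl false a1) * x⁻¹ = D.j (aEl false 1) := by
      rw [← he, show x * (x * D.j (aEl false 1) * x⁻¹) * x⁻¹ = x * x * D.j (aEl false 1) * (x * x)⁻¹ by group]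
      exact D.commute_z (by decide +kernel) (D.N_mul h hx hx hxT hxT)
    rw [← e, hz a1 ha1, map_mul, map_mul,
      show ∀ a b c : G, x * (a * b * c) * x⁻¹ = x * a * x⁻¹ * (x * b * x⁻¹) * (x * c * x⁻¹) from
        fun a b c => by group]
    congr 1; congr 1
    · split_ifs <;> simp [aEl_zero, he]
    · split_ifs <;> simp [aEl_zero, D.fix_z hx]
    · split_ifs <;> simp [aEl_zero, ← D.t_eq_aEl, D.move_t h hx hxT]
  rcases a_image a1 ha1 h2 with rfl | rfl
  · exact Or.inl he
  · exact Or.inr he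

/-- The even part of `T`. -/
def evenT : Subgroup M6 := TM ⊓ (MonoidHom.fst (Multiplicative (ZMod 2)) (Equiv.Perm (Fin 6))).ker

theorem bit_preserved [Finite G] (h : D.HasPattern false false false true false) {x : G}
    (hx : x ∈ normalizer (D.T : Set G)) {m m' : M6} (hm : m ∈ TM) (he : x * D.j m * x⁻¹ = D.j m')
    (h0 : m.1 = 1) : m'.1 = 1 := by
  by_cases hxT : x ∈ D.T
  · obtain ⟨b, hb, rfl⟩ := D.T_cases hxT
    rw [← map_inv, ← map_mul, ← map_mul] at he
    rw [← D.inj he]
    simp [h0]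
  have hgen : ∀ g ∈ evenGens, ∃ g' ∈ TM, x * D.j g * x⁻¹ = D.j g' ∧ g'.1 = 1 := by
    intro g hg
    have hgT : g ∈ TM := by
      have : ∀ g ∈ evenGens, g ∈ tList := by decide +kernel
      exact mem_tList.1 (this g hg)
    rcases evenGens_D g hg with rfl | hD
    · rcases D.move_a h hx hxT with e | e
      · exact ⟨_, aEl_mem_T _ _, e, rfl⟩
      · exact ⟨_, aEl_mem_T _ _, e, rfl⟩
    · obtain ⟨g', hg', hge⟩ := D.exists_of_normalizer TM hx hgT
      refine ⟨g', hg', hge, ?_⟩
      have hR : D.InR (tM * g) := (D.inR_tab h (mem_tList.2 (mul_mem tM_mem hgT))).2 hD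
      have himg : x * D.j (tM * g) * x⁻¹ = D.j (aEl false 14 * g') := by
        rw [map_mul, map_mul, ← D.move_t h hx hxT, ← hge]
        simp only [Data.t]; group
      have hR' : D.InR (aEl false 14 * g') := IsConj.trans hR (isConj_iff.2 ⟨x, himg⟩)
      have hb := oneR_bit _ (mem_tList.2 (mul_mem (aEl_mem_T _ _) hg'))
        ((D.inR_tab h (mem_tList.2 (mul_mem (aEl_mem_T _ _) hg'))).1 hR')
      rcases bit_cases g'.1 with e | e
      · exact e
      · exfalso
        rw [show (aEl false 14 * g').1 = (aEl false 14).1 * g'.1 from rfl, e] at hb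
        exact absurd hb (by decide +kernel)
  obtain ⟨m1, m2⟩ := m
  subst h0
  obtain ⟨a, b, c, d, hd⟩ := evenGens_gen m2 hm
  rw [← hd] at he
  obtain ⟨g1, -, e1, f1⟩ := hgen (aEl false 1) (by simp [evenGens])
  obtain ⟨g3, -, e3, f3⟩ := hgen (aEl false 3) (by simp [evenGens])
  obtain ⟨g5, -, e5, f5⟩ := hgen (aEl false 5) (by simp [evenGens])
  obtain ⟨g9, -, e9, f9⟩ := hgen (aEl true 3) (by simp [evenGens])
  have hval : D.j m' = D.j ((if a then g1 else 1) * (if b then g3 else 1) * (if c then g5 else 1) *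
      (if d then g9 else 1)) := by
    rw [← he, map_mul, map_mul, map_mul, map_mul, map_mul, map_mul,
      show ∀ p q r s : G, x * (p * q * r * s) * x⁻¹
        = x * p * x⁻¹ * (x * q * x⁻¹) * (x * r * x⁻¹) * (x * s * x⁻¹) from fun p q r s => by group]
    cases a <;> cases b <;> cases c <;> cases d <;> simp [e1, e3, e5, e9]
  rw [D.inj hval]
  cases a <;> cases b <;> cases c <;> cases d <;> simp [f1, f3, f5, f9]

theorem evenT_card : Nat.card evenT = 16 := by
  have e : Nat.card evenT = (tList.toFinset.filter (fun m => m.1 = 1)).card := by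
    rw [Nat.subtype_card _ (fun m => ?_)]
    rw [Finset.mem_filter, List.mem_toFinset, mem_tList]
    rfl
  rw [e]; decide +kernel

theorem exists_outside_big [Finite G] (h : D.HasPattern false false false true false)
    (hnone : ∀ u ∈ normalizer (D.T : Set G), IsConj D.t u → u ∉ D.T →
      Nat.card ↥(normalizer (D.T : Set G) ⊓ centralizer ({u} : Set G)) ≠ 32) :
    ∃ K : Subgroup G, K.index = 2 := by
  classical
  haveI : Fact (Nat.Prime 2) := ⟨Nat.prime_two⟩
  let N : Subgroup G := normalizer (D.T : Set G)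
  let E : Subgroup N := (evenT.map D.j).subgroupOf N
  haveI hEn : E.Normal := by
    constructor
    intro e he g
    obtain ⟨m, hm, hme⟩ := he
    obtain ⟨m', hm', heq⟩ := D.exists_of_normalizer TM g.2 hm.1
    refine ⟨m', ⟨hm', ?_⟩, ?_⟩
    · exact D.bit_preserved h g.2 hm.1 heq hm.2
    · rw [← heq, hme]; simp
  have hEle : evenT.map D.j ≤ N := (map_mono inf_le_left).trans le_normalizer
  have hEcard : Nat.card E = 16 := by
    rw [Nat.card_congr (subgroupOfEquivOfLe hEle).toEquiv, card_map_of_injective D.inj, evenT_card]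
  have hQ : Nat.card (N ⧸ E) = 2 ^ 2 := by
    have h1 := Subgroup.card_eq_card_quotient_mul_card_subgroup E
    rw [show Nat.card N = 64 from D.N_card64 h, hEcard] at h1
    omega
  letI : CommGroup (N ⧸ E) := IsPGroup.commGroupOfCardEqPrimeSq hQ
  haveI : Fintype (N ⧸ E) := Fintype.ofFinite _
  let φ : N →* N ⧸ E := QuotientGroup.mk' E
  let τ : N ⧸ E := φ ⟨D.t, le_normalizer D.t_mem⟩
  have hτ : τ ≠ 1 := by
    intro hc
    obtain ⟨m, hm, hme⟩ := (QuotientGroup.eq_one_iff _).1 hc
    have hm1 : m = tM := D.inj hme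
    exact tM_bit (hm1 ▸ hm.2 : tM.1 = 1)
  -- elements of `T` fused to `t` have value `τ`
  have hTval : ∀ y, IsConj D.t y → ∀ hy : y ∈ D.T, φ ⟨y, le_normalizer hy⟩ = τ := by
    intro y hyR hy
    obtain ⟨m, hm, rfl⟩ := D.T_cases hy
    have hb := oneR_bit m hm ((D.inR_tab h hm).1 hyR)
    refine (QuotientGroup.eq).2 ⟨m * tM, ⟨mul_mem (mem_tList.1 hm) tM_mem, ?_⟩, ?_⟩
    · show m.1 * b1 = 1
      rw [hb]; exact b1_sq
    · show D.j (m * tM) = (D.j m)⁻¹ * D.t
      have hinv : (D.j m)⁻¹ = D.j m := inv_eq_of_mul_eq_one_right (D.inv_of_conj hyR)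
      rw [hinv, map_mul]; rfl
  let X : N ⧸ E → Type _ := fun a => {y : G // IsConj D.t y ∧ ∃ hy : y ∈ N, φ ⟨y, hy⟩ = a}
  let Y : N ⧸ E → G → Prop := fun a y => IsConj D.t y ∧ y ∉ D.T ∧ ∃ hy : y ∈ N, φ ⟨y, hy⟩ = a
  have h4 : ∀ a, 4 ∣ Nat.card {y : G // Y a y} := by
    intro a
    refine dvd_card_invariant N (Y a) ?_ ?_
    · rintro g hg y ⟨hR, hT, hy, hv⟩
      refine ⟨IsConj.trans hR (isConj_iff.2 ⟨g, rfl⟩), fun hc => hT ((mem_normalizer_iff.1 hg y).2 hc),
        mul_mem (mul_mem hg hy) (inv_mem hg), ?_⟩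
      have : (⟨g * y * g⁻¹, mul_mem (mul_mem hg hy) (inv_mem hg)⟩ : N) = ⟨g, hg⟩ * ⟨y, hy⟩ * ⟨g, hg⟩⁻¹ :=
        Subtype.ext rfl
      rw [this, map_mul, map_mul, map_inv, mul_comm (φ _) (φ ⟨y, hy⟩), mul_inv_cancel_right, hv]
    · rintro y ⟨hR, hT, hy, -⟩
      obtain ⟨k, hk, hk'⟩ := (Nat.dvd_prime_pow Nat.prime_two).1
        (show Nat.card ↥(N ⊓ centralizer ({y} : Set G)) ∣ 2 ^ 6 by
          rw [show (2 : ℕ) ^ 6 = Nat.card N by rw [show Nat.card N = 64 from D.N_card64 h]; norm_num]
          exact card_dvd_of_le inf_le_left)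
      have h5 := D.dvd32_of_le_centralizer hR inf_le_right hk'
      have hne := hnone y hy hR hT
      rw [hk'] at hne
      have hk4 : k ≤ 4 := by
        by_contra hc
        exact hne (by rw [show k = 5 by omega]; norm_num)
      rw [hk', show Nat.card N = 64 from D.N_card64 h, show (4 : ℕ) = 2 ^ 2 by norm_num,
        show (64 : ℕ) = 2 ^ 6 by norm_num, ← pow_add]
      exact pow_dvd_pow 2 (by omega)
  have hsplit : ∀ a, Nat.card (X a) = Nat.card {y : G // Y a y} + if a = τ then 6 else 0 := by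
    intro a
    have e := Nat.card_congr (Equiv.sumCompl (fun y : X a => y.1 ∉ D.T)).symm
    rw [e, Nat.card_sum]
    congr 1
    · exact Nat.card_congr
        { toFun := fun y => ⟨y.1.1, y.1.2.1, y.2, y.1.2.2⟩
          invFun := fun y => ⟨⟨y.1, y.2.1, y.2.2.2⟩, y.2.2.1⟩
          left_inv := fun _ => rfl
          right_inv := fun _ => rfl }
    · split_ifs with ha
      · subst ha
        rw [← oneR_count, ← D.card_inR oneR (fun m hm => D.inR_tab h hm)]
        exact Nat.card_congr
          { toFun := fun y => ⟨y.1.1, y.1.2.1, not_not.1 y.2⟩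
            invFun := fun y => ⟨⟨y.1, y.2.1, le_normalizer y.2.2, hTval _ y.2.1 y.2.2⟩, not_not.2 y.2.2⟩
            left_inv := fun _ => rfl
            right_inv := fun _ => rfl }
      · haveI : IsEmpty {y : X a // ¬ y.1 ∉ D.T} :=
          ⟨fun y => ha (by
            obtain ⟨hy, hv⟩ := y.1.2.2
            rw [← hv, ← hTval _ y.1.2.1 (not_not.1 y.2)])⟩
        exact Nat.card_of_isEmpty
  let e : N ⧸ E → ℕ := fun a => D.c * (Nat.card (X a) / 2)
  have htr := transfer_eq_prod_pow φ D.tt e (fun a => by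
    show Nat.card N * e a = Nat.card (centralizer ({D.t} : Set G)) * Nat.card (X a)
    rw [show Nat.card N = 64 from D.N_card64 h,
      show Nat.card (centralizer ({D.t} : Set G)) = 32 * D.c from D.card]
    obtain ⟨l, hl⟩ := h4 a
    have hX := hsplit a
    have h2 : 2 ∣ Nat.card (X a) := by rw [hX]; split_ifs <;> omega
    obtain ⟨i, hi⟩ := h2
    show 64 * (D.c * (Nat.card (X a) / 2)) = 32 * D.c * Nat.card (X a)
    rw [hi, Nat.mul_div_cancel_left i (by norm_num)]
    ring)
  refine index_two_of_hom (IsPGroup.of_card hQ) (MonoidHom.transfer φ) (x := D.t) ?_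
  rw [htr, Finset.prod_eq_single τ]
  · have hodd : Odd (e τ) := by
      refine D.c_odd.mul ?_
      obtain ⟨l, hl⟩ := h4 τ
      rw [hsplit τ, if_pos rfl, hl, Nat.odd_iff]; omega
    obtain ⟨l, hl⟩ := hodd
    have hsq : τ ^ 2 = 1 := by
      rw [← map_pow, show ((⟨D.t, le_normalizer D.t_mem⟩ : N)) ^ 2 = 1 from
        Subtype.ext (by simp [sq, D.tt]), map_one]
    rw [hl, pow_succ, pow_mul, hsq, one_pow, one_mul]
    exact hτ
  · intro a _ ha
    obtain ⟨l, hl⟩ := h4 a
    have hev : e a = 2 * (D.c * l) := by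
      show D.c * (Nat.card (X a) / 2) = _
      rw [hsplit a, if_neg ha, hl, show (4 * l + 0) / 2 = 2 * l by omega]; ring
    rcases Nat.eq_zero_or_pos (Nat.card (X a)) with h0 | h0
    · show a ^ (D.c * (Nat.card (X a) / 2)) = 1
      rw [h0]; simp
    · haveI := (Nat.card_pos_iff.1 h0).1
      obtain ⟨⟨y, hyR, hy, hv⟩⟩ := ‹Nonempty (X a)›
      rw [hev, pow_mul, ← hv, ← map_pow, show ((⟨y, hy⟩ : N)) ^ 2 = 1 from
        Subtype.ext (by simp [sq, D.inv_of_conj hyR]), map_one, one_pow]
  · intro hc; exact absurd (Finset.mem_univ _) hc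

end Data

end CfsgLib.CentSixSeven
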