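import Cfsg.Agent.CentSixSeven.Data

/-!
Transfer into `T` restricts the classes fused to `t`.
-/

set_option autoImplicit false
set_option linter.unusedSectionVars false
set_option linter.style.haveILetI false
set_option maxRecDepth 8000

namespace CfsgLib.CentSixSeven

open Subgroup MulAction

/-- The second character of `T`: whether the last two points are exchanged. -/
def chiA (m : M6) : Multiplicative (ZMod 2) := if m.2 4 = 5 then b1 else 1

def chiB (k : Bool) (m : M6) : Multiplicative (ZMod 2) :=
  match k with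
  | false => m.1
  | true => chiA m

theorem chiA_perms : ∀ a ∈ tPerms, ∀ b ∈ tPerms,
    chiA ((1 : Multiplicative (ZMod 2)), a * b) = chiA (1, a) * chiA (1, b) := by decide +kernel

theorem chiB_mul (k : Bool) : ∀ a ∈ TM, ∀ b ∈ TM, chiB k (a * b) = chiB k a * chiB k b := by
  intro a ha b hb
  cases k
  · rfl
  · exact chiA_perms _ ha _ hb

/-- Prescribed conjugacy data: which classes of central involutions are fused to `t`. -/
def tabR (s : List M6) (m : M6) : Bool :=
  decide (m * m = 1) && s.any (fun r => decide (cls r = cls m))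

/-- The candidates: `t` together with some of `a, az, ta, tz, taz`. -/
def cand (qa qaz qta qtz qtaz : Bool) : List M6 :=
  aEl false 8 :: ((if qa then [aEl false 1] else []) ++ (if qaz then [aEl false 7] else []) ++
    (if qta then [aEl false 9] else []) ++ (if qtz then [aEl false 14] else []) ++
    (if qtaz then [aEl false 15] else []))

def cnt (qa qaz qta qtz qtaz : Bool) (k : Bool) : ℕ :=
  (tList.toFinset.filter (fun m => tabR (cand qa qaz qta qtz qtaz) m = true ∧ chiB k m = b1)).card

theorem cand_sub : ∀ qa qaz qta qtz qtaz, ∀ r ∈ cand qa qaz qta qtz qtaz, r ∈ zList := by decide +kernel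

theorem cand_iff : ∀ qa qaz qta qtz qtaz,
    aEl false 0 ∉ cand qa qaz qta qtz qtaz ∧ aEl false 6 ∉ cand qa qaz qta qtz qtaz ∧
    aEl false 8 ∈ cand qa qaz qta qtz qtaz ∧
    decide (aEl false 1 ∈ cand qa qaz qta qtz qtaz) = qa ∧ decide (aEl false 7 ∈ cand qa qaz qta qtz qtaz) = qaz ∧
    decide (aEl false 9 ∈ cand qa qaz qta qtz qtaz) = qta ∧ decide (aEl false 14 ∈ cand qa qaz qta qtz qtaz) = qtz ∧
    decide (aEl false 15 ∈ cand qa qaz qta qtz qtaz) = qtaz := by
  decide +kernel

theorem patterns : ∀ qa qaz qta qtz qtaz,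
    cnt qa qaz qta qtz qtaz false % 2 = 0 → cnt qa qaz qta qtz qtaz true % 2 = 0 →
    (qa, qaz, qta, qtz, qtaz) ∈
      [(false, false, false, true, false), (true, true, false, true, false),
       (false, false, true, true, true), (true, true, true, true, true),
       (true, false, true, false, false), (true, false, false, false, true),
       (false, true, true, false, false), (false, true, false, false, true)] := by
  decide +kernel

namespace Data

variable {G : Type*} [Group G] (D : Data G)

/-- A function multiplicative on `T`, as a homomorphism on the image. -/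
noncomputable def phiOf (k : Bool) : D.T →* Multiplicative (ZMod 2) :=
  MonoidHom.comp
    { toFun := fun m : TM => chiB k m.1
      map_one' := by cases k <;> rfl
      map_mul' := fun a b => chiB_mul k _ a.2 _ b.2 }
    (TM.equivMapOfInjective D.j D.inj).symm.toMonoidHom

theorem phiOf_apply (k : Bool) {m : M6} (hm : m ∈ TM) (h : D.j m ∈ D.T) :
    D.phiOf k ⟨D.j m, h⟩ = chiB k m := by
  have : (TM.equivMapOfInjective D.j D.inj).symm ⟨D.j m, h⟩ = ⟨m, hm⟩ := by
    rw [MulEquiv.symm_apply_eq]; rfl
  show chiB k ((TM.equivMapOfInjective D.j D.inj).symm ⟨D.j m, h⟩).1 = _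
  rw [this]

theorem inR_iff_class [Finite G] {m : M6} (hm : m ∈ tList) :
    D.InR m ↔ m * m = 1 ∧ ∃ r ∈ zList, cls r = cls m ∧ D.InR r := by
  have key : m * m = 1 → ∃ r ∈ zList, cls r = cls m ∧ (D.InR r ↔ D.InR m) := by
    intro h2
    obtain ⟨g, -, hg, hcl⟩ := class_cover m hm h2
    refine ⟨_, hg, hcl, ?_⟩
    have hconj : IsConj (D.j m) (D.j (g * m * g⁻¹)) := isConj_iff.2 ⟨D.j g, by simp⟩
    exact ⟨fun h => IsConj.trans h hconj.symm, fun h => IsConj.trans h hconj⟩
  constructor
  · intro h
    obtain ⟨r, hr, hc, hiff⟩ := key (D.sq_of_inR h)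
    exact ⟨D.sq_of_inR h, r, hr, hc, hiff.2 h⟩
  · rintro ⟨h2, r, hr, hc, hR⟩
    obtain ⟨r', hr', hc', hiff⟩ := key h2
    exact hiff.1 (cls_inj r' hr' r hr (hc'.trans hc.symm) ▸ hR)

theorem card_val [Finite G] (f : M6 → Bool) (hf : ∀ m ∈ tList, (D.InR m ↔ f m = true)) (k : Bool) :
    Nat.card {y : G // IsConj D.t y ∧ ∃ h : y ∈ D.T, D.phiOf k ⟨y, h⟩ = b1}
      = (tList.toFinset.filter (fun m => f m = true ∧ chiB k m = b1)).card := by
  rw [← Fintype.card_coe, ← Nat.card_eq_fintype_card]
  refine (Nat.card_congr (Equiv.ofBijective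
    (fun m => (⟨D.j m.1, ?_, ⟨?_, ?_⟩⟩ : {y : G // IsConj D.t y ∧ ∃ h : y ∈ D.T, D.phiOf k ⟨y, h⟩ = b1}))
    ⟨?_, ?_⟩)).symm
  · obtain ⟨hm, h1, -⟩ := Finset.mem_filter.1 m.2
    exact (hf _ (List.mem_toFinset.1 hm)).2 h1
  · obtain ⟨hm, -, -⟩ := Finset.mem_filter.1 m.2
    exact mem_map_of_mem _ (mem_tList.1 (List.mem_toFinset.1 hm))
  · obtain ⟨hm, -, h2⟩ := Finset.mem_filter.1 m.2
    rw [D.phiOf_apply k (mem_tList.1 (List.mem_toFinset.1 hm))]; exact h2
  · intro a b h
    exact Subtype.ext (D.inj (congrArg Subtype.val h))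
  · rintro ⟨y, hy, hT, hv⟩
    obtain ⟨m, hm, rfl⟩ := D.T_cases hT
    rw [D.phiOf_apply k (mem_tList.1 hm)] at hv
    exact ⟨⟨m, Finset.mem_filter.2 ⟨List.mem_toFinset.2 hm, (hf m hm).1 hy, hv⟩⟩, rfl⟩

theorem index_two_of_odd [Finite G] (f : M6 → Bool) (hf : ∀ m ∈ tList, (D.InR m ↔ f m = true))
    (k : Bool) (hodd : (tList.toFinset.filter (fun m => f m = true ∧ chiB k m = b1)).card % 2 = 1) :
    ∃ K : Subgroup G, K.index = 2 := by
  classical
  let e : Multiplicative (ZMod 2) → ℕ := fun a =>
    D.c * Nat.card {y : G // IsConj D.t y ∧ ∃ h : y ∈ D.T, D.phiOf k ⟨y, h⟩ = a}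
  have htr := transfer_eq_prod_pow (D.phiOf k) D.tt e (fun a => by
    show Nat.card D.T * e a = _
    rw [D.card_T, show Nat.card (centralizer ({D.t} : Set G)) = 32 * D.c from D.card, mul_assoc])
  refine index_two_of_hom ?_ (MonoidHom.transfer (D.phiOf k)) (x := D.t) ?_
  · intro a; refine ⟨1, ?_⟩
    rcases bit_cases a with rfl | rfl <;> decide
  · rw [htr, show (Finset.univ : Finset (Multiplicative (ZMod 2))) = {1, b1} by decide,
      Finset.prod_insert (by decide), Finset.prod_singleton, one_pow, one_mul]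
    have he : Odd (e b1) := by
      refine D.c_odd.mul ?_
      rw [D.card_val f hf k]; exact Nat.odd_iff.2 hodd
    obtain ⟨l, hl⟩ := he
    rw [hl, pow_succ, pow_mul, show b1 ^ 2 = (1 : Multiplicative (ZMod 2)) by decide, one_pow, one_mul]
    decide

/-- The classes of the five candidate involutions. -/
def HasPattern (qa qaz qta qtz qtaz : Bool) : Prop :=
  (D.InR (aEl false 1) ↔ qa = true) ∧ (D.InR (aEl false 7) ↔ qaz = true) ∧
  (D.InR (aEl false 9) ↔ qta = true) ∧ (D.InR (aEl false 14) ↔ qtz = true) ∧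
  (D.InR (aEl false 15) ↔ qtaz = true)

theorem inR_eight : D.InR (aEl false 8) := by
  rw [aEl_eight]; exact IsConj.refl _

theorem inR_zList [Finite G] {qa qaz qta qtz qtaz : Bool} (h : D.HasPattern qa qaz qta qtz qtaz)
    {r : M6} (hr : r ∈ zList) : D.InR r ↔ r ∈ cand qa qaz qta qtz qtaz := by
  obtain ⟨h1, h7, h9, h14, h15⟩ := h
  have h0 : ¬ D.InR (aEl false 0) := fun hh => D.ne_one_of_conj hh (by rw [aEl_zero, map_one])
  have h6 := D.z_not_inR
  have h8 := D.inR_eight
  obtain ⟨c0, c6, c8, c1, c7, c9, c14, c15⟩ := cand_iff qa qaz qta qtz qtaz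
  simp only [zList, List.map_cons, List.map_nil, List.mem_cons, List.not_mem_nil, or_false] at hr
  rcases hr with rfl | rfl | rfl | rfl | rfl | rfl | rfl | rfl
  · exact iff_of_false h0 c0
  · exact h1.trans ⟨fun h => of_decide_eq_true (c1.trans h), fun h => c1.symm.trans (decide_eq_true h)⟩
  · exact iff_of_false h6 c6
  · exact h7.trans ⟨fun h => of_decide_eq_true (c7.trans h), fun h => c7.symm.trans (decide_eq_true h)⟩
  · exact iff_of_true h8 c8
  · exact h9.trans ⟨fun h => of_decide_eq_true (c9.trans h), fun h => c9.symm.trans (decide_eq_true h)⟩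
  · exact h14.trans ⟨fun h => of_decide_eq_true (c14.trans h), fun h => c14.symm.trans (decide_eq_true h)⟩
  · exact h15.trans ⟨fun h => of_decide_eq_true (c15.trans h), fun h => c15.symm.trans (decide_eq_true h)⟩

theorem inR_tab [Finite G] {qa qaz qta qtz qtaz : Bool} (h : D.HasPattern qa qaz qta qtz qtaz)
    {m : M6} (hm : m ∈ tList) : D.InR m ↔ tabR (cand qa qaz qta qtz qtaz) m = true := by
  rw [D.inR_iff_class hm, tabR, Bool.and_eq_true, decide_eq_true_iff, List.any_eq_true]
  refine and_congr_right fun _ => ?_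
  constructor
  · rintro ⟨r, hr, hc, hR⟩
    exact ⟨r, (D.inR_zList h hr).1 hR, by simpa using hc⟩
  · rintro ⟨r, hr, hc⟩
    have hrz : r ∈ zList := cand_sub _ _ _ _ _ r hr
    exact ⟨r, hrz, by simpa using hc, (D.inR_zList h hrz).2 hr⟩

/-- Either there is a subgroup of index 2, or the classes fused to `t` follow one of eight patterns. -/
theorem pattern_cases [Finite G] :
    (∃ K : Subgroup G, K.index = 2) ∨ ∃ qa qaz qta qtz qtaz, D.HasPattern qa qaz qta qtz qtaz ∧
      (qa, qaz, qta, qtz, qtaz) ∈
      [(false, false, false, true, false), (true, true, false, true, false),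
       (false, false, true, true, true), (true, true, true, true, true),
       (true, false, true, false, false), (true, false, false, false, true),
       (false, true, true, false, false), (false, true, false, false, true)] := by
  classical
  have h : D.HasPattern (decide (D.InR (aEl false 1))) (decide (D.InR (aEl false 7)))
      (decide (D.InR (aEl false 9))) (decide (D.InR (aEl false 14))) (decide (D.InR (aEl false 15))) := by
    simp [HasPattern]
  by_cases h1 : cnt (decide (D.InR (aEl false 1))) (decide (D.InR (aEl false 7)))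
      (decide (D.InR (aEl false 9))) (decide (D.InR (aEl false 14))) (decide (D.InR (aEl false 15))) false % 2 = 0
  · by_cases h2 : cnt (decide (D.InR (aEl false 1))) (decide (D.InR (aEl false 7)))
        (decide (D.InR (aEl false 9))) (decide (D.InR (aEl false 14))) (decide (D.InR (aEl false 15))) true % 2 = 0
    · exact Or.inr ⟨_, _, _, _, _, h, patterns _ _ _ _ _ h1 h2⟩
    · exact Or.inl (D.index_two_of_odd _ (fun m hm => D.inR_tab h hm) true
        (Nat.mod_two_ne_zero.1 h2))
  · exact Or.inl (D.index_two_of_odd _ (fun m hm => D.inR_tab h hm) false (Nat.mod_two_ne_zero.1 h1))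

theorem zR_card [Finite G] {qa qaz qta qtz qtaz : Bool} (h : D.HasPattern qa qaz qta qtz qtaz) :
    D.zR.card = (cand qa qaz qta qtz qtaz).toFinset.card := by
  classical
  congr 1
  ext r
  rw [zR, Finset.mem_filter, List.mem_toFinset, List.mem_toFinset]
  constructor
  · rintro ⟨hr, hR⟩; exact (D.inR_zList h hr).1 hR
  · intro hr
    have hrz : r ∈ zList := cand_sub _ _ _ _ _ r hr
    exact ⟨hrz, (D.inR_zList h hrz).2 hr⟩

end Data

end CfsgLib.CentSixSeven
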